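import Mathlib
import Cfsg.Agent.Lib.Helper14.MinNonNilp

set_option autoImplicit false

namespace Cfsg.Agent.Lib.Helper12

open scoped Pointwise commutatorElement
open Cfsg.Agent.Lib.Helper14

universe u

section counting

variable {G : Type u} [Group G]

/-- The nonidentity elements of the conjugates of `M`. -/
def conjSet (M : Subgroup G) : Set G := {y | y ≠ 1 ∧ ∃ g : G, g⁻¹ * y * g ∈ M}

/-- For a subgroup meeting its conjugates trivially the conjugates cover
`|G : M| (|M| - 1)` nonidentity elements. -/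
theorem ncard_conjSet (M : Subgroup G)
    (hTI : ∀ g : G, g ∉ M → ∀ x ∈ M, g⁻¹ * x * g ∈ M → x = 1) :
    (conjSet M).ncard = M.index * (Nat.card M - 1) := by
  classical
  let F : (G ⧸ M) × M → G := fun cx => cx.1.out * (cx.2 : G) * (cx.1.out)⁻¹
  let S : Set ((G ⧸ M) × M) := (Set.univ : Set (G ⧸ M)) ×ˢ ((Set.univ : Set M) \ {1})
  have himg : conjSet M = F '' S := by
    ext y
    constructor
    · rintro ⟨hy1, g, hg⟩
      obtain ⟨m, hm⟩ := QuotientGroup.mk_out_eq_mul M g
      refine ⟨((g : G ⧸ M), ⟨(m : G)⁻¹ * (g⁻¹ * y * g) * m, ?_⟩), ⟨Set.mem_univ _, ⟨Set.mem_univ _, ?_⟩⟩, ?_⟩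
      · exact M.mul_mem (M.mul_mem (M.inv_mem m.2) hg) m.2
      · intro h
        apply hy1
        have h1 : (m : G)⁻¹ * (g⁻¹ * y * g) * m = 1 := congrArg Subtype.val h
        have : y = g * m * ((m : G)⁻¹ * (g⁻¹ * y * g) * m) * (g * m)⁻¹ := by group
        rw [this, h1]; group
      · show Quotient.out (g : G ⧸ M) * ((m : G)⁻¹ * (g⁻¹ * y * g) * m) * (Quotient.out (g : G ⧸ M))⁻¹ = y
        rw [hm]; group
    · rintro ⟨⟨c, x⟩, ⟨-, -, hx⟩, rfl⟩
      refine ⟨?_, c.out, ?_⟩
      · intro h
        apply hx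
        have h1 : (x : G) = 1 := by
          have : (x : G) = (c.out)⁻¹ * (c.out * (x : G) * (c.out)⁻¹) * c.out := by group
          rw [this]
          show (c.out)⁻¹ * F (c, x) * c.out = 1
          rw [h]; group
        exact Subtype.ext h1
      · show (c.out)⁻¹ * (c.out * (x : G) * (c.out)⁻¹) * c.out ∈ M
        have : (c.out)⁻¹ * (c.out * (x : G) * (c.out)⁻¹) * c.out = x := by group
        rw [this]; exact x.2
  have hinj : Set.InjOn F S := by
    rintro ⟨c, x⟩ ⟨-, -, hx⟩ ⟨d, y⟩ ⟨-, -, hy⟩ h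
    have hx1 : (x : G) ≠ 1 := fun h1 => hx (Subtype.ext h1)
    simp only [F] at h
    set g := c.out with hg
    set k := d.out with hk
    have hmem : k⁻¹ * g ∈ M := by
      by_contra hn
      apply hx1
      have hn' : (k⁻¹ * g)⁻¹ ∉ M := fun h' => hn (by simpa using M.inv_mem h')
      refine hTI _ hn' x x.2 ?_
      have : ((k⁻¹ * g)⁻¹)⁻¹ * (x : G) * (k⁻¹ * g)⁻¹ = k⁻¹ * (g * x * g⁻¹) * k := by group
      rw [this, h]
      have : k⁻¹ * (k * (y : G) * k⁻¹) * k = y := by group
      rw [this]; exact y.2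
    have hcd : c = d := by
      rw [← QuotientGroup.out_eq' c, ← QuotientGroup.out_eq' d]
      exact (QuotientGroup.eq.mpr (by simpa [hg, hk] using hmem)).symm
    subst hcd
    have : (x : G) = y := by
      have h2 : g = k := rfl
      rw [h2] at h
      exact mul_left_cancel (mul_right_cancel h)
    exact Prod.ext rfl (Subtype.ext this)
  rw [himg, hinj.ncard_image, Set.ncard_prod, Set.ncard_univ,
    Set.ncard_sdiff_singleton_of_mem (Set.mem_univ _), Set.ncard_univ, Subgroup.index_eq_card]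

end counting

section simple

variable {G : Type u} [Group G]

theorem mem_conj_smul {M : Subgroup G} {g x : G} :
    x ∈ MulAut.conj g • M ↔ g⁻¹ * x * g ∈ M := by
  rw [Subgroup.mem_pointwise_smul_iff_inv_smul_mem, ← map_inv, MulAut.smul_def,
    MulAut.conj_apply, inv_inv]

theorem isCoatom_conj_smul {M : Subgroup G} (g : G) (hM : IsCoatom M) :
    IsCoatom (MulAut.conj g • M) :=
  ((MulAut.conj g).mapSubgroup.isCoatom_iff M).mpr hM

theorem card_lt_of_lt' [Finite G] {I J : Subgroup G} (h : I < J) : Nat.card I < Nat.card J := by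
  have := Set.ncard_lt_ncard (SetLike.coe_ssubset_coe.mpr h) (Set.toFinite _)
  simpa [← Nat.card_coe_set_eq] using this

variable [Finite G]

theorem coatom_inf_eq_bot (hsub : ∀ H : Subgroup G, H ≠ ⊤ → Group.IsNilpotent H)
    (hsimple : ∀ N : Subgroup G, N.Normal → N = ⊥ ∨ N = ⊤) :
    ∀ k, ∀ M₁ M₂ : Subgroup G, IsCoatom M₁ → IsCoatom M₂ → M₁ ≠ M₂ →
      Nat.card G - Nat.card (M₁ ⊓ M₂ : Subgroup G) = k → M₁ ⊓ M₂ = ⊥ := by
  intro k
  induction k using Nat.strong_induction_on with
  | _ k IH =>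
  intro M₁ M₂ h1 h2 hne hk
  by_contra hI
  set I := M₁ ⊓ M₂ with hIdef
  have key : ∀ M' M'' : Subgroup G, IsCoatom M' → IsCoatom M'' → M' ≠ M'' → I = M' ⊓ M'' →
      ∀ M : Subgroup G, IsCoatom M → Subgroup.normalizer (I : Set G) ≤ M → M = M' := by
    intro M' M'' h1' h2' hne' hI' M hM hNM
    by_contra hMM'
    have hIlt : I < M' := by
      refine lt_of_le_of_ne (hI' ▸ inf_le_left) ?_
      intro h
      have : M' ≤ M'' := by rw [← h, hI']; exact inf_le_right
      rcases (h1'.le_iff).mp this with h3 | h3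
      · exact h2'.1 h3
      · exact hne' h3.symm
    have hnil := hsub M' h1'.1
    have hnc := Group.normalizerCondition_of_isNilpotent (G := M')
    have hlt : I.subgroupOf M' < ⊤ := by
      rw [lt_top_iff_ne_top]
      intro h
      rw [Subgroup.subgroupOf_eq_top] at h
      exact absurd (le_antisymm hIlt.le h) hIlt.ne
    have h3 := hnc _ hlt
    obtain ⟨x, hxN, hxI⟩ := SetLike.exists_of_lt h3
    rw [← Subgroup.subgroupOf_normalizer_eq hIlt.le] at hxN
    have hxN' : (x : G) ∈ Subgroup.normalizer (I : Set G) := hxN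
    have hxI' : (x : G) ∉ I := hxI
    have hlt2 : I < M ⊓ M' := by
      refine lt_of_le_of_ne (le_inf (Subgroup.le_normalizer.trans hNM) hIlt.le) ?_
      intro h
      apply hxI'
      rw [h]
      exact ⟨hNM hxN', x.2⟩
    have hc := card_lt_of_lt' hlt2
    have hle : Nat.card (M ⊓ M' : Subgroup G) ≤ Nat.card G := Subgroup.card_le_card_group _
    have := IH (Nat.card G - Nat.card (M ⊓ M' : Subgroup G)) (by omega) M M' hM h1' hMM' rfl
    rw [this] at hlt2
    exact hI (le_bot_iff.mp hlt2.le)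
  have hNtop : Subgroup.normalizer (I : Set G) ≠ ⊤ := by
    intro h
    have hIn : I.Normal := Subgroup.normalizer_eq_top_iff.mp h
    rcases hsimple I hIn with h3 | h3
    · exact hI h3
    · exact h1.1 (top_le_iff.mp (h3 ▸ (inf_le_left : I ≤ M₁)))
  obtain ⟨M, hM, hNM⟩ := (eq_top_or_exists_le_coatom _).resolve_left hNtop
  have e1 := key M₁ M₂ h1 h2 hne rfl M hM hNM
  have e2 := key M₂ M₁ h2 h1 hne.symm (inf_comm _ _) M hM hNM
  exact hne (e1.symm.trans e2)

theorem false_of_simple_of_proper_nilpotent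
    (hsub : ∀ H : Subgroup G, H ≠ ⊤ → Group.IsNilpotent H)
    (hsimple : ∀ N : Subgroup G, N.Normal → N = ⊥ ∨ N = ⊤)
    (hnc : ∃ a b : G, a * b ≠ b * a) : False := by
  have hTIpair : ∀ M₁ M₂ : Subgroup G, IsCoatom M₁ → IsCoatom M₂ → M₁ ≠ M₂ → M₁ ⊓ M₂ = ⊥ :=
    fun M₁ M₂ h1 h2 hne => coatom_inf_eq_bot hsub hsimple _ M₁ M₂ h1 h2 hne rfl
  have hncyc : ∀ x : G, Subgroup.zpowers x ≠ ⊤ := by
    intro x hx
    obtain ⟨a, b, hab⟩ := hnc
    have ha : a ∈ Subgroup.zpowers x := hx ▸ Subgroup.mem_top a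
    have hb : b ∈ Subgroup.zpowers x := hx ▸ Subgroup.mem_top b
    obtain ⟨i, rfl⟩ := Subgroup.mem_zpowers_iff.mp ha
    obtain ⟨j, rfl⟩ := Subgroup.mem_zpowers_iff.mp hb
    exact hab ((Commute.refl x).zpow_zpow i j).eq
  have hexM : ∀ x : G, ∃ M : Subgroup G, IsCoatom M ∧ x ∈ M := by
    intro x
    obtain ⟨M, hM, hle⟩ := (eq_top_or_exists_le_coatom _).resolve_left (hncyc x)
    exact ⟨M, hM, hle (Subgroup.mem_zpowers x)⟩
  have hMbot : ∀ M : Subgroup G, IsCoatom M → M ≠ ⊥ := by
    intro M hM hbot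
    obtain ⟨a, b, hab⟩ := hnc
    have h1 : ∀ x : G, x = 1 := by
      intro x
      have : M ≤ Subgroup.zpowers x := hbot ▸ bot_le
      rcases (hM.le_iff).mp this with h | h
      · exact absurd h (hncyc x)
      · rw [hbot] at h
        exact Subgroup.zpowers_eq_bot.mp h
    exact hab (by rw [h1 a, h1 b])
  have hTI : ∀ M : Subgroup G, IsCoatom M → ∀ g : G, g ∉ M → ∀ x ∈ M, g⁻¹ * x * g ∈ M → x = 1 := by
    intro M hM g hg x hx hgx
    by_cases hMM : MulAut.conj g • M = M
    · exfalso
      have hgn : g ∈ Subgroup.normalizer (M : Set G) := by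
        rw [Subgroup.mem_normalizer_iff]
        intro n
        have h1 : g * n * g⁻¹ ∈ MulAut.conj g • M ↔ n ∈ M := by
          rw [mem_conj_smul]
          have : g⁻¹ * (g * n * g⁻¹) * g = n := by group
          rw [this]
        rw [hMM] at h1
        exact h1.symm
      have hNM : Subgroup.normalizer (M : Set G) = M := by
        rcases (hM.le_iff).mp (Subgroup.le_normalizer (H := M)) with h | h
        · exfalso
          have hMn : M.Normal := Subgroup.normalizer_eq_top_iff.mp h
          rcases hsimple M hMn with h3 | h3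
          · exact hMbot M hM h3
          · exact hM.1 h3
        · exact h
      rw [hNM] at hgn
      exact hg hgn
    · have h1 := hTIpair _ _ (isCoatom_conj_smul g hM) hM hMM
      have h2 : x ∈ MulAut.conj g • M ⊓ M := ⟨mem_conj_smul.mpr hgx, hx⟩
      rw [h1] at h2
      exact (Subgroup.mem_bot.mp h2)
  obtain ⟨M, hM, -⟩ := hexM 1
  have hcount : ∀ M : Subgroup G, IsCoatom M →
      (conjSet M).ncard = Nat.card G - M.index := by
    intro M hM
    rw [ncard_conjSet M (hTI M hM), Nat.mul_sub, mul_one, Subgroup.index_mul_card]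
  have hidx : ∀ M : Subgroup G, IsCoatom M → 2 ≤ M.index ∧ 2 * M.index ≤ Nat.card G := by
    intro M hM
    have h0 : M.index ≠ 0 := Subgroup.index_ne_zero_of_finite
    have h1 : M.index ≠ 1 := fun h => hM.1 (Subgroup.index_eq_one.mp h)
    have h2 : Nat.card M ≠ 1 := fun h => hMbot M hM (Subgroup.card_eq_one.mp h)
    have h3 : Nat.card M ≠ 0 := Nat.card_pos.ne'
    have h4 : M.index * Nat.card M = Nat.card G := Subgroup.index_mul_card M
    refine ⟨by omega, ?_⟩
    have h5 : 2 ≤ Nat.card M := by omega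
    nlinarith
  have hsubset : ∀ M : Subgroup G, conjSet M ⊆ {y : G | y ≠ 1} := fun M y hy => hy.1
  have hcard1 : ({y : G | y ≠ 1} : Set G).ncard = Nat.card G - 1 := by
    have : {y : G | y ≠ 1} = Set.univ \ {1} := by ext; simp
    rw [this, Set.ncard_sdiff_singleton_of_mem (Set.mem_univ _), Set.ncard_univ]
  have hpos : 0 < Nat.card G := Nat.card_pos
  obtain ⟨y, hy1, hyM⟩ : ∃ y : G, y ≠ 1 ∧ y ∉ conjSet M := by
    by_contra hcon
    push Not at hcon
    have hss : {y : G | y ≠ 1} ⊆ conjSet M := fun y hy => hcon y hy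
    have h1 := Set.ncard_le_ncard hss (Set.toFinite _)
    rw [hcard1, hcount M hM] at h1
    obtain ⟨ha, hn⟩ := hidx M hM
    omega
  obtain ⟨M', hM', hyM'⟩ := hexM y
  have hdisj : Disjoint (conjSet M) (conjSet M') := by
    rw [Set.disjoint_left]
    rintro z ⟨hz1, g, hg⟩ ⟨-, h, hh⟩
    apply hyM
    have e : MulAut.conj g • M = MulAut.conj h • M' := by
      by_contra hne
      have h3 := hTIpair _ _ (isCoatom_conj_smul g hM) (isCoatom_conj_smul h hM') hne
      have hz : z ∈ MulAut.conj g • M ⊓ MulAut.conj h • M' :=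
        ⟨mem_conj_smul.mpr hg, mem_conj_smul.mpr hh⟩
      rw [h3] at hz
      exact hz1 (Subgroup.mem_bot.mp hz)
    refine ⟨hy1, h⁻¹ * g, ?_⟩
    have h1 : h * y * h⁻¹ ∈ MulAut.conj h • M' := by
      rw [mem_conj_smul]
      have : h⁻¹ * (h * y * h⁻¹) * h = y := by group
      rw [this]; exact hyM'
    rw [← e, mem_conj_smul] at h1
    have : (h⁻¹ * g)⁻¹ * y * (h⁻¹ * g) = g⁻¹ * (h * y * h⁻¹) * g := by group
    rw [this]; exact h1
  have hunion : (conjSet M ∪ conjSet M').ncard = (conjSet M).ncard + (conjSet M').ncard :=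
    Set.ncard_union_eq hdisj (Set.toFinite _) (Set.toFinite _)
  have hle : (conjSet M ∪ conjSet M').ncard ≤ Nat.card G - 1 := by
    rw [← hcard1]
    exact Set.ncard_le_ncard (Set.union_subset (hsubset M) (hsubset M')) (Set.toFinite _)
  rw [hunion, hcount M hM, hcount M' hM'] at hle
  obtain ⟨ha, hn⟩ := hidx M hM
  obtain ⟨ha', hn'⟩ := hidx M' hM'
  omega

end simple

section solvable

theorem isSolvable_of_proper_nilpotent_aux : ∀ n : ℕ, ∀ (G : Type u) [Group G] [Finite G],
    Nat.card G = n → (∀ H : Subgroup G, H ≠ ⊤ → Group.IsNilpotent H) → Group.IsSolvable G := by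
  intro n
  induction n using Nat.strong_induction_on with
  | _ n IH =>
  intro G _ _ hn hsub
  by_cases hs : ∀ N : Subgroup G, N.Normal → N = ⊥ ∨ N = ⊤
  · by_cases hc : ∀ a b : G, a * b = b * a
    · exact Group.isSolvable_of_comm hc
    · push Not at hc
      exact (false_of_simple_of_proper_nilpotent hsub hs hc).elim
  · push Not at hs
    obtain ⟨N, hN, hbot, htop⟩ := hs
    have hNnil := hsub N htop
    have hNsol : Group.IsSolvable N := inferInstance
    have hlt : Nat.card (G ⧸ N) < n := by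
      have h1 := Subgroup.card_eq_card_quotient_mul_card_subgroup N
      have h2 : Nat.card N ≠ 1 := fun h => hbot (Subgroup.card_eq_one.mp h)
      have h3 : 0 < Nat.card N := Nat.card_pos
      have h4 : 0 < Nat.card (G ⧸ N) := Nat.card_pos
      have h5 : 2 ≤ Nat.card N := by omega
      rw [← hn, h1]
      nlinarith
    have hQ : Group.IsSolvable (G ⧸ N) := by
      refine IH _ hlt (G ⧸ N) rfl ?_
      intro K hK
      have hne : K.comap (QuotientGroup.mk' N) ≠ ⊤ := by
        intro h
        apply hK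
        rw [← Subgroup.map_comap_eq_self_of_surjective (QuotientGroup.mk'_surjective N) K, h,
          ← MonoidHom.range_eq_map, MonoidHom.range_eq_top.mpr (QuotientGroup.mk'_surjective N)]
      have := hsub _ hne
      exact Group.nilpotent_of_surjective ((QuotientGroup.mk' N).subgroupComap K)
        ((QuotientGroup.mk' N).subgroupComap_surjective_of_surjective K
          (QuotientGroup.mk'_surjective N))
    exact Group.isSolvable_of_ker_le_range N.subtype (QuotientGroup.mk' N) (by simp)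

theorem isSolvable_of_proper_nilpotent {G : Type u} [Group G] [Finite G]
    (hsub : ∀ H : Subgroup G, H ≠ ⊤ → Group.IsNilpotent H) : Group.IsSolvable G :=
  isSolvable_of_proper_nilpotent_aux _ G rfl hsub

end solvable

section struct

variable {G : Type u} [Group G] [Finite G]

/-- A nontrivial finite solvable group has a normal subgroup of prime index. -/
theorem exists_normal_prime_index [hsol : Group.IsSolvable G] [Nontrivial G] :
    ∃ M : Subgroup G, M.Normal ∧ M.index.Prime := by
  have hlt := Group.IsSolvable.commutator_lt_top_of_nontrivial G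
  obtain ⟨M, hM, hle⟩ := (eq_top_or_exists_le_coatom _).resolve_left hlt.ne
  have hMn : M.Normal := by
    refine ⟨fun m hm g => ?_⟩
    have h1 : ⁅g, m⁆ ∈ commutator G := by
      rw [commutator_def]
      exact Subgroup.commutator_mem_commutator (Subgroup.mem_top g) (Subgroup.mem_top m)
    have h2 : g * m * g⁻¹ = ⁅g, m⁆ * m := by
      rw [commutatorElement_def]; group
    rw [h2]
    exact M.mul_mem (hle h1) hm
  refine ⟨M, hMn, ?_⟩
  have hk1 : M.index ≠ 1 := fun h => hM.1 (Subgroup.index_eq_one.mp h)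
  set p := M.index.minFac with hp
  have hpp : p.Prime := Nat.minFac_prime hk1
  have : Fact p.Prime := ⟨hpp⟩
  have hdvd : p ∣ Nat.card (G ⧸ M) := by
    rw [← Subgroup.index_eq_card]; exact Nat.minFac_dvd _
  obtain ⟨c, hc⟩ := exists_prime_orderOf_dvd_card' p hdvd
  obtain ⟨x, rfl⟩ := QuotientGroup.mk_surjective c
  have hxM : x ∉ M := by
    intro hx
    have : (QuotientGroup.mk x : G ⧸ M) = 1 := (QuotientGroup.eq_one_iff x).mpr hx
    rw [this, orderOf_one] at hc
    exact hpp.one_lt.ne hc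
  set H := (Subgroup.zpowers (QuotientGroup.mk x : G ⧸ M)).comap (QuotientGroup.mk' M) with hH
  have hMH : M ≤ H := by
    intro m hm
    show (QuotientGroup.mk' M m) ∈ Subgroup.zpowers _
    have : QuotientGroup.mk' M m = 1 := (QuotientGroup.eq_one_iff m).mpr hm
    rw [this]; exact Subgroup.one_mem _
  have hxH : x ∈ H := Subgroup.mem_zpowers _
  have hHtop : H = ⊤ := by
    rcases (hM.le_iff).mp hMH with h | h
    · exact h
    · exact absurd (h ▸ hxH) hxM
  have hz : Subgroup.zpowers (QuotientGroup.mk x : G ⧸ M) = ⊤ := by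
    rw [← Subgroup.map_comap_eq_self_of_surjective (QuotientGroup.mk'_surjective M)
      (Subgroup.zpowers (QuotientGroup.mk x : G ⧸ M)), ← hH, hHtop, ← MonoidHom.range_eq_map,
      MonoidHom.range_eq_top.mpr (QuotientGroup.mk'_surjective M)]
  have : Nat.card (G ⧸ M) = p := by
    rw [← hc, ← Nat.card_zpowers, hz, Subgroup.card_top]
  rw [Subgroup.index_eq_card, this]
  exact hpp

/-- Schmidt: structure of a finite minimal non-nilpotent group. -/
theorem schmidt_structure (hnil : ¬ Group.IsNilpotent G)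
    (hsub : ∀ H : Subgroup G, H ≠ ⊤ → Group.IsNilpotent H) :
    ∃ p q : ℕ, p.Prime ∧ q.Prime ∧ p ≠ q ∧ ∃ (P : Sylow p G) (Q : Sylow q G),
      IsCyclic P ∧ (Q : Subgroup G).Normal ∧ (P : Subgroup G) ⊔ Q = ⊤ := by
  classical
  have hsol : Group.IsSolvable G := isSolvable_of_proper_nilpotent hsub
  have hnt : Nontrivial G := by
    by_contra h
    rw [not_nontrivial_iff_subsingleton] at h
    exact hnil inferInstance
  obtain ⟨M, hMn, hMp⟩ := exists_normal_prime_index (G := G)
  set p := M.index with hp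
  have : Fact p.Prime := ⟨hMp⟩
  have hMtop : M ≠ ⊤ := by
    intro h
    rw [h, Subgroup.index_top] at hp
    exact hMp.one_lt.ne hp.symm
  have hMnil := hsub M hMtop
  -- normal Sylow subgroups for the other primes
  have hnormal : ∀ q : ℕ, ∀ hq : Fact q.Prime, q ≠ p → ∃ Q : Sylow q G, (Q : Subgroup G).Normal := by
    intro q hq hqp
    have hQ₀ : Nonempty (Sylow q M) := inferInstance
    obtain ⟨Q₀⟩ := hQ₀
    have h03 := (Group.isNilpotent_of_finite_tfae (G := M)).out 0 3
    have hQ₀n : (Q₀ : Subgroup M).Normal := h03.mp hMnil q hq Q₀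
    have hchar : (Q₀ : Subgroup M).Characteristic := Sylow.characteristic_of_normal Q₀ hQ₀n
    have hn : ((Q₀ : Subgroup M).map M.subtype).Normal :=
      ConjAct.normal_of_characteristic_of_normal
    have hpg : IsPGroup q ((Q₀ : Subgroup M).map M.subtype) := Q₀.2.map _
    have hidx : ¬ q ∣ ((Q₀ : Subgroup M).map M.subtype).index := by
      rw [Subgroup.index_map_subtype]
      intro h
      rcases (Nat.Prime.dvd_mul hq.out).mp h with h | h
      · exact Q₀.not_dvd_index h
      · exact hqp ((Nat.prime_dvd_prime_iff_eq hq.out hMp).mp h)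
    refine ⟨hpg.toSylow hidx, ?_⟩
    rw [IsPGroup.toSylow_coe]
    exact hn
  obtain ⟨P⟩ : Nonempty (Sylow p G) := inferInstance
  have hPn : ¬ (P : Subgroup G).Normal := by
    intro hPn
    apply hnil
    have h03 := (Group.isNilpotent_of_finite_tfae (G := G)).out 0 3
    refine h03.mpr ?_
    intro r hr R
    by_cases hrp : r = p
    · subst hrp
      have := Sylow.unique_of_normal P hPn
      rw [Subsingleton.elim R P]
      exact hPn
    · obtain ⟨Q, hQ⟩ := hnormal r hr hrp
      have := Sylow.unique_of_normal Q hQ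
      rw [Subsingleton.elim R Q]
      exact hQ
  have hPnorm : Subgroup.normalizer ((P : Subgroup G) : Set G) ≠ ⊤ := fun h =>
    hPn (Subgroup.normalizer_eq_top_iff.mp h)
  obtain ⟨q, hq, hqp, Q, hQn, hPQ⟩ : ∃ q : ℕ, ∃ hq : Fact q.Prime, q ≠ p ∧ ∃ Q : Sylow q G,
      (Q : Subgroup G).Normal ∧ (P : Subgroup G) ⊔ Q = ⊤ := by
    by_contra hcon
    push Not at hcon
    apply hPnorm
    apply eq_top_of_forall_sylow_le
    intro r hr
    by_cases hrp : r = p
    · subst hrp
      exact ⟨P, Subgroup.le_normalizer⟩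
    · obtain ⟨Q, hQ⟩ := hnormal r hr hrp
      refine ⟨Q, ?_⟩
      have hne := hcon r hr hrp Q hQ
      have hnil' := hsub _ hne
      have := le_centralizer_of_nilpotent_of_pgroups (q := p) (r := r) (Ne.symm hrp) hnil'
        (le_sup_left : (P : Subgroup G) ≤ _) (le_sup_right : (Q : Subgroup G) ≤ _) P.2 Q.2
      exact this.trans (Subgroup.centralizer_le_normalizer _)
  have := hq
  have hdisj : (P : Subgroup G) ⊓ Q = ⊥ :=
    disjoint_iff.mp (IsPGroup.disjoint_of_ne p q (Ne.symm hqp) _ _ P.2 Q.2)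
  refine ⟨p, q, hMp, hq.out, Ne.symm hqp, P, Q, ?_, hQn, hPQ⟩
  by_contra hcyc
  apply hPnorm
  rw [eq_top_iff, ← hPQ]
  refine sup_le Subgroup.le_normalizer ?_
  refine le_trans ?_ (Subgroup.centralizer_le_normalizer _)
  intro u hu
  rw [Subgroup.mem_centralizer_iff]
  intro x hx
  have hxP : Subgroup.zpowers x ≤ (P : Subgroup G) := by
    rw [Subgroup.zpowers_le]; exact hx
  have hne : Subgroup.zpowers x ⊔ (Q : Subgroup G) ≠ ⊤ := by
    intro htop
    apply hcyc
    refine ⟨⟨⟨x, hx⟩, ?_⟩⟩
    intro y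
    have hy : (y : G) ∈ Subgroup.zpowers x ⊔ (Q : Subgroup G) := htop ▸ Subgroup.mem_top _
    have := hQn
    rw [← SetLike.mem_coe, Subgroup.mul_normal] at hy
    obtain ⟨a, ha, v, hv, hav'⟩ := hy
    have hav : a * v = (y : G) := hav'
    have hvP : v ∈ (P : Subgroup G) := by
      have : v = a⁻¹ * (y : G) := by rw [← hav]; group
      rw [this]
      exact (P : Subgroup G).mul_mem ((P : Subgroup G).inv_mem (hxP ha)) y.2
    have hv1 : v = 1 := by
      have : v ∈ (P : Subgroup G) ⊓ Q := ⟨hvP, hv⟩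
      rw [hdisj] at this
      exact Subgroup.mem_bot.mp this
    rw [hv1, mul_one] at hav
    obtain ⟨k, hk⟩ := Subgroup.mem_zpowers_iff.mp ha
    refine Subgroup.mem_zpowers_iff.mpr ⟨k, ?_⟩
    apply Subtype.ext
    rw [Subgroup.coe_zpow]
    exact hk.trans hav
  have hnil' := hsub _ hne
  have hxp : IsPGroup p (Subgroup.zpowers x) := P.2.to_le hxP
  have := le_centralizer_of_nilpotent_of_pgroups (q := p) (r := q) (Ne.symm hqp) hnil'
    (le_sup_left : Subgroup.zpowers x ≤ _) (le_sup_right : (Q : Subgroup G) ≤ _) hxp Q.2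
  have h2 := this hu
  rw [Subgroup.mem_centralizer_iff] at h2
  exact h2 x (Subgroup.mem_zpowers x)

end struct

end Cfsg.Agent.Lib.Helper12
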