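import Mathlib
import Cfsg.Prelude.Def_LieExceptional
import Cfsg.Agent.Lib.Helper33.CNFrob
import Cfsg.Agent.Lib.Helper72.Basic
import Cfsg.Agent.S1477
import Cfsg.Agent.Lib.Helper57.GTFam

/-!
# Maximal nilpotent subgroups of finite CN-groups

`H` is a *maximal nilpotent subgroup* (`MaxNilp H`) when it is nilpotent and contained in no larger
nilpotent subgroup.  In a finite CN-group such subgroups are Hall subgroups (S1477); two of them are
conjugate or have coprime orders, and "some `p`-element commutes with some `q`-element" is a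
transitive relation on the primes.
-/

set_option autoImplicit false
set_option linter.unusedSectionVars false
set_option linter.style.haveILetI false
open Cfsg
open scoped Pointwise

namespace Cfsg.Agent.Lib.Helper12.CNMaxNilp

variable {G : Type*} [Group G]

/-- maximal nilpotent subgroup -/
def MaxNilp (H : Subgroup G) : Prop :=
  Group.IsNilpotent ↥H ∧ ∀ L : Subgroup G, Group.IsNilpotent L → H ≤ L → L = H

theorem exists_maxNilp_ge [Finite G] (Y : Subgroup G) (hY : Group.IsNilpotent ↥Y) :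
    ∃ H : Subgroup G, Y ≤ H ∧ MaxNilp H := by
  obtain ⟨H, hYH, hH⟩ := Finite.exists_le_maximal
    (p := fun L : Subgroup G => Group.IsNilpotent ↥L) hY
  refine ⟨H, hYH, hH.1, fun L hL hHL => ?_⟩
  exact le_antisymm (hH.2 hL hHL) hHL

/-- conjugates of maximal nilpotent subgroups are maximal nilpotent -/
theorem MaxNilp.conj {H : Subgroup G} (h : MaxNilp H) (g : G) :
    MaxNilp (H.map (MulAut.conj g).toMonoidHom) := by
  have e : H ≃* H.map (MulAut.conj g).toMonoidHom :=
    H.equivMapOfInjective _ (MulAut.conj g).injective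
  refine ⟨(Group.isNilpotent_congr e).mp h.1, fun L hL hle => ?_⟩
  have e' : L ≃* L.map (MulAut.conj g⁻¹).toMonoidHom :=
    L.equivMapOfInjective _ (MulAut.conj g⁻¹).injective
  have h1 : H ≤ L.map (MulAut.conj g⁻¹).toMonoidHom := by
    intro x hx
    refine ⟨g * x * g⁻¹, hle ⟨x, hx, rfl⟩, ?_⟩
    simp; group
  have h2 := h.2 _ ((Group.isNilpotent_congr e').mp hL) h1
  apply le_antisymm _ hle
  intro y hy
  have : g⁻¹ * y * g ∈ H := by
    rw [← h2]
    exact ⟨y, hy, by simp⟩
  exact ⟨g⁻¹ * y * g, this, by simp [MulAut.conj_apply]; group⟩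

/-- a nontrivial element centralizing a maximal nilpotent subgroup `H` of a CN-group has
centralizer `H` -/
theorem MaxNilp.centralizer_eq (hCN : Cfsg.IsCNGroup G) {H : Subgroup G} (h : MaxNilp H)
    (z : G) (hz1 : z ≠ 1) (hzc : ∀ x ∈ H, x * z = z * x) :
    Subgroup.centralizer ({z} : Set G) = H := by
  apply h.2 _ (hCN z hz1)
  intro x hx
  rw [Subgroup.mem_centralizer_iff]
  intro y hy
  rw [Set.mem_singleton_iff] at hy
  rw [hy]; exact (hzc x hx).symm

/-- Hall property -/
theorem MaxNilp.coprime [Finite G] (hCN : Cfsg.IsCNGroup G) {H : Subgroup G} (h : MaxNilp H) :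
    (Nat.card H).Coprime H.index :=
  (Cfsg.Agent.S1477.result hCN H h.1 h.2).1

/-- a Hall subgroup contains a Sylow `p`-subgroup of `G` for each prime `p` dividing its order -/
theorem exists_sylow_le_of_hall [Finite G] {H : Subgroup G}
    (hH : (Nat.card H).Coprime H.index) (p : ℕ) [Fact p.Prime] (hp : p ∣ Nat.card H) :
    ∃ S : Sylow p G, (S : Subgroup G) ≤ H := by
  obtain ⟨T⟩ : Nonempty (Sylow p ↥H) := inferInstance
  have hpg : IsPGroup p ↥((T : Subgroup ↥H).map H.subtype) := T.isPGroup'.map _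
  have hidx : ¬ p ∣ ((T : Subgroup ↥H).map H.subtype).index := by
    rw [Subgroup.index_map_subtype]
    intro hd
    rcases (Nat.Prime.dvd_mul Fact.out).mp hd with h1 | h1
    · exact T.not_dvd_index h1
    · have := Nat.Coprime.eq_one_of_dvd (hH.coprime_dvd_left hp) h1
      exact (Fact.out : p.Prime).one_lt.ne' this
  exact ⟨hpg.toSylow hidx, Subgroup.map_subtype_le _⟩

/-- in a nilpotent subgroup `H` containing the Sylow `p`-subgroup `S` of `G`, every `p`-element of `H`
lies in `S` -/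
theorem mem_sylow_of_nilpotent [Finite G] {H : Subgroup G} (hH : Group.IsNilpotent ↥H)
    {p : ℕ} [Fact p.Prime] (S : Sylow p G) (hSH : (S : Subgroup G) ≤ H) {u : G} (huH : u ∈ H)
    {k : ℕ} (huk : u ^ p ^ k = 1) : u ∈ (S : Subgroup G) := by
  haveI := hH
  have hT : ¬ p ∣ ((S : Subgroup G).subgroupOf H).index := by
    intro hd
    have h1 : ((S : Subgroup G).subgroupOf H).index ∣ (S : Subgroup G).index := by
      rw [← Subgroup.relIndex]
      exact Subgroup.relIndex_dvd_index_of_le hSH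
    exact S.not_dvd_index (hd.trans h1)
  have hTp : IsPGroup p ↥((S : Subgroup G).subgroupOf H) :=
    S.isPGroup'.comap_of_injective _ (Subgroup.subtype_injective _)
  have hR : IsPGroup p ↥(Subgroup.zpowers (⟨u, huH⟩ : ↥H)) := by
    have ho : orderOf (⟨u, huH⟩ : ↥H) ∣ p ^ k := by
      apply orderOf_dvd_of_pow_eq_one
      apply Subtype.ext
      rw [Subgroup.coe_pow, Subgroup.coe_one]; exact huk
    obtain ⟨j, -, hj⟩ := (Nat.dvd_prime_pow Fact.out).mp ho
    apply IsPGroup.of_card (n := j)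
    rw [Nat.card_zpowers, hj]
  have := Cfsg.Agent.Lib.Helper33.le_sylow_of_isNilpotent (hTp.toSylow hT)
    (Subgroup.zpowers (⟨u, huH⟩ : ↥H)) hR (Subgroup.mem_zpowers _)
  exact this

/-- an element centralizing a Sylow `p`-subgroup `S ≤ H` of `G`, lying in `S`, is central in the
nilpotent subgroup `H` -/
theorem central_of_central_sylow [Finite G] {H : Subgroup G} (hH : Group.IsNilpotent ↥H)
    {p : ℕ} [Fact p.Prime] (S : Sylow p G) (hSH : (S : Subgroup G) ≤ H) (z : G)
    (hzS : z ∈ (S : Subgroup G)) (hzc : ∀ s ∈ (S : Subgroup G), s * z = z * s) :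
    ∀ x ∈ H, x * z = z * x := by
  intro x hx
  obtain ⟨y, u, hxyu, hy, hu, hycop, k, huk⟩ :=
    Cfsg.Agent.Lib.Helper72.exists_coprime_part_decomp p x
  have hxH : Subgroup.zpowers x ≤ H := (Subgroup.zpowers_le).mpr hx
  -- `u ∈ S`
  have huS : u ∈ (S : Subgroup G) := by
    haveI := hH
    have hT : ¬ p ∣ ((S : Subgroup G).subgroupOf H).index := by
      intro hd
      have h1 : ((S : Subgroup G).subgroupOf H).index ∣ (S : Subgroup G).index := by
        rw [← Subgroup.relIndex]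
        exact Subgroup.relIndex_dvd_index_of_le hSH
      exact S.not_dvd_index (hd.trans h1)
    have hTp : IsPGroup p ↥((S : Subgroup G).subgroupOf H) :=
      S.isPGroup'.comap_of_injective _ (Subgroup.subtype_injective _)
    have hR : IsPGroup p ↥(Subgroup.zpowers (⟨u, hxH hu⟩ : ↥H)) := by
      have ho : orderOf (⟨u, hxH hu⟩ : ↥H) ∣ p ^ k := by
        apply orderOf_dvd_of_pow_eq_one
        apply Subtype.ext
        rw [Subgroup.coe_pow, Subgroup.coe_one]; exact huk
      obtain ⟨j, -, hj⟩ := (Nat.dvd_prime_pow Fact.out).mp ho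
      apply IsPGroup.of_card (n := j)
      rw [Nat.card_zpowers, hj]
    have := Cfsg.Agent.Lib.Helper33.le_sylow_of_isNilpotent (hTp.toSylow hT)
      (Subgroup.zpowers (⟨u, hxH hu⟩ : ↥H)) hR (Subgroup.mem_zpowers _)
    exact this
  have h1 : u * z = z * u := hzc u huS
  have hR : IsPGroup p ↥(Subgroup.zpowers z) := S.isPGroup'.to_le ((Subgroup.zpowers_le).mpr hzS)
  have hK : (Nat.card ↥(Subgroup.zpowers y)).Coprime p := by
    rw [Nat.card_zpowers]; exact hycop
  have h2 := Cfsg.Agent.Lib.Helper33.le_centralizer_of_nilpotent_coprime hH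
    ((Subgroup.zpowers_le).mpr (hSH hzS)) ((Subgroup.zpowers_le).mpr (hxH hy)) hR hK
    (Subgroup.mem_zpowers y)
  rw [Subgroup.mem_centralizer_iff] at h2
  have h3 : z * y = y * z := h2 z (Subgroup.mem_zpowers z)
  rw [hxyu]
  calc y * u * z = y * (u * z) := by group
    _ = y * (z * u) := by rw [h1]
    _ = (y * z) * u := by group
    _ = (z * y) * u := by rw [h3]
    _ = z * (y * u) := by group

/-- two maximal nilpotent subgroups of a finite CN-group are conjugate or have coprime orders -/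
theorem conj_or_coprime [Finite G] (hCN : Cfsg.IsCNGroup G) {H₁ H₂ : Subgroup G}
    (h₁ : MaxNilp H₁) (h₂ : MaxNilp H₂) :
    (∃ g : G, H₂ = H₁.map (MulAut.conj g).toMonoidHom) ∨
      (Nat.card H₁).Coprime (Nat.card H₂) := by
  by_cases hcop : (Nat.card H₁).Coprime (Nat.card H₂)
  · exact Or.inr hcop
  left
  obtain ⟨p, hp, hp1, hp2⟩ := Nat.Prime.not_coprime_iff_dvd.mp hcop
  haveI : Fact p.Prime := ⟨hp⟩
  obtain ⟨S₁, hS₁⟩ := exists_sylow_le_of_hall (h₁.coprime hCN) p hp1
  obtain ⟨S₂, hS₂⟩ := exists_sylow_le_of_hall (h₂.coprime hCN) p hp2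
  obtain ⟨g, hg⟩ := MulAction.exists_smul_eq G S₁ S₂
  refine ⟨g, ?_⟩
  have hS₂ne : (S₂ : Subgroup G) ≠ ⊥ := by
    intro hbot
    have h1 : Nat.card (S₂ : Subgroup G) = 1 := by rw [hbot]; exact Subgroup.card_bot
    have h2 := S₂.card_eq_multiplicity
    rw [h1] at h2
    have h3 : (Nat.card G).factorization p = 0 := by
      by_contra h0
      have : 1 < p ^ (Nat.card G).factorization p := Nat.one_lt_pow h0 hp.one_lt
      omega
    have h4 : p ∣ Nat.card G := hp2.trans (Subgroup.card_subgroup_dvd_card H₂)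
    have := (hp.factorization_pos_of_dvd Nat.card_pos.ne' h4)
    omega
  obtain ⟨z, hzS, hz1, -, hzc⟩ :=
    Cfsg.Agent.Lib.Helper57.GT.exists_central_of_ne_bot (S₂ : Subgroup G) S₂.isPGroup' hS₂ne
  have hc2 := h₂.centralizer_eq hCN z hz1 (central_of_central_sylow h₂.1 S₂ hS₂ z hzS hzc)
  have h₁' := h₁.conj g
  have hS₂' : (S₂ : Subgroup G) ≤ H₁.map (MulAut.conj g).toMonoidHom := by
    rw [← hg]
    intro x hx
    rw [Sylow.coe_subgroup_smul] at hx
    obtain ⟨s, hs, hsx⟩ := (Subgroup.mem_smul_pointwise_iff_exists x _ _).mp hx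
    exact ⟨s, hS₁ hs, hsx⟩
  have hc1 := h₁'.centralizer_eq hCN z hz1
    (central_of_central_sylow h₁'.1 S₂ hS₂' z hzS hzc)
  rw [← hc2, hc1]

/-- a nontrivial `p`-element of `H` forces `p ∣ |H|` -/
theorem prime_dvd_card_of_mem [Finite G] {H : Subgroup G} {p : ℕ} (hp : p.Prime) {x : G}
    (hx : x ∈ H) (hx1 : x ≠ 1) (hxp : IsPGroup p ↥(Subgroup.zpowers x)) : p ∣ Nat.card H := by
  haveI : Fact p.Prime := ⟨hp⟩
  obtain ⟨k, hk⟩ := IsPGroup.iff_card.mp hxp
  rw [Nat.card_zpowers] at hk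
  have hk0 : k ≠ 0 := by
    rintro rfl
    rw [pow_zero, orderOf_eq_one_iff] at hk
    exact hx1 hk
  have h1 : orderOf x ∣ Nat.card H := by
    have := orderOf_dvd_natCard (⟨x, hx⟩ : ↥H)
    rwa [← Subgroup.orderOf_coe] at this
  refine dvd_trans ?_ h1
  rw [hk]; exact dvd_pow_self p hk0

/-- in a finite CN-group, "some nontrivial `p`-element commutes with some nontrivial `q`-element" is
transitive -/
theorem commuting_primes [Finite G] (hCN : Cfsg.IsCNGroup G) (p q r : ℕ) (hp : p.Prime)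
    (hq : q.Prime) (hr : r.Prime) (x y y' z : G) (hx1 : x ≠ 1) (hy1 : y ≠ 1) (hy'1 : y' ≠ 1)
    (hz1 : z ≠ 1) (hxp : IsPGroup p ↥(Subgroup.zpowers x)) (hyq : IsPGroup q ↥(Subgroup.zpowers y))
    (hy'q : IsPGroup q ↥(Subgroup.zpowers y')) (hzr : IsPGroup r ↥(Subgroup.zpowers z))
    (hxy : x * y = y * x) (hyz : y' * z = z * y') :
    ∃ x' z' : G, x' ≠ 1 ∧ z' ≠ 1 ∧ IsPGroup p ↥(Subgroup.zpowers x') ∧
      IsPGroup r ↥(Subgroup.zpowers z') ∧ x' * z' = z' * x' := by
  by_cases hpr : p = r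
  · subst hpr
    exact ⟨x, x, hx1, hx1, hxp, hxp, rfl⟩
  haveI : Fact p.Prime := ⟨hp⟩
  haveI : Fact r.Prime := ⟨hr⟩
  obtain ⟨H₁, hle₁, hm₁⟩ := exists_maxNilp_ge _ (hCN x hx1)
  obtain ⟨H₂, hle₂, hm₂⟩ := exists_maxNilp_ge _ (hCN y' hy'1)
  have hxH : x ∈ H₁ := hle₁ (by
    rw [Subgroup.mem_centralizer_iff]
    intro w hw
    rw [Set.mem_singleton_iff] at hw
    rw [hw])
  have hyH : y ∈ H₁ := hle₁ (by
    rw [Subgroup.mem_centralizer_iff]
    intro w hw
    rw [Set.mem_singleton_iff] at hw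
    rw [hw]; exact hxy)
  have hy'H : y' ∈ H₂ := hle₂ (by
    rw [Subgroup.mem_centralizer_iff]
    intro w hw
    rw [Set.mem_singleton_iff] at hw
    rw [hw])
  have hzH : z ∈ H₂ := hle₂ (by
    rw [Subgroup.mem_centralizer_iff]
    intro w hw
    rw [Set.mem_singleton_iff] at hw
    rw [hw]; exact hyz)
  have hp1 := prime_dvd_card_of_mem hp hxH hx1 hxp
  have hq1 := prime_dvd_card_of_mem hq hyH hy1 hyq
  have hq2 := prime_dvd_card_of_mem hq hy'H hy'1 hy'q
  have hr2 := prime_dvd_card_of_mem hr hzH hz1 hzr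
  have hr1 : r ∣ Nat.card H₁ := by
    rcases conj_or_coprime hCN hm₁ hm₂ with ⟨g, hg⟩ | hcop
    · rw [hg, Subgroup.card_map_of_injective (MulAut.conj g).injective] at hr2
      exact hr2
    · exfalso
      exact (Nat.Prime.not_coprime_iff_dvd.mpr ⟨q, hq, hq1, hq2⟩) hcop
  obtain ⟨x', hx'⟩ := exists_prime_orderOf_dvd_card' (G := ↥H₁) p hp1
  obtain ⟨z', hz'⟩ := exists_prime_orderOf_dvd_card' (G := ↥H₁) r hr1
  have hx'G : orderOf (x' : G) = p := by rw [Subgroup.orderOf_coe]; exact hx'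
  have hz'G : orderOf (z' : G) = r := by rw [Subgroup.orderOf_coe]; exact hz'
  have hx'1 : (x' : G) ≠ 1 := by
    intro h
    rw [h, orderOf_one] at hx'G
    exact hp.one_lt.ne hx'G
  have hz'1 : (z' : G) ≠ 1 := by
    intro h
    rw [h, orderOf_one] at hz'G
    exact hr.one_lt.ne hz'G
  have hR : IsPGroup p ↥(Subgroup.zpowers (x' : G)) := by
    apply IsPGroup.of_card (n := 1)
    rw [Nat.card_zpowers, hx'G, pow_one]
  have hRz : IsPGroup r ↥(Subgroup.zpowers (z' : G)) := by
    apply IsPGroup.of_card (n := 1)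
    rw [Nat.card_zpowers, hz'G, pow_one]
  have hK : (Nat.card ↥(Subgroup.zpowers (z' : G))).Coprime p := by
    rw [Nat.card_zpowers, hz'G]
    exact (Nat.coprime_primes hr hp).mpr (Ne.symm hpr)
  have h := Cfsg.Agent.Lib.Helper33.le_centralizer_of_nilpotent_coprime hm₁.1
    ((Subgroup.zpowers_le).mpr x'.2) ((Subgroup.zpowers_le).mpr z'.2) hR hK
    (Subgroup.mem_zpowers (z' : G))
  rw [Subgroup.mem_centralizer_iff] at h
  exact ⟨x', z', hx'1, hz'1, hR, hRz, h _ (Subgroup.mem_zpowers (x' : G))⟩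

end Cfsg.Agent.Lib.Helper12.CNMaxNilp
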