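import Mathlib
import Cfsg.Prelude.Def_LocalEven
import Cfsg.Agent.Lib.Helper57.PStableAll

/-!
# Groups of odd order are `p`-stable in the normalizer form

For an odd prime `p`, a finite group with abelian Sylow 2-subgroups (in particular a group of odd
order) satisfies `Cfsg.IsNormalizerPStable p G`.
-/

set_option autoImplicit false
open Cfsg

namespace Cfsg.Agent.Lib.Helper12.OddStable

variable {G : Type*} [Group G]

/-- Sylow 2-subgroups of a group of odd order are trivial, hence commutative. -/
theorem sylow_two_comm_of_odd [Finite G] (hodd : Odd (Nat.card G)) :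
    ∀ T : Sylow 2 G, IsMulCommutative T := by
  intro T
  have hT : (T : Subgroup G) = ⊥ := by
    have hfact : Fact (Nat.Prime 2) := ⟨Nat.prime_two⟩
    have hcard := T.card_eq_multiplicity
    have h2 : ¬ 2 ∣ Nat.card G := by
      intro h
      exact (Nat.not_even_iff_odd.mpr hodd) (even_iff_two_dvd.mpr h)
    have : (Nat.card G).factorization 2 = 0 := Nat.factorization_eq_zero_of_not_dvd h2
    rw [this, pow_zero] at hcard
    exact Subgroup.card_eq_one.mp hcard
  refine ⟨⟨fun a b => ?_⟩⟩
  have ha : (a : G) ∈ (⊥ : Subgroup G) := hT ▸ a.2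
  have hb : (b : G) ∈ (⊥ : Subgroup G) := hT ▸ b.2
  rw [Subgroup.mem_bot] at ha hb
  apply Subtype.ext
  simp [ha, hb]

/-- A finite group with abelian Sylow 2-subgroups is `p`-stable in the normalizer form, `p` odd. -/
theorem isNormalizerPStable_of_sylow_two_comm [Finite G] {p : ℕ} [Fact p.Prime] (hp : p ≠ 2)
    (hab : ∀ (K : Subgroup G) (T : Sylow 2 K), IsMulCommutative T) :
    Cfsg.IsNormalizerPStable p G := by
  intro P hP g hg hquad
  have hVn : (P.subgroupOf (Subgroup.normalizer (P : Set G))).Normal :=
    Subgroup.normal_in_normalizer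
  have hV : IsPGroup p ↥(P.subgroupOf (Subgroup.normalizer (P : Set G))) :=
    hP.comap_of_injective _ (Subgroup.subtype_injective _)
  have hst := Cfsg.Agent.Lib.Helper57.PStableAll.isPStableOn_of_sylow_two_comm hp
    (hab (Subgroup.normalizer (P : Set G))) (P.subgroupOf (Subgroup.normalizer (P : Set G))) hV
  have hq' : ⁅⁅P.subgroupOf (Subgroup.normalizer (P : Set G)),
      Subgroup.zpowers (⟨g, hg⟩ : ↥(Subgroup.normalizer (P : Set G)))⁆,
      Subgroup.zpowers (⟨g, hg⟩ : ↥(Subgroup.normalizer (P : Set G)))⁆ = ⊥ := by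
    have hinj := Subgroup.subtype_injective (Subgroup.normalizer (P : Set G))
    apply (Subgroup.map_injective hinj)
    rw [Subgroup.map_commutator, Subgroup.map_commutator, Subgroup.map_bot,
      Subgroup.subgroupOf_map_subtype, MonoidHom.map_zpowers,
      inf_of_le_left Subgroup.le_normalizer]
    exact hquad
  have h1 := hst ⟨g, hg⟩ hq'
  have key : ∀ (C : Subgroup ↥(Subgroup.normalizer (P : Set G))) (hC : C.Normal),
      C = Subgroup.centralizer
        ((P.subgroupOf (Subgroup.normalizer (P : Set G)) :
          Subgroup ↥(Subgroup.normalizer (P : Set G))) : Set ↥(Subgroup.normalizer (P : Set G))) →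
      (QuotientGroup.mk (s := C) (⟨g, hg⟩ : ↥(Subgroup.normalizer (P : Set G)))) ∈
        pCore p (↥(Subgroup.normalizer (P : Set G)) ⧸ C) := by
    intro C hC h
    subst h
    exact h1
  apply key
  ext x
  rw [Subgroup.mem_subgroupOf, Subgroup.mem_centralizer_iff, Subgroup.mem_centralizer_iff]
  constructor
  · intro h y hy
    apply Subtype.ext
    exact h (y : G) (Subgroup.mem_subgroupOf.mp hy)
  · intro h y hy
    have := h ⟨y, Subgroup.le_normalizer hy⟩ (Subgroup.mem_subgroupOf.mpr hy)
    exact congrArg Subtype.val this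

/-- A finite group of odd order is `p`-stable in the normalizer form for every odd prime `p`. -/
theorem isNormalizerPStable_of_odd [Finite G] (hodd : Odd (Nat.card G)) {p : ℕ} [Fact p.Prime]
    (hp : p ≠ 2) : Cfsg.IsNormalizerPStable p G := by
  apply isNormalizerPStable_of_sylow_two_comm hp
  intro K T
  apply sylow_two_comm_of_odd
  have hdvd : Nat.card K ∣ Nat.card G := Subgroup.card_subgroup_dvd_card K
  exact Odd.of_dvd_nat hodd hdvd

end Cfsg.Agent.Lib.Helper12.OddStable
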