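import Mathlib
import Cfsg.Prelude.Def_OddOrderLocal
import Cfsg.Agent.Lib.Helper33.CNFrob
import Cfsg.Agent.Lib.Helper16.ZJ
import Cfsg.Agent.S0033
import Cfsg.Agent.Lib.Helper57.GTFam

/-!
# Three-step groups (in the sense used for CN-groups)

* `Config`: the part of a three-step configuration that survives in overgroups, and its
  consequences: an overgroup is neither nilpotent nor a Frobenius group with cyclic complement.
* structure of a three-step group `M` with respect to a prime `r`: `C_M(O_r(M)) ≤ O_r(M)`, and a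
  Sylow `r`-subgroup is not contained in the derived subgroup.
-/

set_option autoImplicit false
set_option linter.unusedSectionVars false
set_option linter.style.haveILetI false
open Cfsg
open scoped Pointwise

universe u

namespace Cfsg.Agent.Lib.Helper12.ThreeStep

open Cfsg.Agent.Lib.Helper16

/-- The part of a three-step configuration that passes to overgroups: `z ∈ Q` of prime order `r`,
`A` normalizes `Q` and acts without fixed points on it, the elements of `A` have order prime to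
`r`, and `[x, a] = q b` with `q ∈ Q`, `1 ≠ b ∈ A`. -/
structure Config {G : Type*} [Group G] (Q A : Subgroup G) (r : ℕ) (z a x : G) : Prop where
  hr : r.Prime
  hz : z ∈ Q
  hzord : orderOf z = r
  hAcop : ∀ b ∈ A, (orderOf b).Coprime r
  hnorm : ∀ b ∈ A, ∀ q ∈ Q, b * q * b⁻¹ ∈ Q
  hfpf : ∀ b ∈ A, b ≠ 1 → ∀ q ∈ Q, q * b = b * q → q = 1
  ha : a ∈ A
  ha1 : a ≠ 1
  hy : ∃ q ∈ Q, ∃ b ∈ A, b ≠ 1 ∧ x * a * x⁻¹ * a⁻¹ = q * b

section config

variable {G : Type*} [Group G]

theorem Config.map {G' : Type*} [Group G'] {Q A : Subgroup G} {r : ℕ} {z a x : G}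
    (c : Config Q A r z a x) (f : G →* G') (hf : Function.Injective f) :
    Config (Q.map f) (A.map f) r (f z) (f a) (f x) := by
  refine ⟨c.hr, Subgroup.mem_map_of_mem f c.hz, ?_, ?_, ?_, ?_, Subgroup.mem_map_of_mem f c.ha,
    ?_, ?_⟩
  · rw [orderOf_injective f hf]; exact c.hzord
  · rintro _ ⟨b, hb, rfl⟩
    rw [orderOf_injective f hf]; exact c.hAcop b hb
  · rintro _ ⟨b, hb, rfl⟩ _ ⟨q, hq, rfl⟩
    exact ⟨b * q * b⁻¹, c.hnorm b hb q hq, by simp⟩
  · rintro _ ⟨b, hb, rfl⟩ hb1 _ ⟨q, hq, rfl⟩ hcomm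
    have hb1' : b ≠ 1 := by
      rintro rfl; exact hb1 (map_one f)
    have : q * b = b * q := by
      apply hf; rw [map_mul, map_mul]; exact hcomm
    rw [c.hfpf b hb hb1' q hq this, map_one]
  · intro h
    apply c.ha1
    apply hf; rw [h, map_one]
  · obtain ⟨q, hq, b, hb, hb1, h⟩ := c.hy
    refine ⟨f q, Subgroup.mem_map_of_mem f hq, f b, Subgroup.mem_map_of_mem f hb, ?_, ?_⟩
    · intro h1
      apply hb1
      apply hf; rw [h1, map_one]
    · have := congrArg f h
      simpa only [map_mul, map_inv] using this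

/-- an overgroup of a three-step configuration is not nilpotent -/
theorem Config.not_nilpotent [Finite G] {Q A : Subgroup G} {r : ℕ} {z a x : G}
    (c : Config Q A r z a x) : ¬ Group.IsNilpotent G := by
  intro hnil
  haveI : Fact r.Prime := ⟨c.hr⟩
  have hY : Group.IsNilpotent ↥(⊤ : Subgroup G) := inferInstance
  have hR : IsPGroup r ↥(Subgroup.zpowers z) := by
    apply IsPGroup.of_card (n := 1)
    rw [Nat.card_zpowers, c.hzord, pow_one]
  have hK : (Nat.card ↥(Subgroup.zpowers a)).Coprime r := by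
    rw [Nat.card_zpowers]; exact c.hAcop a c.ha
  have h := Cfsg.Agent.Lib.Helper33.le_centralizer_of_nilpotent_coprime hY
    (le_top : Subgroup.zpowers z ≤ ⊤) (le_top : Subgroup.zpowers a ≤ ⊤) hR hK
  have ha := h (Subgroup.mem_zpowers a)
  rw [Subgroup.mem_centralizer_iff] at ha
  have hza := ha z (Subgroup.mem_zpowers z)
  have hz1 := c.hfpf a c.ha c.ha1 z c.hz hza
  have := c.hzord
  rw [hz1, orderOf_one] at this
  exact c.hr.one_lt.ne this

end config

section frobenius

variable {G : Type*} [Group G] [Finite G]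

/-- A normal complement of a Frobenius complement is nilpotent (Thompson). -/
theorem frobenius_kernel_nilpotent (K E : Subgroup G) (hK : K.Normal)
    (hc : Subgroup.IsComplement' K E) (hE : Cfsg.IsFrobeniusComplement E) :
    Group.IsNilpotent K := by
  obtain ⟨hEbot, hEtop, hfrob⟩ := hE
  have hKE : K ⊓ E = ⊥ := hc.disjoint.eq_bot
  -- an element of prime order in `E`
  have hcard : Nat.card E ≠ 1 := fun h => hEbot (Subgroup.card_eq_one.mp h)
  obtain ⟨q, hq, hqd⟩ := Nat.exists_prime_and_dvd hcard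
  haveI : Fact q.Prime := ⟨hq⟩
  obtain ⟨e, he⟩ := exists_prime_orderOf_dvd_card' q hqd
  have he1 : (e : G) ≠ 1 := by
    intro h
    have : e = 1 := Subtype.ext h
    rw [this, orderOf_one] at he
    exact hq.one_lt.ne he
  have heG : orderOf (e : G) = q := by rw [Subgroup.orderOf_coe]; exact he
  -- fixed point freeness
  have hfix : ∀ k : K, (e : G) * k * (e : G)⁻¹ = k → k = 1 := by
    intro k hk
    by_contra hk1
    have hkE : (k : G) ∉ E := by
      intro h
      have : (k : G) ∈ K ⊓ E := ⟨k.2, h⟩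
      rw [hKE, Subgroup.mem_bot] at this
      exact hk1 (Subtype.ext this)
    have h1 := hfrob (k : G) hkE
    have h2 : (e : G) ∈ E ⊓ (MulAut.conj (k : G) • E) := by
      refine ⟨e.2, ?_⟩
      refine (Subgroup.mem_smul_pointwise_iff_exists (e : G) _ E).mpr ⟨(e : G), e.2, ?_⟩
      rw [MulAut.smul_def, MulAut.conj_apply]
      have h3 : (e : G) * k = k * e := by
        calc (e : G) * k = ((e : G) * k * (e : G)⁻¹) * e := by group
          _ = k * e := by rw [hk]
      calc (k : G) * e * (k : G)⁻¹ = ((k : G) * e) * (k : G)⁻¹ := by group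
        _ = (e * k) * (k : G)⁻¹ := by rw [h3]
        _ = e := by group
    rw [h1, Subgroup.mem_bot] at h2
    exact he1 h2
  have hφ : MonoidHom.FixedPointFree
      (((MulAut.conjNormal (H := K) (e : G) : MulAut K) : K ≃* K) : K →* K) := by
    intro k hk
    apply hfix k
    have := congrArg Subtype.val hk
    simpa [MulAut.conjNormal_apply] using this
  have hK1 : K ≠ ⊥ := by
    intro h
    have := hc.sup_eq_top
    rw [h, bot_sup_eq] at this
    exact hEtop this
  have hord : orderOf (MulAut.conjNormal (H := K) (e : G) : MulAut K) = q := by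
    have h1 : (MulAut.conjNormal (H := K) (e : G) : MulAut K) ^ q = 1 := by
      rw [← map_pow, ← heG, pow_orderOf_eq_one, map_one]
    have h2 := orderOf_dvd_of_pow_eq_one h1
    rcases (Nat.dvd_prime hq).mp h2 with h3 | h3
    · exfalso
      rw [orderOf_eq_one_iff] at h3
      apply hK1
      rw [eq_bot_iff]
      intro k hk
      have : (⟨k, hk⟩ : K) = 1 := by
        apply hfix
        have h4 : (MulAut.conjNormal (H := K) (e : G) : MulAut K) ⟨k, hk⟩ = ⟨k, hk⟩ := by
          rw [h3]; rfl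
        have := congrArg Subtype.val h4
        simpa [MulAut.conjNormal_apply] using this
      rw [Subgroup.mem_bot]
      exact congrArg Subtype.val this
    · exact h3
  exact Cfsg.Agent.S0033.result _ hφ q hq hord

/-- an overgroup of a three-step configuration is not a Frobenius group with cyclic complement -/
theorem Config.not_frobenius {Q A : Subgroup G} {r : ℕ} {z a x : G}
    (c : Config Q A r z a x) :
    ¬ ∃ K E : Subgroup G, K.Normal ∧ Subgroup.IsComplement' K E ∧ Cfsg.IsFrobeniusComplement E ∧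
      IsCyclic E := by
  rintro ⟨K, E, hK, hc, hE, hcyc⟩
  haveI : Fact r.Prime := ⟨c.hr⟩
  have hnil := frobenius_kernel_nilpotent K E hK hc hE
  -- commutators lie in `K`
  have hcomm : ∀ u v : G, u * v * u⁻¹ * v⁻¹ ∈ K := by
    intro u v
    have hdec : ∀ w : G, ∃ e ∈ E, (QuotientGroup.mk' K) w = (QuotientGroup.mk' K) e := by
      intro w
      have hw : w ∈ K ⊔ E := by rw [hc.sup_eq_top]; trivial
      rw [Subgroup.mem_sup_of_normal_left] at hw
      · obtain ⟨k, hk, e, he, rfl⟩ := hw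
        refine ⟨e, he, ?_⟩
        have hk1 : (QuotientGroup.mk' K) k = 1 := (QuotientGroup.eq_one_iff k).mpr hk
        rw [map_mul, hk1, one_mul]
    obtain ⟨e₁, he₁, h1⟩ := hdec u
    obtain ⟨e₂, he₂, h2⟩ := hdec v
    have hee : e₁ * e₂ = e₂ * e₁ := by
      have hcm := hcyc.isMulCommutative
      have h3 := hcm.is_comm.comm (⟨e₁, he₁⟩ : E) ⟨e₂, he₂⟩
      exact congrArg Subtype.val h3
    rw [← QuotientGroup.eq_one_iff, ← QuotientGroup.mk'_apply]
    simp only [map_mul, map_inv]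
    rw [h1, h2, ← map_mul, hee, map_mul]
    group
  -- `Q ≤ K`
  have hQK : ∀ q ∈ Q, q ∈ K := by
    intro q hq
    have hinv : ∀ q' ∈ Q, a * q'⁻¹ * a⁻¹ ∈ Q := fun q' hq' => c.hnorm a c.ha _ (Q.inv_mem hq')
    let f : Q → Q := fun q' => ⟨q' * (a * (q' : G)⁻¹ * a⁻¹), Q.mul_mem q'.2 (hinv q' q'.2)⟩
    have hf : Function.Injective f := by
      intro q1 q2 h12
      have h := congrArg Subtype.val h12
      simp only [f] at h
      have h2 : ((q2 : G)⁻¹ * q1) * a = a * ((q2 : G)⁻¹ * q1) := by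
        have e1 : (q1 : G) * a * (q1 : G)⁻¹ = q2 * a * (q2 : G)⁻¹ := by
          have : (q1 : G) * (a * (q1 : G)⁻¹ * a⁻¹) * a = q2 * (a * (q2 : G)⁻¹ * a⁻¹) * a := by
            rw [h]
          calc (q1 : G) * a * (q1 : G)⁻¹ = (q1 : G) * (a * (q1 : G)⁻¹ * a⁻¹) * a := by group
            _ = q2 * (a * (q2 : G)⁻¹ * a⁻¹) * a := this
            _ = q2 * a * (q2 : G)⁻¹ := by group
        calc ((q2 : G)⁻¹ * q1) * a = (q2 : G)⁻¹ * (q1 * a * (q1 : G)⁻¹) * q1 := by group
          _ = (q2 : G)⁻¹ * (q2 * a * (q2 : G)⁻¹) * q1 := by rw [e1]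
          _ = a * ((q2 : G)⁻¹ * q1) := by group
      have h3 := c.hfpf a c.ha c.ha1 _ (Q.mul_mem (Q.inv_mem q2.2) q1.2) h2
      apply Subtype.ext
      have : (q1 : G) = q2 := by
        calc (q1 : G) = q2 * ((q2 : G)⁻¹ * q1) := by group
          _ = q2 := by rw [h3, mul_one]
      exact this
    have hsurj := Finite.surjective_of_injective hf
    obtain ⟨q', hq'⟩ := hsurj ⟨q, hq⟩
    have h := congrArg Subtype.val hq'
    simp only [f] at h
    rw [← h]
    have := hcomm (q' : G) a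
    have e : (q' : G) * (a * (q' : G)⁻¹ * a⁻¹) = q' * a * (q' : G)⁻¹ * a⁻¹ := by group
    rw [e]; exact this
  obtain ⟨q, hq, b, hb, hb1, hy⟩ := c.hy
  have hbK : b ∈ K := by
    have h1 : q * b ∈ K := by rw [← hy]; exact hcomm x a
    have h2 : b = q⁻¹ * (q * b) := by group
    rw [h2]
    exact K.mul_mem (K.inv_mem (hQK q hq)) h1
  have hzK : z ∈ K := hQK z c.hz
  have hR : IsPGroup r ↥(Subgroup.zpowers z) := by
    apply IsPGroup.of_card (n := 1)
    rw [Nat.card_zpowers, c.hzord, pow_one]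
  have hKb : (Nat.card ↥(Subgroup.zpowers b)).Coprime r := by
    rw [Nat.card_zpowers]; exact c.hAcop b hb
  have h := Cfsg.Agent.Lib.Helper33.le_centralizer_of_nilpotent_coprime hnil
    ((Subgroup.zpowers_le).mpr hzK) ((Subgroup.zpowers_le).mpr hbK) hR hKb
  have hb' := h (Subgroup.mem_zpowers b)
  rw [Subgroup.mem_centralizer_iff] at hb'
  have hzb := hb' z (Subgroup.mem_zpowers z)
  have hz1 := c.hfpf b hb hb1 z c.hz hzb
  have := c.hzord
  rw [hz1, orderOf_one] at this
  exact c.hr.one_lt.ne this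

end frobenius

section extract

variable {H : Type*} [Group H] [Finite H]

/-- a three-step group (with respect to any natural number `p`) contains a configuration -/
theorem exists_config_of_threeStep {p : ℕ} (h : Cfsg.IsThreeStepGroup p H) :
    ∃ (Q A : Subgroup H) (r : ℕ) (z a x : H), Config Q A r z a x := by
  obtain ⟨hQ1, A, hA1, -, -, hcop, hNn, hNtop, -, hfpf, hlast⟩ := h
  have hQn : (Cfsg.pCore p H).Normal := ZJ.pCore_normal p
  -- an element of prime order in the core
  have hex : ∃ N : Subgroup H, N.Normal ∧ IsPGroup p N ∧ N ≠ ⊥ := by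
    by_contra hcon
    apply hQ1
    unfold Cfsg.pCore
    rw [sSup_eq_bot]
    intro N hN
    by_contra hN1
    exact hcon ⟨N, hN.1, hN.2, hN1⟩
  obtain ⟨N, hNn', hNp, hN1⟩ := hex
  obtain ⟨g, hg1⟩ := (Subgroup.ne_bot_iff_exists_ne_one).mp hN1
  obtain ⟨k, hk⟩ := hNp g
  have hord1 : orderOf g ≠ 1 := by
    rw [Ne, orderOf_eq_one_iff]; exact hg1
  obtain ⟨r, hr, hrd⟩ := Nat.exists_prime_and_dvd hord1
  have hrp : r ∣ p := hr.dvd_of_dvd_pow (hrd.trans (orderOf_dvd_of_pow_eq_one hk))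
  have hord0 : orderOf g ≠ 0 := (orderOf_pos g).ne'
  have hzord : orderOf (g ^ (orderOf g / r)) = r := orderOf_pow_orderOf_div hord0 hrd
  have hNle : N ≤ Cfsg.pCore p H := le_sSup ⟨hNn', hNp⟩
  have hzQ : ((g ^ (orderOf g / r) : N) : H) ∈ Cfsg.pCore p H := hNle (g ^ (orderOf g / r)).2
  have hzord' : orderOf ((g ^ (orderOf g / r) : N) : H) = r := by
    rw [Subgroup.orderOf_coe]; exact hzord
  -- elements `a` and `x`
  obtain ⟨a, ha1⟩ := (Subgroup.ne_bot_iff_exists_ne_one).mp hA1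
  have ha1' : (a : H) ≠ 1 := fun h => ha1 (Subtype.ext h)
  have hx : ∃ x : H, x ∉ Cfsg.pCore p H ⊔ A := by
    by_contra hcon
    push Not at hcon
    exact hNtop (eq_top_iff.mpr fun x _ => hcon x)
  obtain ⟨x, hx⟩ := hx
  have hy : x * (a : H) * x⁻¹ * (a : H)⁻¹ ∈ Cfsg.pCore p H ⊔ A := by
    have haN : (a : H) ∈ Cfsg.pCore p H ⊔ A := (le_sup_right : A ≤ _) a.2
    exact Subgroup.mul_mem _ (hNn.conj_mem _ haN x) (Subgroup.inv_mem _ haN)
  rw [Subgroup.mem_sup_of_normal_left] at hy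
  obtain ⟨q, hq, b, hb, hqb⟩ := hy
  refine ⟨Cfsg.pCore p H, A, r, _, a, x, hr, hzQ, hzord', ?_, ?_, ?_, a.2, ha1', ?_⟩
  · intro b hb
    have h1 : orderOf b ∣ Nat.card A := by
      have := orderOf_dvd_natCard (⟨b, hb⟩ : A)
      rwa [← Subgroup.orderOf_coe] at this
    exact (Nat.Coprime.coprime_dvd_right hrp hcop).coprime_dvd_left h1
  · intro b _ q hq
    exact hQn.conj_mem q hq b
  · intro b hb hb1 q hq hcomm
    have : q ∈ Cfsg.pCore p H ⊓ Subgroup.centralizer ({b} : Set H) := by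
      refine ⟨hq, ?_⟩
      show q ∈ Subgroup.centralizer ({b} : Set H)
      rw [Subgroup.mem_centralizer_iff]
      intro y hy
      rw [Set.mem_singleton_iff] at hy
      rw [hy]; exact hcomm.symm
    rw [hfpf b hb hb1, Subgroup.mem_bot] at this
    exact this
  · refine ⟨q, hq, b, hb, ?_, hqb.symm⟩
    rintro rfl
    apply hlast x hx a a.2 ha1'
    rw [← hqb, mul_one]; exact hq

end extract

section structure_

variable {M : Type u} [Group M] [Finite M] {r : ℕ} [Fact r.Prime]

/-- in a three-step group with respect to the prime `r`, `C_M(O_r(M)) ≤ O_r(M)` -/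
theorem centralizer_pCore_le (h : Cfsg.IsThreeStepGroup r M) :
    Subgroup.centralizer (Cfsg.pCore r M : Set M) ≤ Cfsg.pCore r M := by
  obtain ⟨hQ1, A, -, -, -, -, hNn, -, ⟨n, hn⟩, hfpf, -⟩ := h
  haveI hQn : (Cfsg.pCore r M).Normal := ZJ.pCore_normal r
  have hQp : IsPGroup r ↥(Cfsg.pCore r M) := ZJ.pCore_isPGroup r
  obtain ⟨z, hzQ, hz1, -, hzc⟩ :=
    Cfsg.Agent.Lib.Helper57.GT.exists_central_of_ne_bot (Cfsg.pCore r M) hQp hQ1
  have hCn : (Subgroup.centralizer (Cfsg.pCore r M : Set M)).Normal := inferInstance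
  apply ZJ.le_pCore hCn
  intro c
  haveI := hNn
  have hd : (c : M) ^ (r ^ n) ∈ Cfsg.pCore r M ⊔ A := by
    rw [← hn]; exact Subgroup.pow_index_mem _ _
  have hdC : (c : M) ^ (r ^ n) ∈ Subgroup.centralizer (Cfsg.pCore r M : Set M) :=
    Subgroup.pow_mem _ c.2 _
  rw [Subgroup.mem_sup_of_normal_left] at hd
  obtain ⟨q, hq, b, hb, hqb⟩ := hd
  have hb1 : b = 1 := by
    by_contra hb1
    have hbz : z * b = b * z := by
      have h1 : ((c : M) ^ (r ^ n)) * z = z * ((c : M) ^ (r ^ n)) :=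
        ((Subgroup.mem_centralizer_iff.mp hdC) z hzQ).symm
      have h2 : q⁻¹ * z = z * q⁻¹ := hzc q⁻¹ (Subgroup.inv_mem _ hq)
      have hb' : b = q⁻¹ * ((c : M) ^ (r ^ n)) := by rw [← hqb]; group
      rw [hb']
      calc z * (q⁻¹ * (c : M) ^ (r ^ n)) = (z * q⁻¹) * (c : M) ^ (r ^ n) := by group
        _ = (q⁻¹ * z) * (c : M) ^ (r ^ n) := by rw [h2]
        _ = q⁻¹ * (z * (c : M) ^ (r ^ n)) := by group
        _ = q⁻¹ * ((c : M) ^ (r ^ n) * z) := by rw [h1]
        _ = q⁻¹ * (c : M) ^ (r ^ n) * z := by group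
    have : z ∈ Cfsg.pCore r M ⊓ Subgroup.centralizer ({b} : Set M) := by
      refine ⟨hzQ, ?_⟩
      show z ∈ Subgroup.centralizer ({b} : Set M)
      rw [Subgroup.mem_centralizer_iff]
      intro y hy
      rw [Set.mem_singleton_iff] at hy
      rw [hy]; exact hbz.symm
    rw [hfpf b hb hb1, Subgroup.mem_bot] at this
    exact hz1 this
  rw [hb1, mul_one] at hqb
  obtain ⟨j, hj⟩ := hQp ⟨q, hq⟩
  have hj' : q ^ (r ^ j) = 1 := by
    have := congrArg Subtype.val hj
    simpa using this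
  refine ⟨n + j, ?_⟩
  apply Subtype.ext
  rw [Subgroup.coe_pow, Subgroup.coe_one, pow_add, pow_mul, ← hqb, hj']

/-- in a three-step group with respect to the prime `r`, a Sylow `r`-subgroup does not lie in the
derived subgroup -/
theorem sylow_not_le_commutator (h : Cfsg.IsThreeStepGroup r M) (S : Sylow r M) :
    ¬ (S : Subgroup M) ≤ commutator M := by
  obtain ⟨-, A, -, -, -, -, hNn, hNtop, ⟨n, hn⟩, -, -⟩ := h
  intro hS
  haveI := hNn
  have hr : r.Prime := Fact.out
  -- `S ⊔ N = ⊤`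
  have htop : (S : Subgroup M) ⊔ (Cfsg.pCore r M ⊔ A) = ⊤ := by
    rw [← Subgroup.index_eq_one]
    have h1 : ((S : Subgroup M) ⊔ (Cfsg.pCore r M ⊔ A)).index ∣ (S : Subgroup M).index :=
      Subgroup.index_dvd_of_le le_sup_left
    have h2 : ((S : Subgroup M) ⊔ (Cfsg.pCore r M ⊔ A)).index ∣ r ^ n := by
      rw [← hn]; exact Subgroup.index_dvd_of_le le_sup_right
    obtain ⟨j, -, hj⟩ := (Nat.dvd_prime_pow hr).mp h2
    rcases Nat.eq_zero_or_pos j with h0 | hpos
    · rw [hj, h0, pow_zero]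
    · exfalso
      have : r ∣ (S : Subgroup M).index := by
        refine dvd_trans ?_ h1
        rw [hj]; exact dvd_pow_self r hpos.ne'
      exact S.not_dvd_index this
  have htop' : commutator M ⊔ (Cfsg.pCore r M ⊔ A) = ⊤ := by
    rw [eq_top_iff, ← htop]
    exact sup_le_sup_right hS _
  -- the quotient is a nontrivial `r`-group
  have hcardq : Nat.card (M ⧸ (Cfsg.pCore r M ⊔ A)) = r ^ n := by
    rw [← hn]; rfl
  have hqp : IsPGroup r (M ⧸ (Cfsg.pCore r M ⊔ A)) := IsPGroup.of_card hcardq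
  haveI : Group.IsNilpotent (M ⧸ (Cfsg.pCore r M ⊔ A)) := hqp.isNilpotent
  haveI : Nontrivial (M ⧸ (Cfsg.pCore r M ⊔ A)) := by
    rw [QuotientGroup.nontrivial_iff]
    exact hNtop
  have hlt := Group.IsSolvable.commutator_lt_top_of_nontrivial (M ⧸ (Cfsg.pCore r M ⊔ A))
  apply hlt.ne
  rw [eq_top_iff]
  intro y _
  obtain ⟨m, rfl⟩ := QuotientGroup.mk'_surjective (Cfsg.pCore r M ⊔ A) y
  have hm : m ∈ commutator M ⊔ (Cfsg.pCore r M ⊔ A) := by rw [htop']; trivial
  rw [Subgroup.mem_sup_of_normal_right] at hm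
  obtain ⟨c, hc, k, hk, rfl⟩ := hm
  have hk1 : (QuotientGroup.mk' (Cfsg.pCore r M ⊔ A)) k = 1 := (QuotientGroup.eq_one_iff k).mpr hk
  rw [map_mul, hk1, mul_one]
  have hmap : (commutator M).map (QuotientGroup.mk' (Cfsg.pCore r M ⊔ A)) ≤
      commutator (M ⧸ (Cfsg.pCore r M ⊔ A)) := by
    rw [commutator_def, commutator_def, Subgroup.map_commutator]
    exact Subgroup.commutator_mono le_top le_top
  exact hmap ⟨c, hc, rfl⟩

/-- a three-step group of odd order with respect to `r` has `r ≠ 2` -/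
theorem r_ne_two (h : Cfsg.IsThreeStepGroup r M) (hodd : Odd (Nat.card M)) : r ≠ 2 := by
  rintro rfl
  have hQp : IsPGroup 2 ↥(Cfsg.pCore 2 M) := ZJ.pCore_isPGroup 2
  obtain ⟨k, hk⟩ := IsPGroup.iff_card.mp hQp
  have hk0 : k ≠ 0 := by
    rintro rfl
    rw [pow_zero] at hk
    exact h.1 (Subgroup.card_eq_one.mp hk)
  have h2 : 2 ∣ Nat.card M := by
    refine dvd_trans ?_ (Subgroup.card_subgroup_dvd_card (Cfsg.pCore 2 M))
    rw [hk]; exact dvd_pow_self 2 hk0
  exact (Nat.not_even_iff_odd.mpr hodd) (even_iff_two_dvd.mpr h2)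

end structure_

end Cfsg.Agent.Lib.Helper12.ThreeStep
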