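import Mathlib
import Cfsg.Prelude.Def_OddOrder
import Cfsg.Prelude.Def_OddOrderLocal
import Cfsg.Agent.Lib.Helper12.ThreeStep
import Cfsg.Agent.Lib.Helper12.OddStable
import Cfsg.Agent.Lib.Helper54.SylowLib
import Cfsg.Agent.Lib.Helper41.FamilyTransfer
import Cfsg.Agent.Lib.Helper31.SolvPCon
import Cfsg.Agent.Lib.Helper33.CNQuot
import Cfsg.Agent.S3079
import Cfsg.Agent.S3080
import Cfsg.Agent.S1476

/-!
# A minimal simple group of odd order has no maximal subgroup that is a three-step group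

The argument: for `M` maximal and three-step with respect to the prime `r`, Glauberman's
`ZJ`-theorem makes `Z(J(S))` normal in `M` (`S` a Sylow `r`-subgroup of `M`), so `M = N_G(Z(J(S)))`,
`S` is a Sylow subgroup of `G`, `M` controls strong fusion in `S`, and the focal subgroup theorem
gives `S ≤ M'`, which is impossible in a three-step group.  Then, for CN-groups, no subgroup at all
is a three-step group.
-/

set_option autoImplicit false
set_option linter.unusedSectionVars false
set_option linter.style.haveILetI false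
open Cfsg
open scoped Pointwise commutatorElement

universe u

namespace Cfsg.Agent.Lib.Helper12.CNNoThreeStep

open Cfsg.Agent.Lib.Helper16
open Cfsg.Agent.Lib.Helper12.ThreeStep

/-- `Z(J(R))` is nontrivial for a nontrivial `r`-subgroup `R` -/
theorem centerThompsonAOf_ne_bot {X : Type u} [Group X] [Finite X] {r : ℕ} [Fact r.Prime]
    {R : Subgroup X} (hR : IsPGroup r R) (hne : R ≠ ⊥) : Cfsg.centerThompsonAOf R ≠ ⊥ := by
  obtain ⟨z, hzR, hz1, -, hzc⟩ := Cfsg.Agent.Lib.Helper57.GT.exists_central_of_ne_bot R hR hne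
  rw [ZJ.centerThompsonAOf_eq_WW]
  intro hbot
  have hle : Subgroup.zpowers z ≤ ZJ.WW (fun U : Subgroup X => IsMulCommutative ↥U) R := by
    apply ZJ.le_WW
    intro A hA
    rw [Subgroup.zpowers_le]
    exact ZJ.mem_of_max_comm hA hzR (fun a ha => hzc a (hA.1 ha))
  rw [hbot] at hle
  have := hle (Subgroup.mem_zpowers z)
  rw [Subgroup.mem_bot] at this
  exact hz1 this

/-- in a nonabelian simple group the derived subgroup is everything -/
theorem commutator_eq_top_of_simple {G : Type*} [Group G] (hs : IsSimpleGroup G)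
    (hnc : ¬ IsMulCommutative G) : ⁅(⊤ : Subgroup G), (⊤ : Subgroup G)⁆ = ⊤ := by
  have hn : (⁅(⊤ : Subgroup G), (⊤ : Subgroup G)⁆).Normal := inferInstance
  rcases hn.eq_bot_or_eq_top with h | h
  · exfalso
    apply hnc
    refine ⟨⟨fun a b => ?_⟩⟩
    have : ⁅a, b⁆ ∈ ⁅(⊤ : Subgroup G), (⊤ : Subgroup G)⁆ :=
      Subgroup.commutator_mem_commutator (Subgroup.mem_top a) (Subgroup.mem_top b)
    rw [h, Subgroup.mem_bot, commutatorElement_eq_one_iff_mul_comm] at this
    exact this
  · exact h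

/-- a minimal simple group of odd order has no maximal subgroup that is a three-step group with
respect to a prime -/
theorem no_maximal_threeStep {G : Type u} [Group G] [Finite G] (hG : Cfsg.IsMinSimpleOddOrder G)
    (M : Subgroup G) (hM : IsCoatom M) {r : ℕ} [Fact r.Prime]
    (h : Cfsg.IsThreeStepGroup r ↥M) : False := by
  obtain ⟨hodd, hsimple, hnc, hsolv⟩ := hG
  have hoddM : Odd (Nat.card M) := Odd.of_dvd_nat hodd (Subgroup.card_subgroup_dvd_card M)
  have hr2 : r ≠ 2 := r_ne_two h hoddM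
  have hc := centralizer_pCore_le h
  obtain ⟨S₀⟩ : Nonempty (Sylow r ↥M) := inferInstance
  have hstM : Cfsg.IsNormalizerPStable r ↥M :=
    Cfsg.Agent.Lib.Helper12.OddStable.isNormalizerPStable_of_odd hoddM hr2
  have hZJ := (Cfsg.Agent.S3079.result hr2 S₀ (S₀ : Subgroup ↥M)
    ⟨le_refl _, fun x _ g hg => hg⟩ hstM hc).1
  have hS₀ne : (S₀ : Subgroup ↥M) ≠ ⊥ := by
    intro hbot
    apply h.1
    rw [eq_bot_iff, ← hbot]
    exact ZJ.pCore_le_sylow S₀
  have hW₀ne := centerThompsonAOf_ne_bot S₀.isPGroup' hS₀ne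
  have hinj := Subgroup.subtype_injective M
  have hW : (Cfsg.centerThompsonAOf (S₀ : Subgroup ↥M)).map M.subtype =
      Cfsg.centerThompsonAOf ((S₀ : Subgroup ↥M).map M.subtype) := by
    rw [ZJ.centerThompsonAOf_eq_WW, ZJ.centerThompsonAOf_eq_WW]
    exact Cfsg.Agent.Lib.Helper57.GT.WW_map_of_injective
      (Cfsg.Agent.Lib.Helper57.GT.goodFam_comm (p := r)) M.subtype hinj _
  have hSM : (S₀ : Subgroup ↥M).map M.subtype ≤ M := Subgroup.map_subtype_le _
  have hWS : Cfsg.centerThompsonAOf ((S₀ : Subgroup ↥M).map M.subtype) ≤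
      (S₀ : Subgroup ↥M).map M.subtype := by
    rw [ZJ.centerThompsonAOf_eq_WW]
    exact ZJ.WW_le ZJ.goodPred_comm.bot _
  have hWne : Cfsg.centerThompsonAOf ((S₀ : Subgroup ↥M).map M.subtype) ≠ ⊥ := by
    rw [← hW]
    intro hbot
    exact hW₀ne ((Subgroup.map_eq_bot_iff_of_injective _ hinj).mp hbot)
  have hMN : M ≤ Subgroup.normalizer
      (Cfsg.centerThompsonAOf ((S₀ : Subgroup ↥M).map M.subtype) : Set G) := by
    rw [← hW]
    intro m hm
    have h1 : (⟨m, hm⟩ : ↥M) ∈ Subgroup.normalizer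
        ((Cfsg.centerThompsonAOf (S₀ : Subgroup ↥M) : Subgroup ↥M) : Set ↥M) := by
      rw [Subgroup.normalizer_eq_top_iff.mpr hZJ]; trivial
    exact Subgroup.le_normalizer_map M.subtype ⟨⟨m, hm⟩, h1, rfl⟩
  have hNM : Subgroup.normalizer
      (Cfsg.centerThompsonAOf ((S₀ : Subgroup ↥M).map M.subtype) : Set G) = M := by
    by_contra hne
    have hlt : M < Subgroup.normalizer
        (Cfsg.centerThompsonAOf ((S₀ : Subgroup ↥M).map M.subtype) : Set G) :=
      lt_of_le_of_ne hMN (Ne.symm hne)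
    have htop := hM.2 _ hlt
    have hn : (Cfsg.centerThompsonAOf ((S₀ : Subgroup ↥M).map M.subtype)).Normal :=
      Subgroup.normalizer_eq_top_iff.mp htop
    rcases hn.eq_bot_or_eq_top with h1 | h1
    · exact hWne h1
    · apply hM.1
      rw [eq_top_iff, ← h1]
      exact hWS.trans hSM
  have hNS : Subgroup.normalizer (((S₀ : Subgroup ↥M).map M.subtype : Subgroup G) : Set G) ≤ M := by
    refine le_trans ?_ hNM.le
    rw [ZJ.centerThompsonAOf_eq_WW]
    exact ZJ.normalizer_le_normalizer_WW ZJ.goodPred_comm _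
  obtain ⟨P, hP⟩ := Cfsg.Agent.Lib.Helper54.exists_sylow_eq_map_of_normalizer_le S₀ hNS
  have hstG : Cfsg.IsNormalizerPStable r G :=
    Cfsg.Agent.Lib.Helper12.OddStable.isNormalizerPStable_of_odd hodd hr2
  have hPtop : (P : Subgroup G) ≠ ⊤ := by
    intro htop
    apply hM.1
    rw [eq_top_iff, ← htop, hP]
    exact hSM
  have hcons : ∀ U : Subgroup G, U ≤ (P : Subgroup G) → U ≠ ⊥ →
      Cfsg.IsPConstrained r ↥(Subgroup.normalizer (U : Set G)) := by
    intro U hUP hU1
    apply Cfsg.Agent.Lib.Helper31.isPConstrained_of_solvable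
    apply hsolv
    intro htop
    have hn : U.Normal := Subgroup.normalizer_eq_top_iff.mp htop
    rcases hn.eq_bot_or_eq_top with h1 | h1
    · exact hU1 h1
    · apply hPtop
      rw [eq_top_iff, ← h1]; exact hUP
  have hctrl := (Cfsg.Agent.S3080.result hr2 P (P : Subgroup G)
    ⟨le_refl _, fun x _ g hg => hg⟩ hstG hcons).1
  rw [hP, hNM] at hctrl
  -- focal subgroup
  have hidx : ¬ r ∣ ((S₀ : Subgroup ↥M).map M.subtype).relIndex ⊤ := by
    rw [Subgroup.relIndex_top_right, ← hP]
    exact P.not_dvd_index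
  have hSp : IsPGroup r ↥((S₀ : Subgroup ↥M).map M.subtype) := S₀.isPGroup'.map _
  have hfocal := Cfsg.Agent.Lib.Helper41.relative_focal (p := r)
    (le_top : (S₀ : Subgroup ↥M).map M.subtype ≤ ⊤) hSp hidx (D := ⁅M, M⁆) (by
      intro x hx u _ hxu
      have hxinv : x⁻¹ ∈ (S₀ : Subgroup ↥M).map M.subtype := Subgroup.inv_mem _ hx
      have h1 : u * x⁻¹ * u⁻¹ ∈ (S₀ : Subgroup ↥M).map M.subtype := by
        have : u * x⁻¹ * u⁻¹ = x⁻¹ * ⁅x, u⁆ := by
          rw [commutatorElement_def]; group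
        rw [this]
        exact Subgroup.mul_mem _ hxinv hxu
      obtain ⟨-, hc2⟩ := hctrl ({x⁻¹} : Set G) (by
        intro y hy
        rw [Set.mem_singleton_iff] at hy
        rw [hy]; exact hxinv)
      obtain ⟨m, hm, hmx⟩ := hc2 u (by
        rintro _ ⟨y, hy, rfl⟩
        rw [Set.mem_singleton_iff] at hy
        rw [hy]; exact h1)
      have h2 := hmx x⁻¹ rfl
      have h3 : ⁅x, u⁆ = ⁅x, m⁆ := by
        rw [commutatorElement_def, commutatorElement_def]
        calc x * u * x⁻¹ * u⁻¹ = x * (u * x⁻¹ * u⁻¹) := by group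
          _ = x * (m * x⁻¹ * m⁻¹) := by rw [h2]
          _ = x * m * x⁻¹ * m⁻¹ := by group
      rw [h3]
      exact Subgroup.commutator_mem_commutator (hSM hx) hm)
  rw [commutator_eq_top_of_simple hsimple hnc, inf_top_eq] at hfocal
  apply sylow_not_le_commutator h S₀
  intro s hs
  have h1 : (s : G) ∈ ⁅M, M⁆ := hfocal ⟨s, hs, rfl⟩
  rw [← Subgroup.map_subtype_commutator] at h1
  obtain ⟨s', hs', hss'⟩ := h1
  have : s' = s := hinj hss'
  rw [← this]; exact hs'

/-- in a minimal simple CN-group of odd order no subgroup is a three-step group -/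
theorem no_threeStep_subgroup {G : Type u} [Group G] [Finite G]
    (hG : Cfsg.IsMinSimpleOddOrder G) (hCN : Cfsg.IsCNGroup G) (H : Subgroup G) (p : ℕ) :
    ¬ Cfsg.IsThreeStepGroup p ↥H := by
  intro hTS
  obtain ⟨Q, A, r, z, a, x, c⟩ := exists_config_of_threeStep hTS
  have hG' := hG
  obtain ⟨hodd, hsimple, hnc, hsolv⟩ := hG
  have hHtop : H ≠ ⊤ := by
    rintro rfl
    haveI := hsimple
    haveI : Nontrivial ↥(⊤ : Subgroup G) :=
      (Subgroup.topEquiv (G := G)).toEquiv.nontrivial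
    have hs : IsSimpleGroup ↥(⊤ : Subgroup G) :=
      IsSimpleGroup.isSimpleGroup_of_surjective (Subgroup.topEquiv (G := G)).symm.toMonoidHom
        (Subgroup.topEquiv (G := G)).symm.surjective
    obtain ⟨-, A', hA1, -, -, -, hNn, hNtop, -, -, -⟩ := hTS
    rcases hNn.eq_bot_or_eq_top with h1 | h1
    · apply hA1
      rw [eq_bot_iff, ← h1]; exact le_sup_right
    · exact hNtop h1
  obtain ⟨M, hM, hHM⟩ := (eq_top_or_exists_le_coatom H).resolve_left hHtop
  haveI : Group.IsSolvable ↥M := hsolv M hM.1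
  have hCNM := Cfsg.Agent.Lib.Helper33.isCNGroup_subgroup hCN M
  have c' := c.map (Subgroup.inclusion hHM) (Subgroup.inclusion_injective hHM)
  rcases Cfsg.Agent.S1476.result hCNM with h1 | h2 | h3
  · exact c'.not_nilpotent h1
  · obtain ⟨K, E, hK, hc, hE, hcyc | ⟨C, Qt, -, -, -, -, n, ⟨e⟩⟩⟩ := h2
    · exact c'.not_frobenius ⟨K, E, hK, hc, hE, hcyc⟩
    · have h4 : Nat.card Qt = 4 * 2 ^ n := by
        haveI : NeZero (2 ^ n) := ⟨by positivity⟩
        rw [Nat.card_congr e.toEquiv, Nat.card_eq_fintype_card, QuaternionGroup.card]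
      have h2 : 2 ∣ Nat.card G := by
        have h5 : Nat.card Qt ∣ Nat.card G :=
          (Subgroup.card_subgroup_dvd_card Qt).trans (Subgroup.card_subgroup_dvd_card M)
        refine dvd_trans ?_ h5
        rw [h4]; exact ⟨2 * 2 ^ n, by ring⟩
      exact (Nat.not_even_iff_odd.mpr hodd) (even_iff_two_dvd.mpr h2)
  · obtain ⟨r', hr', h3'⟩ := h3
    haveI : Fact r'.Prime := ⟨hr'⟩
    exact no_maximal_threeStep hG' M hM h3'

end Cfsg.Agent.Lib.Helper12.CNNoThreeStep
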