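import Mathlib
import Cfsg.Prelude.Def_Solvable
import Cfsg.Agent.Lib.Helper12.ThreeStep
import Cfsg.Agent.Lib.Helper02.FrobComplement
import Cfsg.Agent.Lib.Helper72.Basic

/-!
# Frobenius subgroups with nilpotent kernel and abelian complement, in ambient form

`FrobIn K E M`: the subgroup `M` of `G` is the semidirect product of its normal nilpotent subgroup `K`
and the abelian subgroup `E`, the nonidentity elements of `E` acting without fixed points on `K`.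
-/

set_option autoImplicit false
set_option linter.unusedSectionVars false
set_option linter.style.haveILetI false
open Cfsg
open scoped Pointwise

namespace Cfsg.Agent.Lib.Helper12.FrobGp

variable {G : Type*} [Group G]

/-- `M = K ⋊ E` is a Frobenius group with nilpotent kernel `K` and abelian complement `E` -/
structure FrobIn (K E M : Subgroup G) : Prop where
  hKM : K ≤ M
  hEM : E ≤ M
  hnorm : ∀ m ∈ M, ∀ k ∈ K, m * k * m⁻¹ ∈ K
  hinf : K ⊓ E = ⊥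
  hprod : ∀ m ∈ M, ∃ k ∈ K, ∃ e ∈ E, m = k * e
  hK1 : K ≠ ⊥
  hE1 : E ≠ ⊥
  hEcomm : ∀ a ∈ E, ∀ b ∈ E, a * b = b * a
  hfpf : ∀ e ∈ E, e ≠ 1 → ∀ k ∈ K, k * e = e * k → k = 1
  hnil : Group.IsNilpotent ↥K
  hcop : (Nat.card K).Coprime (Nat.card E)

section typelevel

variable {X : Type*} [Group X] [Finite X]

/-- a Frobenius complement acts without fixed points on a normal complement -/
theorem fpf_of_frobeniusComplement (K E : Subgroup X) (hc : Subgroup.IsComplement' K E)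
    (hE : Cfsg.IsFrobeniusComplement E) :
    ∀ e ∈ E, e ≠ 1 → ∀ k ∈ K, k * e = e * k → k = 1 := by
  obtain ⟨-, -, hfrob⟩ := hE
  have hKE : K ⊓ E = ⊥ := hc.disjoint.eq_bot
  intro e he he1 k hk hcomm
  by_contra hk1
  have hkE : k ∉ E := by
    intro h
    have : k ∈ K ⊓ E := ⟨hk, h⟩
    rw [hKE, Subgroup.mem_bot] at this
    exact hk1 this
  have h1 := hfrob k hkE
  have h2 : e ∈ E ⊓ (MulAut.conj k • E) := by
    refine ⟨he, ?_⟩
    refine (Subgroup.mem_smul_pointwise_iff_exists e _ E).mpr ⟨e, he, ?_⟩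
    rw [MulAut.smul_def, MulAut.conj_apply, hcomm]
    group
  rw [h1, Subgroup.mem_bot] at h2
  exact he1 h2

end typelevel

section convert

variable [Finite G]

/-- from the type-level description (as produced by the CN trichotomy) to the ambient one -/
theorem frobIn_of_type (M : Subgroup G) (K₀ E₀ : Subgroup ↥M) (hK : K₀.Normal)
    (hc : Subgroup.IsComplement' K₀ E₀) (hE : Cfsg.IsFrobeniusComplement E₀)
    (hcyc : IsCyclic ↥E₀) : FrobIn (K₀.map M.subtype) (E₀.map M.subtype) M := by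
  have hinj := Subgroup.subtype_injective M
  have hfpf := fpf_of_frobeniusComplement K₀ E₀ hc hE
  have hnil₀ := Cfsg.Agent.Lib.Helper12.ThreeStep.frobenius_kernel_nilpotent K₀ E₀ hK hc hE
  have hKE : K₀ ⊓ E₀ = ⊥ := hc.disjoint.eq_bot
  have hK1 : K₀ ≠ ⊥ := by
    intro h
    have := hc.sup_eq_top
    rw [h, bot_sup_eq] at this
    exact hE.2.1 this
  refine ⟨Subgroup.map_subtype_le _, Subgroup.map_subtype_le _, ?_, ?_, ?_, ?_, ?_, ?_, ?_, ?_, ?_⟩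
  · rintro m hm _ ⟨k, hk, rfl⟩
    exact ⟨⟨m, hm⟩ * k * ⟨m, hm⟩⁻¹, hK.conj_mem k hk ⟨m, hm⟩, rfl⟩
  · rw [eq_bot_iff]
    rintro x ⟨⟨k, hk, rfl⟩, ⟨e, he, hek⟩⟩
    have : e = k := hinj hek
    subst this
    have : e ∈ K₀ ⊓ E₀ := ⟨hk, he⟩
    rw [hKE, Subgroup.mem_bot] at this
    rw [this]; exact Subgroup.one_mem _
  · intro m hm
    have hm' : (⟨m, hm⟩ : ↥M) ∈ K₀ ⊔ E₀ := by rw [hc.sup_eq_top]; trivial
    haveI := hK
    rw [Subgroup.mem_sup_of_normal_left] at hm'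
    obtain ⟨k, hk, e, he, hke⟩ := hm'
    refine ⟨k, ⟨k, hk, rfl⟩, e, ⟨e, he, rfl⟩, ?_⟩
    have := congrArg Subtype.val hke
    simpa using this.symm
  · intro h
    exact hK1 ((Subgroup.map_eq_bot_iff_of_injective _ hinj).mp h)
  · intro h
    exact hE.1 ((Subgroup.map_eq_bot_iff_of_injective _ hinj).mp h)
  · rintro _ ⟨a, ha, rfl⟩ _ ⟨b, hb, rfl⟩
    have hcm := hcyc.isMulCommutative
    have h3 := hcm.is_comm.comm (⟨a, ha⟩ : E₀) ⟨b, hb⟩
    have h4 : a * b = b * a := congrArg Subtype.val h3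
    have := congrArg Subtype.val h4
    simpa using this
  · rintro _ ⟨e, he, rfl⟩ he1 _ ⟨k, hk, rfl⟩ hcomm
    have he1' : e ≠ 1 := by
      rintro rfl; exact he1 rfl
    have : k * e = e * k := by
      apply hinj; simpa using hcomm
    rw [hfpf e he he1' k hk this]; rfl
  · exact (Group.isNilpotent_congr (K₀.equivMapOfInjective _ hinj)).mp hnil₀
  · rw [Subgroup.card_map_of_injective hinj, Subgroup.card_map_of_injective hinj]
    haveI := hK
    apply Nat.Coprime.symm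
    apply Cfsg.Agent.Lib.Helper02.coprime_card_of_fpf K₀ E₀ _ E₀ le_rfl
    intro h hh hh1
    rw [eq_bot_iff]
    rintro k ⟨hk, hkc⟩
    rw [Subgroup.mem_bot]
    apply hfpf h hh hh1 k hk
    have hkc' : k ∈ Subgroup.centralizer ({h} : Set ↥M) := hkc
    rw [Subgroup.mem_centralizer_iff] at hkc'
    exact (hkc' h rfl).symm

end convert

section consequences

variable [Finite G] {K E M : Subgroup G}

/-- commutators of elements of `M` lie in `K` -/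
theorem FrobIn.comm_mem (F : FrobIn K E M) {u v : G} (hu : u ∈ M) (hv : v ∈ M) :
    u * v * u⁻¹ * v⁻¹ ∈ K := by
  obtain ⟨k₁, hk₁, e₁, he₁, rfl⟩ := F.hprod u hu
  obtain ⟨k₂, hk₂, e₂, he₂, rfl⟩ := F.hprod v hv
  have h1 : e₂ * e₁⁻¹ = e₁⁻¹ * e₂ := by
    have := F.hEcomm e₁ he₁ e₂ he₂
    calc e₂ * e₁⁻¹ = e₁⁻¹ * (e₁ * e₂) * e₁⁻¹ := by group
      _ = e₁⁻¹ * (e₂ * e₁) * e₁⁻¹ := by rw [this]
      _ = e₁⁻¹ * e₂ := by group
  have h2 : k₁ * e₁ * (k₂ * e₂) * (k₁ * e₁)⁻¹ * (k₂ * e₂)⁻¹ =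
      k₁ * (e₁ * k₂ * e₁⁻¹) * (e₂ * k₁⁻¹ * e₂⁻¹) * k₂⁻¹ := by
    calc k₁ * e₁ * (k₂ * e₂) * (k₁ * e₁)⁻¹ * (k₂ * e₂)⁻¹
        = k₁ * e₁ * k₂ * (e₂ * e₁⁻¹) * k₁⁻¹ * e₂⁻¹ * k₂⁻¹ := by group
      _ = k₁ * e₁ * k₂ * (e₁⁻¹ * e₂) * k₁⁻¹ * e₂⁻¹ * k₂⁻¹ := by rw [h1]
      _ = k₁ * (e₁ * k₂ * e₁⁻¹) * (e₂ * k₁⁻¹ * e₂⁻¹) * k₂⁻¹ := by group
  rw [h2]
  exact K.mul_mem (K.mul_mem (K.mul_mem hk₁ (F.hnorm e₁ (F.hEM he₁) k₂ hk₂))
    (F.hnorm e₂ (F.hEM he₂) _ (K.inv_mem hk₁))) (K.inv_mem hk₂)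

/-- an element of `M` outside `K` is `K`-conjugate to a nonidentity element of `E` -/
theorem FrobIn.conj_to_E (F : FrobIn K E M) {m : G} (hm : m ∈ M) (hmK : m ∉ K) :
    ∃ c ∈ K, ∃ e ∈ E, e ≠ 1 ∧ m = c⁻¹ * e * c := by
  obtain ⟨k, hk, e, he, rfl⟩ := F.hprod m hm
  have he1 : e ≠ 1 := by
    rintro rfl
    apply hmK
    rw [mul_one]; exact hk
  have heM := F.hEM he
  let f : K → K := fun c => ⟨(c : G)⁻¹ * (e * c * e⁻¹),
    K.mul_mem (K.inv_mem c.2) (F.hnorm e heM c c.2)⟩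
  have hf : Function.Injective f := by
    intro c₁ c₂ h12
    have h := congrArg Subtype.val h12
    simp only [f] at h
    have h2 : ((c₂ : G) * (c₁ : G)⁻¹) * e = e * ((c₂ : G) * (c₁ : G)⁻¹) := by
      have e1 : (c₁ : G)⁻¹ * e * c₁ = (c₂ : G)⁻¹ * e * c₂ := by
        calc (c₁ : G)⁻¹ * e * c₁ = ((c₁ : G)⁻¹ * (e * c₁ * e⁻¹)) * e := by group
          _ = ((c₂ : G)⁻¹ * (e * c₂ * e⁻¹)) * e := by rw [h]
          _ = (c₂ : G)⁻¹ * e * c₂ := by group
      calc ((c₂ : G) * (c₁ : G)⁻¹) * e = c₂ * ((c₁ : G)⁻¹ * e * c₁) * (c₁ : G)⁻¹ := by group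
        _ = c₂ * ((c₂ : G)⁻¹ * e * c₂) * (c₁ : G)⁻¹ := by rw [e1]
        _ = e * ((c₂ : G) * (c₁ : G)⁻¹) := by group
    have h3 := F.hfpf e he he1 _ (K.mul_mem c₂.2 (K.inv_mem c₁.2)) h2
    apply Subtype.ext
    have : (c₂ : G) = c₁ := by
      calc (c₂ : G) = ((c₂ : G) * (c₁ : G)⁻¹) * c₁ := by group
        _ = c₁ := by rw [h3, one_mul]
    exact this.symm
  obtain ⟨c, hc⟩ := Finite.surjective_of_injective hf ⟨k, hk⟩
  have h := congrArg Subtype.val hc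
  simp only [f] at h
  refine ⟨c, c.2, e, he, he1, ?_⟩
  rw [← h]; group

/-- elements of `M` outside `K` act without fixed points on `K` -/
theorem FrobIn.fpf_outside (F : FrobIn K E M) {m : G} (hm : m ∈ M) (hmK : m ∉ K) {k : G}
    (hk : k ∈ K) (hcomm : k * m = m * k) : k = 1 := by
  obtain ⟨c, hc, e, he, he1, rfl⟩ := F.conj_to_E hm hmK
  have h1 : (c * k * c⁻¹) * e = e * (c * k * c⁻¹) := by
    calc (c * k * c⁻¹) * e = c * (k * (c⁻¹ * e * c)) * c⁻¹ := by group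
      _ = c * ((c⁻¹ * e * c) * k) * c⁻¹ := by rw [hcomm]
      _ = e * (c * k * c⁻¹) := by group
  have h2 := F.hfpf e he he1 _ (F.hnorm c (F.hKM hc) k hk) h1
  calc k = c⁻¹ * (c * k * c⁻¹) * c := by group
    _ = 1 := by rw [h2]; group

/-- if `p` divides `|K|`, the `p`-elements of `M` lie in `K` -/
theorem FrobIn.mem_of_pElement (F : FrobIn K E M) {p : ℕ} (_hp : p.Prime)
    (hpK : p ∣ Nat.card K) {x : G} (hx : x ∈ M) {k : ℕ} (hxk : x ^ p ^ k = 1) : x ∈ K := by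
  obtain ⟨c, hc, e, he, rfl⟩ := F.hprod x hx
  have hpow : ∀ n : ℕ, ∃ c' ∈ K, (c * e) ^ n = c' * e ^ n := by
    intro n
    induction n with
    | zero => exact ⟨1, K.one_mem, by simp⟩
    | succ n ih =>
      obtain ⟨c', hc', h⟩ := ih
      refine ⟨c' * (e ^ n * c * (e ^ n)⁻¹), K.mul_mem hc'
        (F.hnorm _ (M.pow_mem (F.hEM he) n) c hc), ?_⟩
      rw [pow_succ, h, pow_succ]; group
  obtain ⟨c', hc', h⟩ := hpow (p ^ k)
  rw [hxk] at h
  have h1 : e ^ p ^ k ∈ K ⊓ E := by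
    refine ⟨?_, E.pow_mem he _⟩
    have : e ^ p ^ k = c'⁻¹ := by
      calc e ^ p ^ k = c'⁻¹ * (c' * e ^ p ^ k) := by group
        _ = c'⁻¹ := by rw [← h, mul_one]
    rw [this]; exact K.inv_mem hc'
  rw [F.hinf, Subgroup.mem_bot] at h1
  have h2 : orderOf e ∣ p ^ k := orderOf_dvd_of_pow_eq_one h1
  have h3 : orderOf e ∣ Nat.card E := by
    have := orderOf_dvd_natCard (⟨e, he⟩ : ↥E)
    rwa [← Subgroup.orderOf_coe] at this
  have h4 : (p ^ k).Coprime (Nat.card E) :=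
    Nat.Coprime.pow_left k (Nat.Coprime.coprime_dvd_left hpK F.hcop)
  have h5 : orderOf e = 1 := Nat.eq_one_of_dvd_coprimes h4 h2 h3
  rw [orderOf_eq_one_iff] at h5
  rw [h5, mul_one]; exact hc

/-- a nilpotent subgroup of `M` lies in `K` or meets it trivially -/
theorem FrobIn.nilpotent_le_or_inf (F : FrobIn K E M) {X : Subgroup G} (hXM : X ≤ M)
    (hX : Group.IsNilpotent ↥X) : X ≤ K ∨ X ⊓ K = ⊥ := by
  by_contra hcon
  push Not at hcon
  obtain ⟨hXK, hinf⟩ := hcon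
  obtain ⟨x, hxX, hxK⟩ := SetLike.not_le_iff_exists.mp hXK
  obtain ⟨y', hy'1⟩ := (Subgroup.ne_bot_iff_exists_ne_one (H := X ⊓ K)).mp hinf
  obtain ⟨y, hy⟩ := y'
  have hy1 : y ≠ 1 := fun h => hy'1 (Subtype.ext h)
  have hord1 : orderOf y ≠ 1 := by
    rw [Ne, orderOf_eq_one_iff]; exact hy1
  obtain ⟨p, hp, hpd⟩ := Nat.exists_prime_and_dvd hord1
  haveI : Fact p.Prime := ⟨hp⟩
  have hy'ord : orderOf (y ^ (orderOf y / p)) = p :=
    orderOf_pow_orderOf_div (orderOf_pos y).ne' hpd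
  have hy'X : y ^ (orderOf y / p) ∈ X := X.pow_mem hy.1 _
  have hy'K : y ^ (orderOf y / p) ∈ K := K.pow_mem hy.2 _
  have hpK : p ∣ Nat.card K := by
    have := orderOf_dvd_natCard (⟨y ^ (orderOf y / p), hy'K⟩ : ↥K)
    rw [← Subgroup.orderOf_coe] at this
    rw [← hy'ord]; exact this
  obtain ⟨u, v, hxuv, hu, hv, hucop, k, hvk⟩ :=
    Cfsg.Agent.Lib.Helper72.exists_coprime_part_decomp p x
  have hxz : Subgroup.zpowers x ≤ X := (Subgroup.zpowers_le).mpr hxX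
  have hvK : v ∈ K := F.mem_of_pElement hp hpK (hXM (hxz hv)) hvk
  have huK : u ∉ K := by
    intro h
    apply hxK
    rw [hxuv]; exact K.mul_mem h hvK
  have hR : IsPGroup p ↥(Subgroup.zpowers (y ^ (orderOf y / p))) := by
    apply IsPGroup.of_card (n := 1)
    rw [Nat.card_zpowers, hy'ord, pow_one]
  have hKu : (Nat.card ↥(Subgroup.zpowers u)).Coprime p := by
    rw [Nat.card_zpowers]; exact hucop
  have h := Cfsg.Agent.Lib.Helper33.le_centralizer_of_nilpotent_coprime hX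
    ((Subgroup.zpowers_le).mpr hy'X) ((Subgroup.zpowers_le).mpr (hxz hu)) hR hKu
    (Subgroup.mem_zpowers u)
  rw [Subgroup.mem_centralizer_iff] at h
  have hcomm := h _ (Subgroup.mem_zpowers (y ^ (orderOf y / p)))
  have h1 := F.fpf_outside (hXM (hxz hu)) huK hy'K hcomm
  rw [h1, orderOf_one] at hy'ord
  exact hp.one_lt.ne hy'ord

/-- a subgroup of `M` meeting `K` trivially is abelian -/
theorem FrobIn.comm_of_inf_eq_bot (F : FrobIn K E M) {X : Subgroup G} (hXM : X ≤ M)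
    (hXK : X ⊓ K = ⊥) : ∀ a ∈ X, ∀ b ∈ X, a * b = b * a := by
  intro a ha b hb
  have h1 : a * b * a⁻¹ * b⁻¹ ∈ X ⊓ K :=
    ⟨X.mul_mem (X.mul_mem (X.mul_mem ha hb) (X.inv_mem ha)) (X.inv_mem hb),
      F.comm_mem (hXM ha) (hXM hb)⟩
  rw [hXK, Subgroup.mem_bot] at h1
  calc a * b = (a * b * a⁻¹ * b⁻¹) * (b * a) := by group
    _ = b * a := by rw [h1, one_mul]

/-- no nonidentity element of `K` normalizes a nontrivial subgroup of `M` meeting `K` trivially -/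
theorem FrobIn.normalizer_inf_eq_bot (F : FrobIn K E M) {X : Subgroup G} (hXM : X ≤ M)
    (hXK : X ⊓ K = ⊥) (hX1 : X ≠ ⊥) : Subgroup.normalizer (X : Set G) ⊓ K = ⊥ := by
  rw [eq_bot_iff]
  rintro k ⟨hkN, hkK⟩
  rw [Subgroup.mem_bot]
  obtain ⟨h, hh1⟩ := (Subgroup.ne_bot_iff_exists_ne_one).mp hX1
  have hh1' : (h : G) ≠ 1 := fun e => hh1 (Subtype.ext e)
  have hhK : (h : G) ∉ K := by
    intro hK'
    have : (h : G) ∈ X ⊓ K := ⟨h.2, hK'⟩
    rw [hXK, Subgroup.mem_bot] at this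
    exact hh1' this
  have h1 : k * h * k⁻¹ * (h : G)⁻¹ ∈ X ⊓ K := by
    refine ⟨X.mul_mem ((Subgroup.mem_normalizer_iff.mp hkN (h : G)).mp h.2) (X.inv_mem h.2), ?_⟩
    have : k * h * k⁻¹ * (h : G)⁻¹ = k * ((h : G) * k⁻¹ * (h : G)⁻¹) := by group
    rw [this]
    exact K.mul_mem hkK (F.hnorm _ (hXM h.2) _ (K.inv_mem hkK))
  rw [hXK, Subgroup.mem_bot] at h1
  have hcomm : k * h = h * k := by
    calc k * (h : G) = (k * h * k⁻¹ * (h : G)⁻¹) * (h * k) := by group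
      _ = h * k := by rw [h1, one_mul]
  exact F.fpf_outside (hXM h.2) hhK hkK hcomm

theorem FrobIn.le_normalizer {K E M : Subgroup G} (F : FrobIn K E M) :
    M ≤ Subgroup.normalizer (K : Set G) := by
  intro m hm
  rw [Subgroup.mem_normalizer_iff]
  intro k
  constructor
  · intro hk; exact F.hnorm m hm k hk
  · intro hk
    have := F.hnorm m⁻¹ (M.inv_mem hm) _ hk
    have e : m⁻¹ * (m * k * m⁻¹) * m⁻¹⁻¹ = k := by group
    rwa [e] at this

theorem FrobIn.isComplIn {K E M : Subgroup G} (F : FrobIn K E M) : Cfsg.IsComplIn K E M :=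
  ⟨F.hKM, F.hEM, F.hinf, F.hprod⟩

theorem FrobIn.fpf_inf {K E M : Subgroup G} (F : FrobIn K E M) :
    ∀ e ∈ E, e ≠ 1 → K ⊓ Subgroup.centralizer ({e} : Set G) = ⊥ := by
  intro e he he1
  rw [eq_bot_iff]
  rintro k ⟨hk, hkc⟩
  rw [Subgroup.mem_bot]
  have hkc' : k ∈ Subgroup.centralizer ({e} : Set G) := hkc
  rw [Subgroup.mem_centralizer_iff] at hkc'
  exact F.hfpf e he he1 k hk (hkc' e rfl).symm

end consequences

end Cfsg.Agent.Lib.Helper12.FrobGp
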