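import Mathlib
import Cfsg.Agent.Lib.Helper23.SylowInter

set_option autoImplicit false

namespace Cfsg.Agent.Lib.Helper12

open Subgroup

variable {G : Type*} [Group G]

/-- A simple group that is not cyclic is not commutative. -/
theorem not_comm_of_simple_not_cyclic [IsSimpleGroup G] (h : ¬ IsCyclic G) :
    ¬ IsMulCommutative G := by
  intro hc
  apply h
  let _ : CommGroup G := { (inferInstance : Group G) with mul_comm := hc.is_comm.comm }
  infer_instance

/-- A finite simple non-commutative group is not a `p`-group. -/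
theorem not_isPGroup_of_simple [Finite G] [IsSimpleGroup G] (hG : ¬ IsMulCommutative G)
    (p : ℕ) [Fact p.Prime] : ¬ IsPGroup p G := by
  intro hp
  have := hp.center_nontrivial
  rcases (inferInstance : (Subgroup.center G).Normal).eq_bot_or_eq_top with h | h
  · exact absurd h (Subgroup.nontrivial_iff_ne_bot _ |>.mp this)
  · apply hG
    refine ⟨⟨fun a b => ?_⟩⟩
    have : a ∈ Subgroup.center G := by rw [h]; trivial
    exact (Subgroup.mem_center_iff.mp this b).symm

/-- The Sylow test: in a finite simple non-commutative group of order `p ^ k * m` (`p ∤ m`,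
`0 < k`), the number of Sylow `p`-subgroups is a divisor `d ≠ 1` of `m`, congruent to `1` mod
`p`, with `|G| ∣ d!`. -/
theorem sylow_count_spec [Finite G] [IsSimpleGroup G] (hG : ¬ IsMulCommutative G)
    (p k m : ℕ) [Fact p.Prime] (hk : 0 < k) (h : Nat.card G = p ^ k * m) (hm : ¬ p ∣ m) :
    Nat.card (Sylow p G) ∣ m ∧ Nat.card (Sylow p G) % p = 1 ∧ Nat.card (Sylow p G) ≠ 1 ∧
      Nat.card G ∣ (Nat.card (Sylow p G)).factorial := by
  have hp : p.Prime := Fact.out
  refine ⟨Helper23.card_sylow_dvd_of_card_eq p k m h hm, ?_, ?_, ?_⟩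
  · have := card_sylow_modEq_one p G
    rw [Nat.ModEq, Nat.mod_eq_of_lt hp.one_lt] at this
    exact this
  · obtain ⟨P⟩ : Nonempty (Sylow p G) := inferInstance
    apply Helper23.card_sylow_ne_one_of_simple p P
    · rw [Helper23.sylow_card_of_card_eq p k m h hm P]
      exact (Nat.one_lt_pow hk.ne' hp.one_lt).ne'
    · intro hcard
      apply not_isPGroup_of_simple hG p
      have : (P : Subgroup G) = ⊤ := Subgroup.eq_top_of_card_eq _ hcard
      have hP := P.isPGroup'
      rw [this] at hP
      exact IsPGroup.of_equiv hP Subgroup.topEquiv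
  · obtain ⟨P⟩ : Nonempty (Sylow p G) := inferInstance
    have hne : Nat.card (Sylow p G) ≠ 1 := by
      apply Helper23.card_sylow_ne_one_of_simple p P
      · rw [Helper23.sylow_card_of_card_eq p k m h hm P]
        exact (Nat.one_lt_pow hk.ne' hp.one_lt).ne'
      · intro hcard
        apply not_isPGroup_of_simple hG p
        have : (P : Subgroup G) = ⊤ := Subgroup.eq_top_of_card_eq _ hcard
        have hP := P.isPGroup'
        rw [this] at hP
        exact IsPGroup.of_equiv hP Subgroup.topEquiv
    rw [Helper23.card_sylow_eq_index_normalizer' p P] at hne ⊢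
    apply Helper23.card_dvd_factorial_index hG
    intro htop
    apply hne
    rw [htop, Subgroup.index_top]

theorem exists_sylow_count [Finite G] [IsSimpleGroup G] (hG : ¬ IsMulCommutative G)
    (p k m : ℕ) [Fact p.Prime] (hk : 0 < k) (h : Nat.card G = p ^ k * m) (hm : ¬ p ∣ m) :
    ∃ d, d ∣ m ∧ d % p = 1 ∧ d ≠ 1 ∧ Nat.card G ∣ d.factorial :=
  ⟨_, sylow_count_spec hG p k m hk h hm⟩

/-- Decidable form of the Sylow test. -/
theorem false_of_sylow_test [Finite G] [IsSimpleGroup G] (hG : ¬ IsMulCommutative G)
    (n p k m : ℕ) (hn : Nat.card G = n) (hp : p.Prime) (hk : 0 < k) (h : n = p ^ k * m)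
    (hm : ¬ p ∣ m)
    (hcheck : ∀ d ∈ Finset.range (m + 1), d ∣ m → d % p = 1 → d ≠ 1 → ¬ n ∣ d.factorial) :
    False := by
  have : Fact p.Prime := ⟨hp⟩
  obtain ⟨d, hd, hdp, hd1, hdf⟩ := exists_sylow_count hG p k m hk (hn.trans h) hm
  have hm0 : 0 < m := Nat.pos_of_ne_zero (by rintro rfl; exact hm (dvd_zero p))
  exact hcheck d (Finset.mem_range.mpr (Nat.lt_succ_of_le (Nat.le_of_dvd hm0 hd))) hd hdp hd1
    (hn ▸ hdf)

/-- Burnside: a finite simple non-commutative group has no nontrivial Sylow subgroup that is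
central in its normalizer. -/
theorem false_of_normalizer_le_centralizer [Finite G] [IsSimpleGroup G]
    (hG : ¬ IsMulCommutative G) (p : ℕ) [Fact p.Prime] (P : Sylow p G)
    (hP : normalizer (P : Set G) ≤ centralizer (P : Set G)) (hne : (P : Subgroup G) ≠ ⊥) :
    False := by
  have hc := MonoidHom.ker_transferSylow_isComplement' P hP
  rcases (MonoidHom.normal_ker (MonoidHom.transferSylow P hP)).eq_bot_or_eq_top with h | h
  · rw [h, Subgroup.isComplement'_bot_left] at hc
    apply hG
    have hP' : normalizer ((P : Subgroup G) : Set G) ≤ centralizer ((P : Subgroup G) : Set G) := hP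
    rw [hc] at hP'
    refine ⟨⟨fun a b => ?_⟩⟩
    have : a ∈ centralizer ((⊤ : Subgroup G) : Set G) :=
      hP' (Subgroup.le_normalizer (Subgroup.mem_top a))
    rw [Subgroup.mem_centralizer_iff] at this
    exact (this b (by simp)).symm
  · rw [h, Subgroup.isComplement'_top_left] at hc
    exact hne hc

/-- A finite simple non-cyclic group has no cyclic Sylow subgroup for the smallest prime divisor
of its order. -/
theorem false_of_cyclic_sylow_minFac [Finite G] [IsSimpleGroup G] (hG : ¬ IsMulCommutative G)
    (p : ℕ) [Fact p.Prime] (hp : (Nat.card G).minFac = p) (P : Sylow p G) (hP : IsCyclic P) :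
    False := by
  apply false_of_normalizer_le_centralizer hG p P (hP.normalizer_le_centralizer hp)
  apply P.ne_bot_of_dvd_card
  rw [← hp]
  exact Nat.minFac_dvd _

/-- No finite simple non-commutative group has order `2 * m` with `m` odd. -/
theorem false_of_card_two_mul_odd [Finite G] [IsSimpleGroup G] (hG : ¬ IsMulCommutative G)
    (m : ℕ) (hm : Odd m) (h : Nat.card G = 2 * m) : False := by
  have : Fact (Nat.Prime 2) := ⟨Nat.prime_two⟩
  obtain ⟨P⟩ : Nonempty (Sylow 2 G) := inferInstance
  have hm2 : ¬ 2 ∣ m := by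
    rw [← even_iff_two_dvd]; exact Nat.not_even_iff_odd.mpr hm
  have hcard : Nat.card (P : Subgroup G) = 2 :=
    (Helper23.sylow_card_of_card_eq 2 1 m (by rw [h, pow_one]) hm2 P).trans (pow_one 2)
  have hcyc : IsCyclic (P : Subgroup G) := isCyclic_of_prime_card hcard
  apply false_of_cyclic_sylow_minFac hG 2 _ P hcyc
  rw [h]
  exact (Nat.minFac_eq_two_iff _).mpr (Dvd.intro m rfl)

/-- If the Sylow `p`-subgroups have order `p` and there are `|G| / p` of them, `G` is not
simple non-commutative. -/
theorem false_of_sylow_self_normalizing [Finite G] [IsSimpleGroup G] (hG : ¬ IsMulCommutative G)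
    (p m : ℕ) [Fact p.Prime] (h : Nat.card G = p * m) (hm : ¬ p ∣ m)
    (hcount : Nat.card (Sylow p G) = m) : False := by
  have hp : p.Prime := Fact.out
  obtain ⟨P⟩ : Nonempty (Sylow p G) := inferInstance
  have hcard : Nat.card (P : Subgroup G) = p :=
    (Helper23.sylow_card_of_card_eq p 1 m (by rw [h, pow_one]) hm P).trans (pow_one p)
  have hN := Helper23.card_normalizer_mul_card_sylow p P
  rw [hcount, h] at hN
  have hm0 : 0 < m := Nat.pos_of_ne_zero (by rintro rfl; exact hm (dvd_zero p))
  have hN' : Nat.card (normalizer ((P : Subgroup G) : Set G)) = p :=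
    Nat.eq_of_mul_eq_mul_right hm0 hN
  have heq : (P : Subgroup G) = normalizer ((P : Subgroup G) : Set G) :=
    Subgroup.eq_of_le_of_card_ge Subgroup.le_normalizer (by rw [hN', hcard])
  have hcyc : IsCyclic (P : Subgroup G) := isCyclic_of_prime_card hcard
  have hcomm : (P : Subgroup G) ≤ centralizer ((P : Subgroup G) : Set G) :=
    Subgroup.le_centralizer_iff_isMulCommutative.mpr inferInstance
  apply false_of_normalizer_le_centralizer hG p P
  · show normalizer ((P : Subgroup G) : Set G) ≤ centralizer ((P : Subgroup G) : Set G)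
    rw [← heq]; exact hcomm
  · apply P.ne_bot_of_dvd_card
    rw [h]; exact Dvd.intro m rfl

end Cfsg.Agent.Lib.Helper12
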