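import Mathlib
import Cfsg.Agent.Lib.Helper12.CNNoThreeStep
import Cfsg.Agent.Lib.Helper12.CNMaxNilp
import Cfsg.Agent.Lib.Helper12.FrobIn
import Cfsg.Agent.Lib.Helper12.SmallSimple
import Cfsg.Agent.Lib.Helper61.NilMax

/-!
# Maximal subgroups of a minimal simple CN-group of odd order

Every maximal subgroup is a Frobenius group `K ⋊ E` with nilpotent kernel and cyclic complement; the
Sylow subgroups are TI; the maximal nilpotent subgroups are exactly the Frobenius kernels of the maximal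
subgroups, they are Hall TI-subgroups and their normalizers are the maximal subgroups.
-/

set_option autoImplicit false
set_option linter.unusedSectionVars false
set_option linter.style.haveILetI false
open Cfsg
open scoped Pointwise

universe u

namespace Cfsg.Agent.Lib.Helper12.CNMaxSub

open Cfsg.Agent.Lib.Helper12.CNMaxNilp
open Cfsg.Agent.Lib.Helper12.FrobGp

variable {G : Type u} [Group G] [Finite G]

/-- every maximal subgroup is a Frobenius group with nilpotent kernel and abelian complement -/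
theorem exists_frobIn (hG : Cfsg.IsMinSimpleOddOrder G) (hCN : Cfsg.IsCNGroup G)
    (M : Subgroup G) (hM : IsCoatom M) : ∃ K E : Subgroup G, FrobIn K E M := by
  have hG' := hG
  obtain ⟨hodd, hsimple, hnc, hsolv⟩ := hG
  haveI : Group.IsSolvable ↥M := hsolv M hM.1
  have hoddM : Odd (Nat.card M) := Odd.of_dvd_nat hodd (Subgroup.card_subgroup_dvd_card M)
  have hCNM := Cfsg.Agent.Lib.Helper33.isCNGroup_subgroup hCN M
  rcases Cfsg.Agent.S1476.result hCNM with h1 | h2 | h3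
  · exfalso
    have hs := Cfsg.Agent.Lib.Helper61.thompson_nilpotent_maximal M hM h1 hoddM
    haveI := hsimple
    have hc := IsSimpleGroup.comm_iff_isSolvable.mpr hs
    exact hnc ⟨⟨hc⟩⟩
  · obtain ⟨K, E, hK, hc, hE, hcyc | ⟨C, Qt, -, -, -, -, n, ⟨e⟩⟩⟩ := h2
    · exact ⟨_, _, frobIn_of_type M K E hK hc hE hcyc⟩
    · exfalso
      have h4 : Nat.card Qt = 4 * 2 ^ n := by
        haveI : NeZero (2 ^ n) := ⟨by positivity⟩
        rw [Nat.card_congr e.toEquiv, Nat.card_eq_fintype_card, QuaternionGroup.card]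
      have h2 : 2 ∣ Nat.card G := by
        have h5 : Nat.card Qt ∣ Nat.card G :=
          (Subgroup.card_subgroup_dvd_card Qt).trans (Subgroup.card_subgroup_dvd_card M)
        refine dvd_trans ?_ h5
        rw [h4]; exact ⟨2 * 2 ^ n, by ring⟩
      exact (Nat.not_even_iff_odd.mpr hodd) (even_iff_two_dvd.mpr h2)
  · exfalso
    obtain ⟨r', hr', h3'⟩ := h3
    haveI : Fact r'.Prime := ⟨hr'⟩
    exact Cfsg.Agent.Lib.Helper12.CNNoThreeStep.no_maximal_threeStep hG' M hM h3'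

/-- a subgroup whose elements commute is nilpotent -/
theorem isNilpotent_of_comm {X : Subgroup G} (h : ∀ a ∈ X, ∀ b ∈ X, a * b = b * a) :
    Group.IsNilpotent ↥X := by
  letI : CommGroup ↥X :=
    { (inferInstance : Group ↥X) with
      mul_comm := fun a b => Subtype.ext (h a a.2 b b.2) }
  exact CommGroup.isNilpotent

/-- a nontrivial proper subgroup has a proper normalizer, hence lies with it in a maximal subgroup -/
theorem exists_coatom_normalizer_le (hG : Cfsg.IsMinSimpleOddOrder G) {D : Subgroup G}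
    (hD1 : D ≠ ⊥) (hDtop : D ≠ ⊤) :
    ∃ M : Subgroup G, IsCoatom M ∧ Subgroup.normalizer (D : Set G) ≤ M := by
  obtain ⟨-, hsimple, -, -⟩ := hG
  have hN : Subgroup.normalizer (D : Set G) ≠ ⊤ := by
    intro htop
    have hn : D.Normal := Subgroup.normalizer_eq_top_iff.mp htop
    rcases hn.eq_bot_or_eq_top with h | h
    · exact hD1 h
    · exact hDtop h
  obtain ⟨M, hM, hle⟩ := (eq_top_or_exists_le_coatom _).resolve_left hN
  exact ⟨M, hM, hle⟩

theorem exists_pow_eq_one_of_mem {p : ℕ} {P : Subgroup G} (hP : IsPGroup p ↥P) {x : G}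
    (hx : x ∈ P) : ∃ k : ℕ, x ^ p ^ k = 1 := by
  obtain ⟨k, hk⟩ := hP ⟨x, hx⟩
  refine ⟨k, ?_⟩
  have := congrArg Subtype.val hk
  simpa using this

/-- a `p`-group is not the whole group -/
theorem pGroup_ne_top (hG : Cfsg.IsMinSimpleOddOrder G) {p : ℕ} [Fact p.Prime] {P : Subgroup G}
    (hP : IsPGroup p ↥P) : P ≠ ⊤ := by
  obtain ⟨-, hsimple, hnc, -⟩ := hG
  rintro rfl
  haveI := hsimple
  have hG : IsPGroup p G := by
    intro g
    obtain ⟨k, hk⟩ := hP ⟨g, Subgroup.mem_top g⟩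
    exact ⟨k, by simpa using congrArg Subtype.val hk⟩
  haveI : Group.IsNilpotent G := hG.isNilpotent
  have hs : Group.IsSolvable G := inferInstance
  exact hnc ⟨⟨IsSimpleGroup.comm_iff_isSolvable.mpr hs⟩⟩

/-- Sylow subgroups are TI -/
theorem sylow_ti (hG : Cfsg.IsMinSimpleOddOrder G) (hCN : Cfsg.IsCNGroup G) (p : ℕ)
    [Fact p.Prime] (P₁ P₂ : Sylow p G) (hne : P₁ ≠ P₂) :
    (P₁ : Subgroup G) ⊓ (P₂ : Subgroup G) = ⊥ := by
  by_contra hcon
  have hp : p.Prime := Fact.out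
  -- a pair with intersection of largest order
  obtain ⟨⟨Q₁, Q₂⟩, hQne, hQmax⟩ := Set.exists_max_image
    {pr : Sylow p G × Sylow p G | pr.1 ≠ pr.2}
    (fun pr => Nat.card ↥((pr.1 : Subgroup G) ⊓ (pr.2 : Subgroup G))) (Set.toFinite _)
    ⟨(P₁, P₂), hne⟩
  simp only [Set.mem_ofPred_eq] at hQne hQmax
  have hD1 : (Q₁ : Subgroup G) ⊓ (Q₂ : Subgroup G) ≠ ⊥ := by
    intro hbot
    have h1 := hQmax (P₁, P₂) hne
    simp only at h1
    rw [hbot, Subgroup.card_bot] at h1
    have h2 : Nat.card ↥((P₁ : Subgroup G) ⊓ (P₂ : Subgroup G)) = 1 :=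
      le_antisymm h1 Nat.card_pos
    exact hcon (Subgroup.card_eq_one.mp h2)
  have hDp : IsPGroup p ↥((Q₁ : Subgroup G) ⊓ (Q₂ : Subgroup G)) := Q₁.isPGroup'.to_le inf_le_left
  have hDtop := pGroup_ne_top hG hDp
  have hlt : ∀ (R₁ R₂ : Sylow p G), R₁ ≠ R₂ →
      (R₁ : Subgroup G) ⊓ (R₂ : Subgroup G) < (R₁ : Subgroup G) := by
    intro R₁ R₂ hR
    refine lt_of_le_of_ne inf_le_left ?_
    intro heq
    apply hR
    have hle : (R₁ : Subgroup G) ≤ (R₂ : Subgroup G) := by rw [← heq]; exact inf_le_right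
    exact Sylow.ext (R₁.3 R₂.isPGroup' hle).symm
  obtain ⟨x₁, hx₁Q, hx₁N, hx₁D⟩ :=
    Cfsg.Agent.Lib.Helper54.exists_mem_normalizer_not_mem Q₁.isPGroup' (hlt Q₁ Q₂ hQne)
  have hlt2 : (Q₁ : Subgroup G) ⊓ (Q₂ : Subgroup G) < (Q₂ : Subgroup G) := by
    rw [inf_comm]; exact hlt Q₂ Q₁ (Ne.symm hQne)
  obtain ⟨x₂, hx₂Q, hx₂N, hx₂D⟩ :=
    Cfsg.Agent.Lib.Helper54.exists_mem_normalizer_not_mem Q₂.isPGroup' hlt2
  obtain ⟨M, hM, hNM⟩ := exists_coatom_normalizer_le hG hD1 hDtop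
  obtain ⟨K, E, F⟩ := exists_frobIn hG hCN M hM
  -- a nilpotent subgroup containing the `p`-elements of the normalizer
  have hY : ∃ Y : Subgroup G, Group.IsNilpotent ↥Y ∧
      ∀ x ∈ Subgroup.normalizer (((Q₁ : Subgroup G) ⊓ (Q₂ : Subgroup G) : Subgroup G) : Set G),
        (∃ k : ℕ, x ^ p ^ k = 1) → x ∈ Y := by
    by_cases hpK : p ∣ Nat.card K
    · exact ⟨K, F.hnil, fun x hx ⟨k, hk⟩ => F.mem_of_pElement hp hpK (hNM hx) hk⟩
    · have hDK : ((Q₁ : Subgroup G) ⊓ (Q₂ : Subgroup G)) ⊓ K = ⊥ := by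
        rw [← Subgroup.card_eq_one]
        have h1 : Nat.card ↥(((Q₁ : Subgroup G) ⊓ (Q₂ : Subgroup G)) ⊓ K) ∣ Nat.card K :=
          Subgroup.card_dvd_of_le inf_le_right
        have h2 : IsPGroup p ↥(((Q₁ : Subgroup G) ⊓ (Q₂ : Subgroup G)) ⊓ K) :=
          hDp.to_le inf_le_left
        obtain ⟨n, hn⟩ := IsPGroup.iff_card.mp h2
        rw [hn] at h1 ⊢
        rcases Nat.eq_zero_or_pos n with h0 | hpos
        · rw [h0, pow_zero]
        · exfalso
          exact hpK ((dvd_pow_self p hpos.ne').trans h1)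
      have hNK := F.normalizer_inf_eq_bot (Subgroup.le_normalizer.trans hNM) hDK hD1
      have hcomm := F.comm_of_inf_eq_bot hNM hNK
      refine ⟨_, ?_, fun x hx _ => hx⟩
      exact isNilpotent_of_comm hcomm
  obtain ⟨Y, hYnil, hY⟩ := hY
  haveI := hYnil
  obtain ⟨T⟩ : Nonempty (Sylow p ↥Y) := inferInstance
  have hR : ∀ x ∈ Subgroup.normalizer
      (((Q₁ : Subgroup G) ⊓ (Q₂ : Subgroup G) : Subgroup G) : Set G),
      (∃ k : ℕ, x ^ p ^ k = 1) → x ∈ (T : Subgroup ↥Y).map Y.subtype := by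
    intro x hx hxp
    have hxY := hY x hx hxp
    obtain ⟨k, hk⟩ := hxp
    have hz : IsPGroup p ↥(Subgroup.zpowers (⟨x, hxY⟩ : ↥Y)) := by
      have ho : orderOf (⟨x, hxY⟩ : ↥Y) ∣ p ^ k := by
        apply orderOf_dvd_of_pow_eq_one
        apply Subtype.ext
        rw [Subgroup.coe_pow, Subgroup.coe_one]; exact hk
      obtain ⟨j, -, hj⟩ := (Nat.dvd_prime_pow hp).mp ho
      apply IsPGroup.of_card (n := j)
      rw [Nat.card_zpowers, hj]
    have := Cfsg.Agent.Lib.Helper33.le_sylow_of_isNilpotent T _ hz (Subgroup.mem_zpowers _)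
    exact ⟨⟨x, hxY⟩, this, rfl⟩
  have hRp : IsPGroup p ↥((T : Subgroup ↥Y).map Y.subtype) := T.isPGroup'.map _
  obtain ⟨P₃, hP₃⟩ := hRp.exists_le_sylow
  have hDP₃ : (Q₁ : Subgroup G) ⊓ (Q₂ : Subgroup G) ≤ (P₃ : Subgroup G) := by
    intro x hx
    exact hP₃ (hR x (Subgroup.le_normalizer hx) (exists_pow_eq_one_of_mem hDp hx))
  have hx₁P₃ : x₁ ∈ (P₃ : Subgroup G) :=
    hP₃ (hR x₁ hx₁N (exists_pow_eq_one_of_mem Q₁.isPGroup' hx₁Q))
  have hx₂P₃ : x₂ ∈ (P₃ : Subgroup G) :=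
    hP₃ (hR x₂ hx₂N (exists_pow_eq_one_of_mem Q₂.isPGroup' hx₂Q))
  have h31 : P₃ = Q₁ := by
    by_contra hne3
    have h1 := hQmax (P₃, Q₁) hne3
    simp only at h1
    have h2 : (Q₁ : Subgroup G) ⊓ (Q₂ : Subgroup G) ≤ (P₃ : Subgroup G) ⊓ (Q₁ : Subgroup G) :=
      le_inf hDP₃ inf_le_left
    have h3 := Subgroup.eq_of_le_of_card_ge h2 h1
    apply hx₁D
    rw [h3]; exact ⟨hx₁P₃, hx₁Q⟩
  have h32 : P₃ = Q₂ := by
    by_contra hne3
    have h1 := hQmax (P₃, Q₂) hne3
    simp only at h1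
    have h2 : (Q₁ : Subgroup G) ⊓ (Q₂ : Subgroup G) ≤ (P₃ : Subgroup G) ⊓ (Q₂ : Subgroup G) :=
      le_inf hDP₃ inf_le_right
    have h3 := Subgroup.eq_of_le_of_card_ge h2 h1
    apply hx₂D
    rw [h3]; exact ⟨hx₂P₃, hx₂Q⟩
  exact hQne (h31.symm.trans h32)

theorem sylow_smul_le_map {p : ℕ} [Fact p.Prime] (S : Sylow p G) {H : Subgroup G}
    (hSH : (S : Subgroup G) ≤ H) (g : G) :
    ((g • S : Sylow p G) : Subgroup G) ≤ H.map (MulAut.conj g).toMonoidHom := by
  intro x hx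
  rw [Sylow.coe_subgroup_smul] at hx
  obtain ⟨s, hs, hsx⟩ := (Subgroup.mem_smul_pointwise_iff_exists x _ _).mp hx
  exact ⟨s, hSH hs, hsx⟩

theorem sylow_ne_bot_of_dvd {p : ℕ} [Fact p.Prime] (S : Sylow p G) (hp : p ∣ Nat.card G) :
    (S : Subgroup G) ≠ ⊥ := by
  intro hbot
  have hpp : p.Prime := Fact.out
  have h1 : Nat.card (S : Subgroup G) = 1 := by rw [hbot]; exact Subgroup.card_bot
  have h2 := S.card_eq_multiplicity
  rw [h1] at h2
  have h3 : (Nat.card G).factorization p = 0 := by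
    by_contra h0
    have : 1 < p ^ (Nat.card G).factorization p := Nat.one_lt_pow h0 hpp.one_lt
    omega
  have := (hpp.factorization_pos_of_dvd Nat.card_pos.ne' hp)
  omega

theorem mem_normalizer_of_map_conj_eq {H : Subgroup G} {m : G}
    (h : H.map (MulAut.conj m).toMonoidHom = H) : m ∈ Subgroup.normalizer (H : Set G) := by
  rw [Subgroup.mem_normalizer_iff]
  intro x
  constructor
  · intro hx
    rw [← h]; exact ⟨x, hx, rfl⟩
  · intro hx
    rw [← h] at hx
    obtain ⟨y, hy, hyx⟩ := hx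
    have : y = x := (MulAut.conj m).injective hyx
    rw [← this]; exact hy

/-- maximal nilpotent subgroups are TI -/
theorem maxNilp_ti (hG : Cfsg.IsMinSimpleOddOrder G) (hCN : Cfsg.IsCNGroup G) {H : Subgroup G}
    (hH : MaxNilp H) (g : G) (hne : H.map (MulAut.conj g).toMonoidHom ≠ H) :
    H ⊓ H.map (MulAut.conj g).toMonoidHom = ⊥ := by
  by_contra hcon
  obtain ⟨x', hx'1⟩ := (Subgroup.ne_bot_iff_exists_ne_one).mp hcon
  obtain ⟨x, hx⟩ := x'
  have hx1 : x ≠ 1 := fun h => hx'1 (Subtype.ext h)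
  have hord1 : orderOf x ≠ 1 := by
    rw [Ne, orderOf_eq_one_iff]; exact hx1
  obtain ⟨p, hp, hpd⟩ := Nat.exists_prime_and_dvd hord1
  haveI : Fact p.Prime := ⟨hp⟩
  have hyord : orderOf (x ^ (orderOf x / p)) = p :=
    orderOf_pow_orderOf_div (orderOf_pos x).ne' hpd
  have hyH : x ^ (orderOf x / p) ∈ H := H.pow_mem hx.1 _
  have hyHg : x ^ (orderOf x / p) ∈ H.map (MulAut.conj g).toMonoidHom :=
    Subgroup.pow_mem _ hx.2 _
  have hyp : (x ^ (orderOf x / p)) ^ p ^ 1 = 1 := by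
    rw [pow_one]
    have h := pow_orderOf_eq_one (x ^ (orderOf x / p))
    rwa [hyord] at h
  have hy1 : x ^ (orderOf x / p) ≠ 1 := by
    intro h
    rw [h, orderOf_one] at hyord
    exact hp.one_lt.ne hyord
  have hpH : p ∣ Nat.card H := by
    have := orderOf_dvd_natCard (⟨x ^ (orderOf x / p), hyH⟩ : ↥H)
    rw [← Subgroup.orderOf_coe] at this
    rw [← hyord]; exact this
  obtain ⟨S, hSH⟩ := exists_sylow_le_of_hall (hH.coprime hCN) p hpH
  have hyS := mem_sylow_of_nilpotent hH.1 S hSH hyH hyp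
  have hH' := hH.conj g
  have hS'H' := sylow_smul_le_map S hSH g
  have hyS' := mem_sylow_of_nilpotent hH'.1 (g • S) hS'H' hyHg hyp
  have hSS' : S = g • S := by
    by_contra hne'
    have h1 := sylow_ti hG hCN p S (g • S) hne'
    have h2 : x ^ (orderOf x / p) ∈ (S : Subgroup G) ⊓ ((g • S : Sylow p G) : Subgroup G) :=
      ⟨hyS, hyS'⟩
    rw [h1, Subgroup.mem_bot] at h2
    exact hy1 h2
  have hS1 : (S : Subgroup G) ≠ ⊥ := by
    intro hbot
    rw [hbot, Subgroup.mem_bot] at hyS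
    exact hy1 hyS
  obtain ⟨z, hzS, hz1, -, hzc⟩ :=
    Cfsg.Agent.Lib.Helper57.GT.exists_central_of_ne_bot (S : Subgroup G) S.isPGroup' hS1
  have hc1 := hH.centralizer_eq hCN z hz1 (central_of_central_sylow hH.1 S hSH z hzS hzc)
  rw [← hSS'] at hS'H'
  have hc2 := hH'.centralizer_eq hCN z hz1 (central_of_central_sylow hH'.1 S hS'H' z hzS hzc)
  exact hne (hc2.symm.trans hc1)

/-- maximal nilpotent subgroups are nontrivial and proper -/
theorem maxNilp_ne_bot (hG : Cfsg.IsMinSimpleOddOrder G) {H : Subgroup G} (hH : MaxNilp H) :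
    H ≠ ⊥ := by
  obtain ⟨-, hsimple, -, -⟩ := hG
  haveI := hsimple
  rintro rfl
  obtain ⟨x, hx⟩ := exists_ne (1 : G)
  have hz : Group.IsNilpotent ↥(Subgroup.zpowers x) := by
    apply isNilpotent_of_comm
    intro a ha b hb
    obtain ⟨i, rfl⟩ := Subgroup.mem_zpowers_iff.mp ha
    obtain ⟨j, rfl⟩ := Subgroup.mem_zpowers_iff.mp hb
    rw [← zpow_add, ← zpow_add, add_comm]
  have := hH.2 _ hz bot_le
  rw [Subgroup.zpowers_eq_bot] at this
  exact hx this

theorem nilpotent_ne_top (hG : Cfsg.IsMinSimpleOddOrder G) {H : Subgroup G}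
    (hH : Group.IsNilpotent ↥H) : H ≠ ⊤ := by
  obtain ⟨-, hsimple, hnc, -⟩ := hG
  rintro rfl
  haveI := hsimple
  haveI : Group.IsNilpotent G := (Group.isNilpotent_congr Subgroup.topEquiv).mp hH
  have hs : Group.IsSolvable G := inferInstance
  exact hnc ⟨⟨IsSimpleGroup.comm_iff_isSolvable.mpr hs⟩⟩

/-- a maximal nilpotent subgroup is the Frobenius kernel of any maximal subgroup containing its
normalizer -/
theorem maxNilp_eq_kernel (hG : Cfsg.IsMinSimpleOddOrder G) (hCN : Cfsg.IsCNGroup G)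
    {H : Subgroup G} (hH : MaxNilp H) {M K E : Subgroup G}
    (hNM : Subgroup.normalizer (H : Set G) ≤ M) (F : FrobIn K E M) : H = K := by
  have hH1 := maxNilp_ne_bot hG hH
  have hHM : H ≤ M := Subgroup.le_normalizer.trans hNM
  rcases F.nilpotent_le_or_inf hHM hH.1 with hle | hinf
  · exact (hH.2 K F.hnil hle).symm
  exfalso
  have hNK := F.normalizer_inf_eq_bot hHM hinf hH1
  have hcommN := F.comm_of_inf_eq_bot hNM hNK
  have hNH : Subgroup.normalizer (H : Set G) = H :=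
    hH.2 _ (isNilpotent_of_comm hcommN) Subgroup.le_normalizer
  have hcomm : ∀ a ∈ H, ∀ b ∈ H, a * b = b * a := fun a ha b hb =>
    hcommN a (Subgroup.le_normalizer ha) b (Subgroup.le_normalizer hb)
  have hcard : Nat.card H ≠ 1 := fun h => hH1 (Subgroup.card_eq_one.mp h)
  obtain ⟨p, hp, hpd⟩ := Nat.exists_prime_and_dvd hcard
  haveI : Fact p.Prime := ⟨hp⟩
  obtain ⟨S, hSH⟩ := exists_sylow_le_of_hall (hH.coprime hCN) p hpd
  have hS1 : (S : Subgroup G) ≠ ⊥ :=
    sylow_ne_bot_of_dvd S (hpd.trans (Subgroup.card_subgroup_dvd_card H))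
  obtain ⟨-, hsimple, hnc, -⟩ := hG
  haveI := hsimple
  apply Cfsg.Agent.Lib.Helper12.false_of_normalizer_le_centralizer hnc p S _ hS1
  intro n hn
  obtain ⟨z', hz'1⟩ := (Subgroup.ne_bot_iff_exists_ne_one).mp hS1
  obtain ⟨z, hzS⟩ := z'
  have hz1 : z ≠ 1 := fun h => hz'1 (Subtype.ext h)
  have hc := hH.centralizer_eq hCN z hz1 (fun x hx => hcomm x hx z (hSH hzS))
  have hz2S : n * z * n⁻¹ ∈ (S : Subgroup G) := (Subgroup.mem_normalizer_iff.mp hn z).mp hzS
  have hz21 : n * z * n⁻¹ ≠ 1 := by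
    intro h
    apply hz1
    calc z = n⁻¹ * (n * z * n⁻¹) * n := by group
      _ = 1 := by rw [h]; group
  have hc2 := hH.centralizer_eq hCN (n * z * n⁻¹) hz21
    (fun x hx => hcomm x hx _ (hSH hz2S))
  have hnN : n ∈ Subgroup.normalizer (H : Set G) := by
    rw [Subgroup.mem_normalizer_iff]
    intro h
    constructor
    · intro hh
      rw [← hc2, Subgroup.mem_centralizer_iff]
      intro y hy
      rw [Set.mem_singleton_iff] at hy
      rw [hy]
      have h1 : z * h = h * z := hcomm z (hSH hzS) h hh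
      calc n * z * n⁻¹ * (n * h * n⁻¹) = n * (z * h) * n⁻¹ := by group
        _ = n * (h * z) * n⁻¹ := by rw [h1]
        _ = n * h * n⁻¹ * (n * z * n⁻¹) := by group
    · intro hh
      rw [← hc2, Subgroup.mem_centralizer_iff] at hh
      have h1 := hh (n * z * n⁻¹) rfl
      rw [← hc, Subgroup.mem_centralizer_iff]
      intro y hy
      rw [Set.mem_singleton_iff] at hy
      rw [hy]
      calc z * h = n⁻¹ * (n * z * n⁻¹ * (n * h * n⁻¹)) * n := by group
        _ = n⁻¹ * (n * h * n⁻¹ * (n * z * n⁻¹)) * n := by rw [h1]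
        _ = h * z := by group
  rw [hNH] at hnN
  rw [Subgroup.mem_centralizer_iff]
  intro s hs
  exact hcomm s (hSH hs) n hnN

/-- the Frobenius kernel of a maximal subgroup is a maximal nilpotent subgroup -/
theorem kernel_maxNilp (hG : Cfsg.IsMinSimpleOddOrder G) (hCN : Cfsg.IsCNGroup G)
    {M K E : Subgroup G} (hM : IsCoatom M) (F : FrobIn K E M) : MaxNilp K := by
  obtain ⟨H', hKH', hH'⟩ := exists_maxNilp_ge K F.hnil
  have hH'1 := maxNilp_ne_bot hG hH'
  have hH'top := nilpotent_ne_top hG hH'.1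
  obtain ⟨M'', hM'', hN''⟩ := exists_coatom_normalizer_le hG hH'1 hH'top
  obtain ⟨K'', E'', F''⟩ := exists_frobIn hG hCN M'' hM''
  have hHK := maxNilp_eq_kernel hG hCN hH' hN'' F''
  obtain ⟨k', hk'1⟩ := (Subgroup.ne_bot_iff_exists_ne_one).mp F.hK1
  obtain ⟨k, hk⟩ := k'
  have hk1 : k ≠ 1 := fun h => hk'1 (Subtype.ext h)
  have hMN : M ≤ Subgroup.normalizer (H' : Set G) := by
    intro m hm
    apply mem_normalizer_of_map_conj_eq
    by_contra hne
    have h1 := maxNilp_ti hG hCN hH' m hne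
    have h2 : m * k * m⁻¹ ∈ H' ⊓ H'.map (MulAut.conj m).toMonoidHom :=
      ⟨hKH' (F.hnorm m hm k hk), ⟨k, hKH' hk, rfl⟩⟩
    rw [h1, Subgroup.mem_bot] at h2
    apply hk1
    calc k = m⁻¹ * (m * k * m⁻¹) * m := by group
      _ = 1 := by rw [h2]; group
  have hMM : M = M'' := by
    by_contra hne
    have hlt : M < M'' := lt_of_le_of_ne (hMN.trans hN'') hne
    exact hM''.1 (hM.2 _ hlt)
  subst hMM
  rcases F.nilpotent_le_or_inf (Subgroup.le_normalizer.trans hN'') hH'.1 with hle | hinf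
  · have : H' = K := le_antisymm hle hKH'
    rw [← this]; exact hH'
  · exfalso
    apply F.hK1
    rw [eq_bot_iff, ← hinf]
    exact le_inf hKH' le_rfl

/-- the normalizer of a maximal nilpotent subgroup `H` is a maximal subgroup, Frobenius with
kernel `H` -/
theorem maxNilp_normalizer (hG : Cfsg.IsMinSimpleOddOrder G) (hCN : Cfsg.IsCNGroup G)
    {H : Subgroup G} (hH : MaxNilp H) :
    IsCoatom (Subgroup.normalizer (H : Set G)) ∧
      ∃ E : Subgroup G, FrobIn H E (Subgroup.normalizer (H : Set G)) := by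
  have hH1 := maxNilp_ne_bot hG hH
  have hHtop := nilpotent_ne_top hG hH.1
  obtain ⟨M, hM, hNM⟩ := exists_coatom_normalizer_le hG hH1 hHtop
  obtain ⟨K, E, F⟩ := exists_frobIn hG hCN M hM
  have hHK := maxNilp_eq_kernel hG hCN hH hNM F
  subst hHK
  have hMN : Subgroup.normalizer (H : Set G) = M := le_antisymm hNM F.le_normalizer
  rw [hMN]
  exact ⟨hM, E, F⟩

/-- the normalizer of the Frobenius kernel of a maximal subgroup `M` is `M` -/
theorem normalizer_kernel (hG : Cfsg.IsMinSimpleOddOrder G) {M K E : Subgroup G}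
    (hM : IsCoatom M) (F : FrobIn K E M) : Subgroup.normalizer (K : Set G) = M := by
  by_contra hne
  have hlt : M < Subgroup.normalizer (K : Set G) := lt_of_le_of_ne F.le_normalizer (Ne.symm hne)
  have htop := hM.2 _ hlt
  have hn : K.Normal := Subgroup.normalizer_eq_top_iff.mp htop
  obtain ⟨-, hsimple, -, -⟩ := hG
  rcases hn.eq_bot_or_eq_top with h | h
  · exact F.hK1 h
  · apply hM.1
    rw [eq_top_iff, ← h]; exact F.hKM

/-- the largest normal nilpotent Hall subgroup of a maximal subgroup is its Frobenius kernel -/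
theorem fittingHallOf_eq_kernel (hG : Cfsg.IsMinSimpleOddOrder G) (hCN : Cfsg.IsCNGroup G)
    {M K E : Subgroup G} (hM : IsCoatom M) (F : FrobIn K E M) : Cfsg.fittingHallOf M = K := by
  have hK := kernel_maxNilp hG hCN hM F
  have hinj := Subgroup.subtype_injective M
  have hnil : Group.IsNilpotent ↥(Cfsg.fittingHallOf M) := by
    unfold Cfsg.fittingHallOf
    exact (Group.isNilpotent_congr ((Cfsg.fittingHall ↥M).equivMapOfInjective _ hinj)).mp
      (Cfsg.Agent.Lib.Helper33.fittingHall_isNilpotent ↥M)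
  apply hK.2 _ hnil
  -- `K ≤ fittingHallOf M`
  have hmem : K.subgroupOf M ≤ Cfsg.fittingHall ↥M := by
    apply le_sSup
    refine ⟨⟨fun k hk m => ?_⟩, ?_, ?_⟩
    · rw [Subgroup.mem_subgroupOf] at hk ⊢
      exact F.hnorm m m.2 k hk
    · exact (Group.isNilpotent_congr (Subgroup.subgroupOfEquivOfLe F.hKM)).mpr F.hnil
    · rw [Nat.card_congr (Subgroup.subgroupOfEquivOfLe F.hKM).toEquiv]
      have h1 : (K.subgroupOf M).index ∣ K.index := by
        rw [← Subgroup.relIndex]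
        exact Subgroup.relIndex_dvd_index_of_le F.hKM
      exact (hK.coprime hCN).coprime_dvd_right h1
  intro k hk
  exact ⟨⟨k, F.hKM hk⟩, hmem (Subgroup.mem_subgroupOf.mpr hk), rfl⟩

/-- every element is conjugate into the Frobenius kernel of a maximal subgroup from any system of
representatives -/
theorem exists_conj_mem_kernel (hG : Cfsg.IsMinSimpleOddOrder G) (hCN : Cfsg.IsCNGroup G)
    {ι : Type*} (Mrep : ι → Subgroup G) (hmax : ∀ i, IsCoatom (Mrep i))
    (hall : ∀ M : Subgroup G, IsCoatom M → ∃ i, ∃ g : G,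
      M = (Mrep i).map (MulAut.conj g).toMonoidHom) (x : G) :
    ∃ i, ∃ g : G, g * x * g⁻¹ ∈ Cfsg.fittingHallOf (Mrep i) := by
  have hz : Group.IsNilpotent ↥(Subgroup.zpowers x) := by
    apply isNilpotent_of_comm
    intro a ha b hb
    obtain ⟨i, rfl⟩ := Subgroup.mem_zpowers_iff.mp ha
    obtain ⟨j, rfl⟩ := Subgroup.mem_zpowers_iff.mp hb
    rw [← zpow_add, ← zpow_add, add_comm]
  obtain ⟨H, hxH, hH⟩ := exists_maxNilp_ge _ hz
  obtain ⟨hco, -, -⟩ := maxNilp_normalizer hG hCN hH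
  obtain ⟨i, g, hg⟩ := hall _ hco
  obtain ⟨K, E, F⟩ := exists_frobIn hG hCN (Mrep i) (hmax i)
  have hH' := hH.conj g⁻¹
  have hN : Subgroup.normalizer ((H.map (MulAut.conj g⁻¹).toMonoidHom : Subgroup G) : Set G) ≤
      Mrep i := by
    rw [← Subgroup.map_equiv_normalizer_eq, hg, Subgroup.map_map]
    intro y hy
    obtain ⟨m, hm, rfl⟩ := hy
    simp only [MonoidHom.coe_comp, MulEquiv.coe_toMonoidHom, Function.comp_apply,
      MulAut.conj_apply]
    have : g⁻¹ * (g * m * g⁻¹) * g⁻¹⁻¹ = m := by group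
    rw [this]; exact hm
  have hHK := maxNilp_eq_kernel hG hCN hH' hN F
  refine ⟨i, g⁻¹, ?_⟩
  rw [fittingHallOf_eq_kernel hG hCN (hmax i) F, ← hHK]
  exact ⟨x, hxH (Subgroup.mem_zpowers x), by simp⟩

end Cfsg.Agent.Lib.Helper12.CNMaxSub
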