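import Mathlib
import Cfsg.Agent.S1350
import Cfsg.Agent.S1354
import Cfsg.Agent.S1415
import Cfsg.Agent.Lib.Helper58.BG139I
import Cfsg.Agent.Lib.Helper13.BG12B
import Cfsg.Agent.Lib.Helper36.BG142Glue
import Cfsg.Agent.Lib.Helper01.Coprime
import Cfsg.Agent.Lib.Helper31.Transitivity
import Cfsg.Agent.Lib.Helper60.BG151A
import Cfsg.Agent.Lib.Helper01.BG151C
import Cfsg.Agent.Lib.Helper45.BG151E
import Cfsg.Agent.Lib.Helper65.BG151F1
import Cfsg.Agent.Lib.Helper30.BG151F2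
import Cfsg.Agent.Lib.Helper14.BG151G
import Cfsg.Agent.Lib.Helper61.BG151H1
import Cfsg.Agent.Lib.Helper14.BG151H2
import Cfsg.Agent.Lib.Helper77.BG151I
import Cfsg.Agent.Lib.Helper85.BG151J

/-!
# BG 15.1(a) and Theorem D(2): glue for S1355 and S1364 (pack K-151, helper12)

Hypothesis-form theorems `s1355_of`, `s1364_of` over the K-151 leaves.
-/

set_option autoImplicit false

namespace Cfsg.Agent.Lib.Helper12.BG151

open Cfsg

/-- K-151-B: a normal nilpotent Hall subgroup of `M` lies in `M_F`. -/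
theorem le_fittingHallOf {G : Type*} [Group G] [Finite G] {M N : Subgroup G} (hNM : N ≤ M)
    (hnorm : M ≤ Subgroup.normalizer (N : Set G)) (hnil : Group.IsNilpotent N)
    (hcop : (Nat.card N).Coprime (N.relIndex M)) : N ≤ fittingHallOf M := by
  have hmem : N.subgroupOf M ∈ {L : Subgroup ↥M | L.Normal ∧ Group.IsNilpotent L ∧
      (Nat.card L).Coprime L.index} := by
    refine ⟨?_, ?_, ?_⟩
    · exact (Subgroup.normal_subgroupOf_iff_le_normalizer hNM).mpr hnorm
    · exact (Group.isNilpotent_congr (Subgroup.subgroupOfEquivOfLe hNM)).mpr hnil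
    · rw [Nat.card_congr (Subgroup.subgroupOfEquivOfLe hNM).toEquiv]
      exact hcop
  have hle : N.subgroupOf M ≤ fittingHall ↥M := le_sSup hmem
  have := Subgroup.map_mono (f := M.subtype) hle
  rwa [Subgroup.map_subgroupOf_eq_of_le hNM] at this

end Cfsg.Agent.Lib.Helper12.BG151

namespace Cfsg.Agent.Lib.Helper12.BG151

open Cfsg Cfsg.Agent.Lib.Helper60.BG151 Cfsg.Agent.Lib.Helper45.BG151 Cfsg.Agent.Lib.Helper65.BG151
  Cfsg.Agent.Lib.Helper30.BG151 Cfsg.Agent.Lib.Helper61.BG151 Cfsg.Agent.Lib.Helper14.BG151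
  Cfsg.Agent.Lib.Helper85.BG151

variable {G : Type*} [Group G] [Finite G]

/-- `(H'.map M.subtype).subgroupOf M = H'`. -/
theorem subgroupOf_map_subtype' {M : Subgroup G} (H' : Subgroup ↥M) :
    (H'.map M.subtype).subgroupOf M = H' := by
  ext x
  rw [Subgroup.mem_subgroupOf, Subgroup.mem_map]
  constructor
  · rintro ⟨y, hy, hxy⟩
    have : y = x := Subtype.ext hxy
    exact this ▸ hy
  · intro hx
    exact ⟨x, hx, rfl⟩

theorem sigmaCore_subgroupOf (M : Subgroup G) :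
    (sigmaCore M).subgroupOf M = piCore (sigma M) ↥M :=
  subgroupOf_map_subtype' _

theorem fittingHallOf_subgroupOf (M : Subgroup G) :
    (fittingHallOf M).subgroupOf M = fittingHall ↥M :=
  subgroupOf_map_subtype' _

theorem sigmaCore_le' (M : Subgroup G) : sigmaCore M ≤ M := by
  rintro _ ⟨y, -, rfl⟩
  exact y.2

theorem isNilpotent_subgroupOf {A M : Subgroup G} (hAM : A ≤ M) (hA : Group.IsNilpotent A) :
    Group.IsNilpotent ↥(A.subgroupOf M) :=
  (Group.isNilpotent_congr (Subgroup.subgroupOfEquivOfLe hAM)).mpr hA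

/-- `sigmaCore M` is coprime to its index in `M`. -/
theorem sigmaCore_coprime (hG : IsMinSimpleOddOrder G) {M : Subgroup G} (hM : IsCoatom M) :
    (Nat.card (sigmaCore M)).Coprime ((sigmaCore M).relIndex M) := by
  have hHall := (Cfsg.Agent.S1350.result hG M hM).1
  refine Nat.Coprime.symm ?_
  exact Cfsg.Agent.Lib.Helper13.BG12.coprime_of_primes_disjoint (π := sigma M)
    (fun p hp hpd hpσ => hHall.2.2 p hp hpσ hpd) hHall.2.1

theorem sup_eq_top_of_isComplIn {M E : Subgroup G} (hE : IsComplIn E (sigmaCore M) M) :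
    piCore (sigma M) ↥M ⊔ E.subgroupOf M = ⊤ := by
  rw [eq_top_iff]
  rintro ⟨m, hm⟩ -
  obtain ⟨a, ha, b, hb, hab⟩ := hE.2.2.2 m hm
  have haM : a ∈ M := hE.1 ha
  have hbM : b ∈ M := hE.2.1 hb
  have h1 : (⟨a, haM⟩ : ↥M) ∈ E.subgroupOf M := by
    rw [Subgroup.mem_subgroupOf]; exact ha
  have h2 : (⟨b, hbM⟩ : ↥M) ∈ piCore (sigma M) ↥M := by
    rw [← sigmaCore_subgroupOf, Subgroup.mem_subgroupOf]; exact hb
  have h3 : (⟨m, hm⟩ : ↥M) = ⟨a, haM⟩ * ⟨b, hbM⟩ := Subtype.ext hab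
  rw [h3, sup_comm]
  exact Subgroup.mul_mem_sup h1 h2

/-- clause 5 in the nilpotent case. -/
theorem nilpotent_case (hG : IsMinSimpleOddOrder G) {M : Subgroup G} (hM : IsCoatom M)
    {E : Subgroup G} (hE : IsComplIn E (sigmaCore M) M)
    (hnil : Group.IsNilpotent (sigmaCore M)) :
    sigmaCore M ≤ fittingHallOf M ∧
    Group.IsNilpotent ↥((commutator ↥M).map (QuotientGroup.mk' (fittingHall ↥M))) := by
  have hle : sigmaCore M ≤ fittingHallOf M :=
    le_fittingHallOf (sigmaCore_le' M)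
      (Cfsg.Agent.Lib.Helper31.le_normalizer_piCoreOf (sigma M) M) hnil (sigmaCore_coprime hG hM)
  refine ⟨hle, ?_⟩
  have hle' : piCore (sigma M) ↥M ≤ fittingHall ↥M := by
    rw [← sigmaCore_subgroupOf, ← fittingHallOf_subgroupOf]
    exact Subgroup.subgroupOf_mono M hle
  have hEn : Group.IsNilpotent ↥⁅E, E⁆ := (Cfsg.Agent.S1415.result hG M hM E hE).1
  have hcomm : ⁅E.subgroupOf M, E.subgroupOf M⁆ = (⁅E, E⁆).subgroupOf M := by
    apply Subgroup.map_injective M.subtype_injective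
    rw [Subgroup.map_commutator, Subgroup.map_subgroupOf_eq_of_le hE.1,
      Subgroup.map_subgroupOf_eq_of_le ((Subgroup.commutator_le_self E).trans hE.1)]
  have hEn' : Group.IsNilpotent ↥⁅E.subgroupOf M, E.subgroupOf M⁆ := by
    rw [hcomm]
    exact isNilpotent_subgroupOf ((Subgroup.commutator_le_self E).trans hE.1) hEn
  have h1 := commutator_le_sup (piCore (sigma M) ↥M) (E.subgroupOf M) (sup_eq_top_of_isComplIn hE)
  exact isNilpotent_map_mk (fittingHall ↥M) _ _ hEn' (h1.trans (sup_le_sup_right hle' _))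

end Cfsg.Agent.Lib.Helper12.BG151

namespace Cfsg.Agent.Lib.Helper12.BG151

open Cfsg Cfsg.Agent.Lib.Helper60.BG151 Cfsg.Agent.Lib.Helper45.BG151 Cfsg.Agent.Lib.Helper65.BG151
  Cfsg.Agent.Lib.Helper30.BG151 Cfsg.Agent.Lib.Helper61.BG151 Cfsg.Agent.Lib.Helper14.BG151
  Cfsg.Agent.Lib.Helper85.BG151

variable {G : Type*} [Group G] [Finite G]

theorem isCyclic_of_le {A B : Subgroup G} (hAB : A ≤ B) (hB : IsCyclic B) : IsCyclic A := by
  have : IsCyclic ↥(A.subgroupOf B) := inferInstance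
  exact isCyclic_of_surjective (Subgroup.subgroupOfEquivOfLe hAB).toMonoidHom
    (Subgroup.subgroupOfEquivOfLe hAB).surjective


/-- With `U = ⊥`, `K` is a complement of `M_σ` in `M`. -/
theorem isComplIn_of_decomp_bot (hG : IsMinSimpleOddOrder G) {M : Subgroup G} (hM : IsCoatom M)
    {K : Subgroup G} (hKU : IsSigmaDecomposition M K ⊥) : IsComplIn K (sigmaCore M) M := by
  have hHall := (Cfsg.Agent.S1350.result hG M hM).1
  have hKM : K ≤ M := hKU.hall.1
  have hnK : K ≤ Subgroup.normalizer (sigmaCore M : Set G) :=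
    hKM.trans (Cfsg.Agent.Lib.Helper31.le_normalizer_piCoreOf (sigma M) M)
  refine ⟨hKM, sigmaCore_le' M, ?_, ?_⟩
  · have hcop : (Nat.card K).Coprime (Nat.card (sigmaCore M)) :=
      Cfsg.Agent.Lib.Helper13.BG12.coprime_of_primes_disjoint (π := sigma M)
        (fun p hp hpd => (hKU.hall.2.1 p hp hpd).2.2.1) hHall.2.1
    exact (Subgroup.disjoint_of_coprime_natCard hcop).eq_bot
  · intro m hm
    obtain ⟨a, ha, b, hb, hab⟩ := hKU.compl.2.2.2 m hm
    rw [Subgroup.mem_bot] at ha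
    subst ha
    rw [one_mul] at hab
    subst hab
    obtain ⟨k, hk, n, hn, hkn⟩ := Cfsg.Agent.Lib.Helper01.exists_mul_of_mem_sup hnK hb
    exact ⟨k, hk, n, hn, hkn⟩

/-- K-151-G: transfer of the core lemma to `M` (helper14's hypothesis form + helper1's core). -/
theorem structure_of_decomp (hG : IsMinSimpleOddOrder G) {M : Subgroup G} (hM : IsCoatom M)
    {K : Subgroup G} (hKU : IsSigmaDecomposition M K ⊥) (hK1 : K ≠ ⊥)
    (hpr : (Nat.card ↥(sigmaCore M ⊓ Subgroup.centralizer (K : Set G))).Prime)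
    (hnn : ¬ Group.IsNilpotent (sigmaCore M)) :
    ∃ Q D : Subgroup G, M ≤ Subgroup.normalizer (Q : Set G) ∧
      IsPGroup (Nat.card ↥(sigmaCore M ⊓ Subgroup.centralizer (K : Set G))) Q ∧
      (Nat.card Q).Coprime (Q.relIndex M) ∧
      sigmaCore M ⊓ Subgroup.centralizer (K : Set G) ≤ Q ∧ Q ⊔ D = sigmaCore M ∧
      Group.IsNilpotent D := by
  refine Cfsg.Agent.Lib.Helper14.BG151.structure_of_decomp_of hG hM hKU hK1 hpr hnn ?_
  intro _ hodd H K' _ hHK hcop hK1' hprime q hq hC hcomm hnn'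
  exact Cfsg.Agent.Lib.Helper01.BG151.core hodd H K' hHK hcop hK1' hprime q hq hC hcomm hnn'

/-- The common structure statement: some `q ∣ |K*|` has a Sylow `q`-subgroup of `M_σ` normal in
`M` and contained in `M_F`; and `K* ≤ M_F`, clause 5 of S1355. -/
theorem main_structure (hG : IsMinSimpleOddOrder G) {M : Subgroup G} (hM : IsCoatom M)
    (h51 : ∀ K : Subgroup G, IsPiHallOf (kappa M) K M → IsCyclic K)
    (h73 : ∀ K U : Subgroup G, IsSigmaDecomposition M K U → K ≠ ⊥ → U = ⊥ →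
      (Nat.card ↥(sigmaCore M ⊓ Subgroup.centralizer (K : Set G))).Prime) :
    fittingHallOf M ≠ ⊥ ∧
    Group.IsNilpotent ↥((commutator ↥M).map (QuotientGroup.mk' (fittingHall ↥M))) ∧
    ∀ K U : Subgroup G, IsSigmaDecomposition M K U → K ≠ ⊥ →
      sigmaCore M ⊓ Subgroup.centralizer (K : Set G) ≤ fittingHallOf M ∧
      ∀ q : ℕ, q.Prime → q ∣ Nat.card ↥(sigmaCore M ⊓ Subgroup.centralizer (K : Set G)) →
        ∃ S : Subgroup G, S ≤ fittingHallOf M ∧ S ≤ sigmaCore M ∧ IsPGroup q S ∧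
          ¬ q ∣ S.relIndex (sigmaCore M) ∧ M ≤ Subgroup.normalizer (S : Set G) := by
  have hHall := (Cfsg.Agent.S1350.result hG M hM).1
  obtain ⟨E, hE, -⟩ := Cfsg.Agent.Lib.Helper13.BG12.exists_complIn_ge hG hM hHall
    (K := ⊥) bot_le (by intro p hp hpd; simp at hpd; exact absurd (hpd ▸ hp) Nat.not_prime_one)
  by_cases hnil : Group.IsNilpotent (sigmaCore M)
  · obtain ⟨hle, h5⟩ := nilpotent_case hG hM hE hnil
    refine ⟨?_, h5, ?_⟩
    · intro h
      exact Cfsg.Agent.Lib.Helper36.BG142.sigmaCore_ne_bot' hG hM (le_bot_iff.mp (h ▸ hle))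
    · intro K U hKU hK1
      refine ⟨inf_le_left.trans hle, ?_⟩
      intro q hq _
      obtain ⟨S, hS, hSq, hSyl, hSn⟩ := exists_normal_sylow_of_nilpotent M (sigmaCore M)
        (Cfsg.Agent.Lib.Helper31.le_normalizer_piCoreOf (sigma M) M) hnil q hq
      exact ⟨S, hS.trans hle, hS, hSq, hSyl, hSn⟩
  · -- the non-nilpotent case
    obtain ⟨K₀, hKU₀, hK₀1⟩ := exists_decomp_of_not_nilpotent hG hM h51 hnil
    have key : ∀ K : Subgroup G, IsSigmaDecomposition M K ⊥ → K ≠ ⊥ →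
        ∃ Q D : Subgroup G, Q ≤ fittingHallOf M ∧ M ≤ Subgroup.normalizer (Q : Set G) ∧
          IsPGroup (Nat.card ↥(sigmaCore M ⊓ Subgroup.centralizer (K : Set G))) Q ∧
          (Nat.card Q).Coprime (Q.relIndex M) ∧
          sigmaCore M ⊓ Subgroup.centralizer (K : Set G) ≤ Q ∧ Q ⊔ D = sigmaCore M ∧
          Group.IsNilpotent D := by
      intro K hKU hK1
      have hpr := h73 K ⊥ hKU hK1 rfl
      obtain ⟨Q, D, hQn, hQq, hQc, hKQ, hQD, hD⟩ := structure_of_decomp hG hM hKU hK1 hpr hnil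
      have hQσ : Q ≤ sigmaCore M := hQD ▸ le_sup_left
      haveI : Fact (Nat.card ↥(sigmaCore M ⊓ Subgroup.centralizer (K : Set G))).Prime := ⟨hpr⟩
      have hQF : Q ≤ fittingHallOf M :=
        le_fittingHallOf (hQσ.trans (sigmaCore_le' M)) hQn hQq.isNilpotent hQc
      exact ⟨Q, D, hQF, hQn, hQq, hQc, hKQ, hQD, hD⟩
    obtain ⟨Q, D, hQF, hQn, hQq, hQc, hKQ, hQD, hD⟩ := key K₀ hKU₀ hK₀1
    have hpr₀ := h73 K₀ ⊥ hKU₀ hK₀1 rfl
    refine ⟨?_, ?_, ?_⟩
    · intro h
      have h1 : sigmaCore M ⊓ Subgroup.centralizer (K₀ : Set G) = ⊥ :=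
        le_bot_iff.mp (h ▸ hKQ.trans hQF)
      rw [h1, Subgroup.card_bot] at hpr₀
      exact Nat.not_prime_one hpr₀
    · -- clause 5
      have hQσ : Q ≤ sigmaCore M := hQD ▸ le_sup_left
      have hDσ : D ≤ sigmaCore M := hQD ▸ le_sup_right
      have hQM := hQσ.trans (sigmaCore_le' M)
      have hDM := hDσ.trans (sigmaCore_le' M)
      have hK₀c : IsComplIn K₀ (sigmaCore M) M := isComplIn_of_decomp_bot hG hM hKU₀
      have h1 := commutator_le_sup (piCore (sigma M) ↥M) (K₀.subgroupOf M)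
        (sup_eq_top_of_isComplIn hK₀c)
      have hab : ⁅K₀.subgroupOf M, K₀.subgroupOf M⁆ = ⊥ := by
        haveI := hKU₀.cyclic
        rw [Subgroup.commutator_eq_bot_iff_le_centralizer]
        intro x hx y hy
        have hcomm : ∀ a b : ↥K₀, a * b = b * a := fun a b => by
          obtain ⟨g, hg⟩ := IsCyclic.exists_generator (α := ↥K₀)
          obtain ⟨i, rfl⟩ := Subgroup.mem_zpowers_iff.mp (hg a)
          obtain ⟨j, rfl⟩ := Subgroup.mem_zpowers_iff.mp (hg b)
          exact (Commute.zpow_zpow_self g i j).eq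
        have := hcomm ⟨y.1, hy⟩ ⟨x.1, hx⟩
        apply Subtype.ext
        have := congrArg Subtype.val this
        simpa using this
      rw [hab, sup_bot_eq] at h1
      have h2 : piCore (sigma M) ↥M = Q.subgroupOf M ⊔ D.subgroupOf M := by
        rw [← sigmaCore_subgroupOf, ← hQD, Subgroup.subgroupOf_sup hQM hDM]
      have h3 : Q.subgroupOf M ≤ fittingHall ↥M := by
        rw [← fittingHallOf_subgroupOf]
        exact Subgroup.subgroupOf_mono M hQF
      refine isNilpotent_map_mk (fittingHall ↥M) (D.subgroupOf M) _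
        (isNilpotent_subgroupOf hDM hD) (h1.trans ?_)
      rw [h2]
      exact sup_le_sup_right h3 _
    · intro K U hKU hK1
      have hU : U = ⊥ := eq_bot_of_not_nilpotent hG hM hKU hnil
      subst hU
      obtain ⟨Q, D, hQF, hQn, hQq, hQc, hKQ, hQD, hD⟩ := key K hKU hK1
      have hpr := h73 K ⊥ hKU hK1 rfl
      refine ⟨hKQ.trans hQF, ?_⟩
      intro q hq hqd
      have hqeq : q = Nat.card ↥(sigmaCore M ⊓ Subgroup.centralizer (K : Set G)) :=
        (Nat.prime_dvd_prime_iff_eq hq hpr).mp hqd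
      have hQσ : Q ≤ sigmaCore M := hQD ▸ le_sup_left
      refine ⟨Q, hQF, hQσ, hqeq ▸ hQq, ?_, hQn⟩
      intro hdvd
      have h1 : Q.relIndex (sigmaCore M) ∣ Q.relIndex M :=
        Dvd.intro _ (Subgroup.relIndex_mul_relIndex Q (sigmaCore M) M hQσ (sigmaCore_le' M))
      have h2 : q ∣ Nat.card Q := by
        rw [hqeq]
        exact Subgroup.card_dvd_of_le hKQ
      have h3 : q ∣ 1 := by
        have := Nat.dvd_gcd h2 (hdvd.trans h1)
        rwa [Nat.Coprime.gcd_eq_one hQc] at this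
      exact hq.one_lt.ne' (Nat.dvd_one.mp h3)

theorem s1355_of (hG : IsMinSimpleOddOrder G) (M : Subgroup G) (hM : IsCoatom M)
    (h51 : ∀ K : Subgroup G, IsPiHallOf (kappa M) K M → IsCyclic K)
    (h73 : ∀ K U : Subgroup G, IsSigmaDecomposition M K U → K ≠ ⊥ → U = ⊥ →
      (Nat.card ↥(sigmaCore M ⊓ Subgroup.centralizer (K : Set G))).Prime) :
    fittingHallOf M ≠ ⊥ ∧ fittingHallOf M ≤ sigmaCore M ∧ sigmaCore M ≤ ⁅M, M⁆ ∧ ⁅M, M⁆ < M ∧
      Group.IsNilpotent ↥((commutator ↥M).map (QuotientGroup.mk' (fittingHall ↥M))) := by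
  have hHall := (Cfsg.Agent.S1350.result hG M hM).1
  obtain ⟨E, hE, -⟩ := Cfsg.Agent.Lib.Helper13.BG12.exists_complIn_ge hG hM hHall
    (K := ⊥) bot_le (by intro p hp hpd; simp at hpd; exact absurd (hpd ▸ hp) Nat.not_prime_one)
  obtain ⟨h1, h5, -⟩ := main_structure hG hM h51 h73
  exact ⟨h1, fittingHallOf_le_sigmaCore hG hM,
    Cfsg.Agent.Lib.Helper58.BG139.sigmaCore_le_commutator hG hM hE, derived_lt hG hM, h5⟩

theorem s1364_of (hG : IsMinSimpleOddOrder G) (M : Subgroup G) (hM : IsCoatom M)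
    (K U : Subgroup G) (hKU : IsSigmaDecomposition M K U) (hK1 : K ≠ ⊥)
    (h51 : ∀ K : Subgroup G, IsPiHallOf (kappa M) K M → IsCyclic K)
    (h73 : ∀ K U : Subgroup G, IsSigmaDecomposition M K U → K ≠ ⊥ → U = ⊥ →
      (Nat.card ↥(sigmaCore M ⊓ Subgroup.centralizer (K : Set G))).Prime)
    (hcyc : IsCyclic ↥(sigmaCore M ⊓ Subgroup.centralizer (K : Set G))) :
    IsCyclic ↥(sigmaCore M ⊓ Subgroup.centralizer (K : Set G)) ∧
      (sigmaCore M ⊓ Subgroup.centralizer (K : Set G)) ≠ ⊥ ∧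
      (sigmaCore M ⊓ Subgroup.centralizer (K : Set G)) ≤ fittingHallOf M ∧
      ¬ IsCyclic (fittingHallOf M) := by
  have hne := (Cfsg.Agent.S1354.result hG M hM K hKU.cyclic hKU.hall).1
  obtain ⟨-, -, h⟩ := main_structure hG hM h51 h73
  obtain ⟨hle, hS⟩ := h K U hKU hK1
  refine ⟨hcyc, hne, hle, ?_⟩
  intro hc
  have hcard : Nat.card ↥(sigmaCore M ⊓ Subgroup.centralizer (K : Set G)) ≠ 1 := by
    intro h1
    exact hne (Subgroup.card_eq_one.mp h1)
  obtain ⟨q, hq, hqd⟩ := Nat.exists_prime_and_dvd hcard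
  obtain ⟨S, hSF, hSσ, hSq, hSyl, hSn⟩ := hS q hq hqd
  exact Cfsg.Agent.Lib.Helper77.BG151.not_isCyclic_of_normal_sylow hG hM hKU.hall hK1 q hq hqd S hSσ hSq hSyl hSn
    (isCyclic_of_le hSF hc)

end Cfsg.Agent.Lib.Helper12.BG151
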