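import Mathlib
import Cfsg.Prelude.Def_Local
import Cfsg.Agent.Lib.Helper29.PCompUnique

/-!
# Shared definitions for the `L_{2'}`-balance induction (K-S1301-LB pack)

All subgroups are subgroups of one ambient group `G`.
* `OG N`      : `O(N)`, the largest normal subgroup of odd order of `N`, as a subgroup of `G`;
* `img N Q`   : the image of `Q ⊓ N` in `N / O(N)`;
* `CompLike N Q` : `Q ≤ N` and the image of `Q` in `N / O(N)` is a component of `N / O(N)`;
* `QC N Q`    : `CompLike N Q`, `Q` perfect, `Q` has no proper normal subgroup of odd index;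
* `LBStmt G`  : every `Q` with `QC (N_G(P)) Q`, `P` a 2-subgroup, lies in `L_{2'}(G)`;
* `LBBelow G` : `LBStmt` for all groups (same universe) of smaller order;
* `CoreStmt G`: if `O(G) = 1`, every such `Q` lies in `E(G)`.
-/

set_option autoImplicit false

namespace Cfsg.Agent.Lib.Helper12.LB

universe u

section defs

variable {G : Type u} [Group G]

/-- `O(N)` as a subgroup of the ambient group. -/
def OG (N : Subgroup G) : Subgroup G :=
  (Cfsg.pPrimeCore 2 ↥N).map N.subtype

/-- The image of `Q` (more precisely of `Q ⊓ N`) in `N / O(N)`. -/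
def img (N Q : Subgroup G) : Subgroup (↥N ⧸ Cfsg.pPrimeCore 2 ↥N) :=
  (Q.subgroupOf N).map (QuotientGroup.mk' (Cfsg.pPrimeCore 2 ↥N))

/-- `Q ≤ N` and `Q O(N) / O(N)` is a component of `N / O(N)`. -/
def CompLike (N Q : Subgroup G) : Prop :=
  Q ≤ N ∧ Cfsg.IsComponent (img N Q)

/-- `Q` is "2-component-like" in `N`. -/
structure QC (N Q : Subgroup G) : Prop where
  comp : CompLike N Q
  perf : ⁅Q, Q⁆ = Q
  nci : Cfsg.Agent.Lib.Helper29.NoCoprimeIndexNormal 2 ↥Q

theorem OG_le (N : Subgroup G) : OG N ≤ N := Subgroup.map_subtype_le _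

theorem mem_OG {N : Subgroup G} {x : G} :
    x ∈ OG N ↔ ∃ h : x ∈ N, (⟨x, h⟩ : ↥N) ∈ Cfsg.pPrimeCore 2 ↥N := by
  constructor
  · rintro ⟨y, hy, rfl⟩
    exact ⟨y.2, hy⟩
  · rintro ⟨h, hx⟩
    exact ⟨⟨x, h⟩, hx, rfl⟩

end defs

/-- `L_{2'}`-balance for `G`, in the form used in the induction. -/
def LBStmt (G : Type u) [Group G] [Finite G] : Prop :=
  ∀ P Q : Subgroup G, IsPGroup 2 P → QC (Subgroup.normalizer (P : Set G)) Q → Q ≤ Cfsg.pLayer 2 G

/-- The induction hypothesis. -/
def LBBelow (G : Type u) [Group G] [Finite G] : Prop :=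
  ∀ (H : Type u) [Group H] [Finite H], Nat.card H < Nat.card G → LBStmt H

/-- The core-free form. -/
def CoreStmt (G : Type u) [Group G] [Finite G] : Prop :=
  Cfsg.pPrimeCore 2 G = ⊥ → ∀ P Q : Subgroup G, IsPGroup 2 P →
    QC (Subgroup.normalizer (P : Set G)) Q → Q ≤ Cfsg.layer G

end Cfsg.Agent.Lib.Helper12.LB
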