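import Mathlib
import Cfsg.Prelude.Def_Local
import Cfsg.Agent.Lib.Helper12.LBDefs
import Cfsg.Agent.Lib.Helper29.LBalance
import Cfsg.Agent.Lib.Helper28.LBPC
import Cfsg.Agent.Lib.Helper70.LBCov
import Cfsg.Agent.Lib.Helper70.LBNor
import Cfsg.Agent.Lib.Helper80.LBSub
import Cfsg.Agent.Lib.Helper85.LB0
import Cfsg.Agent.Lib.Helper86.LBBridge
import Cfsg.Agent.Lib.Helper91.LBW
import Cfsg.Agent.Lib.Helper83.LBFRAT
import Cfsg.Agent.Lib.Helper01.LBSYL
import Cfsg.Agent.Lib.Helper12.LBBC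

/-!
# `L_{2'}`-balance (assembly of the K-S1301-LB pack)

`lbalance G : LBStmt G`: for every 2-subgroup `P` of the finite group `G`, every subgroup `Q` of
`N_G(P)` that looks like a 2-component of `N_G(P)` (`QC`) lies in `L_{2'}(G)`.
`lbalance_centralizer`: `L_{2'}(C_X(T)) ≤ L_{2'}(X)` for every 2-subgroup `T` (statement S1301).
The Schreier hypothesis of `Helper29.lbalance_core` is replaced by Glauberman's theorem
(`Lib/Helper12/GLMain.lean`), used inside `base_case`.
-/

set_option autoImplicit false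
set_option linter.style.haveILetI false
universe u

namespace Cfsg.Agent.Lib.Helper12.LB

open Cfsg

variable {G : Type u} [Group G] [Finite G]

/-- the `2`-layer of a subgroup lies in `A` as soon as all its `QC`-subgroups do (helper12) -/
theorem map_pLayer_le (H A : Subgroup G) (h : ∀ Q : Subgroup G, QC H Q → Q ≤ A) :
    (pLayer 2 ↥H).map H.subtype ≤ A := by
  rw [Subgroup.map_le_iff_le_comap]
  apply sSup_le
  intro J hJ
  rw [← Subgroup.map_le_iff_le_comap]
  exact h _ (Cfsg.Agent.Lib.Helper28.LB.qc_of_pcomp H J hJ)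

/-- `Z(E(G)) ≤ O_2(G)` when `O(G) = 1` (helper12) -/
theorem center_layer_le_pCore (hO : pPrimeCore 2 G = ⊥) :
    layer G ⊓ Subgroup.centralizer (layer G : Set G) ≤ pCore 2 G := by
  haveI : Fact (Nat.Prime 2) := ⟨Nat.prime_two⟩
  refine le_trans ?_ (Cfsg.Agent.Lib.Helper29.fitting_le_pCore_of_pPrimeCore_eq_bot 2 hO)
  haveI : (Subgroup.centralizer (layer G : Set G)).Normal := Subgroup.normal_centralizer
  have hn : (layer G ⊓ Subgroup.centralizer (layer G : Set G)).Normal := inferInstance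
  apply Cfsg.Agent.Lib.Helper76.le_fittingSubgroup hn
  have hc : ∀ a b : ↥(layer G ⊓ Subgroup.centralizer (layer G : Set G)), a * b = b * a := by
    rintro ⟨a, ha⟩ ⟨b, hb⟩
    apply Subtype.ext
    exact (Subgroup.mem_centralizer_iff.mp ha.2 b hb.1).symm
  letI : CommGroup ↥(layer G ⊓ Subgroup.centralizer (layer G : Set G)) :=
    { (inferInstance : Group ↥(layer G ⊓ Subgroup.centralizer (layer G : Set G))) with
      mul_comm := hc }
  exact CommGroup.isNilpotent

/-- TL: one may assume `Z(E(G)) ≤ P` (helper12) -/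
theorem qc_sup_center (hO : pPrimeCore 2 G = ⊥) (P Q : Subgroup G) (hP : IsPGroup 2 P)
    (hQ : QC (Subgroup.normalizer (P : Set G)) Q) :
    ∃ P₁ : Subgroup G, IsPGroup 2 P₁ ∧
      layer G ⊓ Subgroup.centralizer (layer G : Set G) ≤ P₁ ∧
      QC (Subgroup.normalizer (P₁ : Set G)) Q := by
  haveI : Fact (Nat.Prime 2) := ⟨Nat.prime_two⟩
  obtain ⟨hQP, hQZ⟩ := Cfsg.Agent.Lib.Helper85.LB.qc_basic hO P Q hP hQ
  set P₁ : Subgroup G := P ⊔ pCore 2 G with hP₁
  have hP₁p : IsPGroup 2 P₁ :=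
    IsPGroup.to_sup_of_normal_right hP (Cfsg.Agent.Lib.Helper76.pCore_isPGroup 2)
  refine ⟨P₁, hP₁p, (center_layer_le_pCore hO).trans le_sup_right, ?_⟩
  set U : Subgroup G := Subgroup.centralizer (P₁ : Set G) with hU
  have hQU : Q ≤ U := by
    rw [hU, Subgroup.le_centralizer_iff, hP₁]
    apply sup_le
    · rw [← Subgroup.le_centralizer_iff, ← Subgroup.commutator_eq_bot_iff_le_centralizer]
      exact hQP
    · rw [← Subgroup.le_centralizer_iff, ← Subgroup.commutator_eq_bot_iff_le_centralizer]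
      exact hQZ
  have hUN : U ≤ Subgroup.normalizer (P : Set G) :=
    (Subgroup.centralizer_le (show (P : Set G) ⊆ (P₁ : Set G) from
      (le_sup_left : P ≤ P₁))).trans (Subgroup.centralizer_le_normalizer _)
  have h1 : CompLike U Q :=
    Cfsg.Agent.Lib.Helper80.LB.compLike_descent (Subgroup.normalizer (P : Set G)) U Q Q hUN hQ hQU le_sup_left le_sup_left
  have h2 : CompLike (Subgroup.normalizer (P₁ : Set G)) Q :=
    Cfsg.Agent.Lib.Helper70.LB.compLike_of_normal (Subgroup.normalizer (P₁ : Set G)) U Q (Subgroup.centralizer_le_normalizer _)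
      (Subgroup.normal_subgroupOf_centralizer_normalizer _) h1
  exact ⟨h2, hQ.perf, hQ.nci⟩

/-- CORE: the core-free statement from the induction hypothesis (helper12) -/
theorem core_of_below (G : Type u) [Group G] [Finite G] (hIH : LBBelow G) : CoreStmt G := by
  haveI : Fact (Nat.Prime 2) := ⟨Nat.prime_two⟩
  intro hO P₀ Q hP₀ hQ₀
  obtain ⟨hQP₀, hQZ⟩ := Cfsg.Agent.Lib.Helper85.LB.qc_basic hO P₀ Q hP₀ hQ₀
  by_cases hE : layer G = ⊥
  · apply Cfsg.Agent.Lib.Helper29.perfect_le_layer (p := 2) hO Q hQ₀.perf hQZ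
    intro q _
    refine ⟨1, Subgroup.one_mem _, ?_⟩
    rw [hE, Subgroup.mem_centralizer_iff]
    intro h hh
    rw [SetLike.mem_coe, Subgroup.mem_bot] at hh
    subst hh
    simp
  obtain ⟨P, hP, hZP, hQ⟩ := qc_sup_center hO P₀ Q hP₀ hQ₀
  set N : Subgroup G := Subgroup.normalizer (P : Set G) with hN
  let S₁ : Sylow 2 ↥(layer G ⊓ N) := default
  rcases Cfsg.Agent.Lib.Helper83.LB.frattini_step N Q hQ S₁ with h | ⟨Q₃, hQ₃perf, hQ₃S, hQ₃le, hQle⟩
  · exact h
  obtain ⟨S, Zh, hZhp, hZhS, hSZh, hPZh, hZhtop⟩ :=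
    Cfsg.Agent.Lib.Helper01.LB.exists_sylow_and_Zhat hO hE P hP hZP S₁
  set H : Subgroup G := Subgroup.normalizer (Zh : Set G) with hH
  have hDN : OG N ⊓ layer G ≤ OG N := inf_le_left
  -- `Q₃ ≤ U := N ⊓ H`
  have hQ₃N : Q₃ ≤ N := hQ₃le.trans (sup_le hQ.comp.1 (hDN.trans (OG_le N)))
  have hQ₃H : Q₃ ≤ H :=
    (hQ₃S.trans (Subgroup.centralizer_le (show (Zh : Set G) ⊆ _ from hZhS))).trans
      (Subgroup.centralizer_le_normalizer _)
  have hQ₃U : Q₃ ≤ N ⊓ H := le_inf hQ₃N hQ₃H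
  have h1 : CompLike (N ⊓ H) Q₃ :=
    Cfsg.Agent.Lib.Helper80.LB.compLike_descent N (N ⊓ H) Q Q₃ inf_le_left hQ hQ₃U
      (hQ₃le.trans (sup_le_sup_left hDN Q)) (hQle.trans (sup_le_sup_left hDN Q₃))
  have h2 : Q₃ ≤ (pLayer 2 ↥H).map H.subtype ⊔ OG (N ⊓ H) :=
    Cfsg.Agent.Lib.Helper86.LB.bridge hIH H hZhtop P hP hPZh Q₃ h1
  have h3 : (pLayer 2 ↥H).map H.subtype ≤ layer G :=
    map_pLayer_le H (layer G) (fun Q' hQ' => base_case hO Zh hZhp S hSZh Q' hQ')
  have h4 : Q ≤ layer G ⊔ OG (N ⊓ H) := by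
    refine hQle.trans (sup_le (h2.trans (sup_le_sup_right h3 _)) ?_)
    exact inf_le_right.trans le_sup_left
  have hodd : Odd (Nat.card (OG (N ⊓ H))) := by
    have hc : (Nat.card (OG (N ⊓ H))).Coprime 2 := by
      unfold OG
      rw [Subgroup.card_map_of_injective (Subgroup.subtype_injective _)]
      exact Cfsg.Agent.Lib.Helper29.pPrimeCore_coprime 2
    exact Nat.odd_iff.mpr (Nat.two_dvd_ne_zero.mp (fun h => by
      have := Nat.Coprime.eq_one_of_dvd hc.symm h
      omega))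
  refine Cfsg.Agent.Lib.Helper70.LB.le_of_le_sup_odd Q (layer G) (OG (N ⊓ H)) hQ.nci ?_ hodd h4
  rw [Subgroup.normalizer_eq_top]
  exact le_top

/-- `L_{2'}`-balance, induction (helper12) -/
theorem lb_all : ∀ (n : ℕ) (G : Type u) [Group G] [Finite G], Nat.card G = n → LBStmt G := by
  intro n
  induction n using Nat.strong_induction_on with
  | _ n ih =>
    intro G _ _ hn
    have hIH : LBBelow G := by
      intro H _ _ hH
      exact ih (Nat.card H) (hn ▸ hH) H rfl
    apply Cfsg.Agent.Lib.Helper91.LB.lb_of_core G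
    apply core_of_below
    intro H _ _ hH
    apply hIH H
    refine lt_of_lt_of_le hH ?_
    exact Nat.card_le_card_of_surjective _ (QuotientGroup.mk'_surjective (pPrimeCore 2 G))

theorem lbalance (G : Type u) [Group G] [Finite G] : LBStmt G := lb_all _ G rfl

/-- the statement of S1301 -/
theorem lbalance_centralizer (X : Type u) [Group X] [Finite X] (T : Subgroup X) (hT : IsPGroup 2 ↥T) :
    (pLayer 2 ↥(Subgroup.centralizer (T : Set X))).map (Subgroup.centralizer (T : Set X)).subtype ≤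
      pLayer 2 X := by
  apply map_pLayer_le
  intro Q hQ
  have h2 : CompLike (Subgroup.normalizer (T : Set X)) Q :=
    Cfsg.Agent.Lib.Helper70.LB.compLike_of_normal (Subgroup.normalizer (T : Set X)) (Subgroup.centralizer (T : Set X)) Q
      (Subgroup.centralizer_le_normalizer _)
      (Subgroup.normal_subgroupOf_centralizer_normalizer _) hQ.comp
  exact lbalance X T Q hT ⟨h2, hQ.perf, hQ.nci⟩

end Cfsg.Agent.Lib.Helper12.LB
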