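import Mathlib
import Cfsg.Prelude.Def_Local
import Cfsg.Prelude.Def_Balance
import Cfsg.Agent.Lib.Helper12.LBMain
import Cfsg.Agent.Lib.Helper29.Quasisimple

/-!
# Components modulo the core (helper12, for S1775)

General lemmas about a subgroup `K` of a finite group `Z` whose image in `Z / O(Z)` is a component:
transport along surjections with odd kernel, containment in the `2`-layer, and quasisimplicity when
`K` centralizes `O(Z)`.
-/

set_option autoImplicit false
set_option linter.style.haveILetI false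
universe u

namespace Cfsg.Agent.Lib.Helper12.DL

open Cfsg Cfsg.Agent.Lib.Helper12.LB Cfsg.Agent.Lib.Helper29

/-- transport of "component modulo the core" along a surjection with odd kernel -/
theorem comp_mod_core_map {A B : Type u} [Group A] [Group B] [Finite A] (ψ : A →* B)
    (hψ : Function.Surjective ψ) (hker : (Nat.card ψ.ker).Coprime 2) (K : Subgroup A)
    (hK : IsComponent (K.map (QuotientGroup.mk' (pPrimeCore 2 A)))) :
    IsComponent ((K.map ψ).map (QuotientGroup.mk' (pPrimeCore 2 B))) := by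
  classical
  haveI : Fact (Nat.Prime 2) := ⟨Nat.prime_two⟩
  haveI : Finite B := Finite.of_surjective ψ hψ
  set OA : Subgroup A := pPrimeCore 2 A with hOA
  set OB : Subgroup B := pPrimeCore 2 B with hOB
  set f : A →* B ⧸ OB := (QuotientGroup.mk' OB).comp ψ with hf
  have hfsurj : Function.Surjective f := (QuotientGroup.mk'_surjective OB).comp hψ
  have hkerf : OA = f.ker := by
    have h1 : f.ker = OB.comap ψ := by
      rw [hf, ← MonoidHom.comap_ker, QuotientGroup.ker_mk']
    rw [h1]
    apply le_antisymm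
    · rw [← Subgroup.map_le_iff_le_comap]
      have hn : (OA.map ψ).Normal := Subgroup.Normal.map inferInstance ψ hψ
      have hc : (Nat.card (OA.map ψ)).Coprime 2 :=
        Nat.Coprime.coprime_dvd_left (Subgroup.card_map_dvd OA ψ) (pPrimeCore_coprime 2)
      exact normal_le_pPrimeCore 2 (OA.map ψ) hc
    · have hn : (OB.comap ψ).Normal := Subgroup.Normal.comap inferInstance ψ
      have hc : (Nat.card (OB.comap ψ)).Coprime 2 := by
        apply card_coprime_of_forall_orderOf
        rintro ⟨y, hy⟩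
        rw [Subgroup.orderOf_mk]
        have h2 : (ψ y) ^ Nat.card OB = 1 := pow_card_eq_one_of_mem (Subgroup.mem_comap.mp hy)
        have h3 : (y ^ Nat.card OB) ∈ ψ.ker := by
          rw [MonoidHom.mem_ker, map_pow]; exact h2
        have h6 : (y ^ Nat.card OB) ^ Nat.card ψ.ker = 1 := pow_card_eq_one_of_mem h3
        rw [← pow_mul] at h6
        have h8 : orderOf y ∣ Nat.card OB * Nat.card ψ.ker := orderOf_dvd_of_pow_eq_one h6
        exact Nat.Coprime.coprime_dvd_left h8
          (Nat.Coprime.mul_left (pPrimeCore_coprime 2) hker)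
      exact normal_le_pPrimeCore 2 (OB.comap ψ) hc
  let e : (A ⧸ OA) ≃* (B ⧸ OB) :=
    (QuotientGroup.quotientMulEquivOfEq hkerf).trans
      (QuotientGroup.quotientKerEquivOfSurjective f hfsurj)
  have he : ∀ y : A, e (QuotientGroup.mk' OA y) = f y := fun y => rfl
  have himg : (K.map ψ).map (QuotientGroup.mk' OB) =
      (K.map (QuotientGroup.mk' OA)).map e.toMonoidHom := by
    rw [Subgroup.map_map, Subgroup.map_map]
    congr 1
  rw [himg]
  exact Cfsg.Agent.Lib.Helper30.isComponent_map_equiv e hK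

/-- a subgroup without odd quotients whose image modulo the core is a component lies in the `2`-layer -/
theorem le_pLayer_of_comp_mod_core {Z : Type u} [Group Z] [Finite Z] (K : Subgroup Z)
    (hK : IsComponent (K.map (QuotientGroup.mk' (pPrimeCore 2 Z))))
    (hnci : NoCoprimeIndexNormal 2 ↥K) : K ≤ pLayer 2 Z := by
  classical
  haveI : Fact (Nat.Prime 2) := ⟨Nat.prime_two⟩
  obtain ⟨J, hJ, hJK⟩ := exists_pcomp_of_component (p := 2) _ hK
  have hJle : J ≤ pLayer 2 Z := le_sSup hJ
  have h0 : K ≤ J ⊔ pPrimeCore 2 Z := le_sup_core_of_map_le 2 K J (le_of_eq hJK.symm)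
  have hJM : K ≤ pLayer 2 Z ⊔ pPrimeCore 2 Z := h0.trans (sup_le_sup_right hJle _)
  have h1 : NoCoprimeIndexNormal 2 (K.subgroupOf (pLayer 2 Z ⊔ pPrimeCore 2 Z)) :=
    noCoprimeIndexNormal_of_mulEquiv 2 (Subgroup.subgroupOfEquivOfLe hJM) hnci
  have hsn : (pLayer 2 Z).IsSubnormal :=
    Subgroup.Normal.isSubnormal (Cfsg.Agent.Lib.Helper30.pLayer_normal 2)
  have h2 := le_of_subnormal_index_coprime 2 (K.subgroupOf (pLayer 2 Z ⊔ pPrimeCore 2 Z)) h1
    ((pLayer 2 Z).subgroupOf (pLayer 2 Z ⊔ pPrimeCore 2 Z)) hsn.subgroupOf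
    (relIndex_sup_core_coprime 2 (pLayer 2 Z))
  intro x hx
  exact h2 (show (⟨x, hJM hx⟩ : ↥(pLayer 2 Z ⊔ pPrimeCore 2 Z)) ∈
    K.subgroupOf (pLayer 2 Z ⊔ pPrimeCore 2 Z) from hx)

end Cfsg.Agent.Lib.Helper12.DL
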