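import Mathlib
import Cfsg.Prelude.Def_Local
import Cfsg.Prelude.Def_Balance
import Cfsg.Agent.Lib.Helper12.DLayerA

/-!
# Components modulo the core, part B (helper12, for S1775)
-/

set_option autoImplicit false
set_option linter.style.haveILetI false
universe u

namespace Cfsg.Agent.Lib.Helper12.DL

open Cfsg Cfsg.Agent.Lib.Helper12.LB Cfsg.Agent.Lib.Helper29
open scoped commutatorElement

theorem commutator_eq_top_of_perf {Z : Type*} [Group Z] {L : Subgroup Z} (h : ⁅L, L⁆ = L) :
    commutator ↥L = ⊤ := by
  apply Subgroup.map_injective L.subtype_injective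
  rw [commutator_def, Subgroup.map_commutator, ← MonoidHom.range_eq_map, Subgroup.range_subtype, h]

theorem commutator_eq_top_of_surj {A B : Type*} [Group A] [Group B] (f : A →* B)
    (hf : Function.Surjective f) (h : commutator A = ⊤) : commutator B = ⊤ := by
  rw [commutator_def] at h ⊢
  have h1 : (⊤ : Subgroup B) = (⊤ : Subgroup A).map f := by
    rw [← MonoidHom.range_eq_map, MonoidHom.range_eq_top.mpr hf]
  rw [h1, ← Subgroup.map_commutator, h]

/-- a perfect subgroup centralizing the core whose image modulo the core is a component is a component -/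
theorem isComponent_of_comp_mod_core {Z : Type u} [Group Z] [Finite Z] (K : Subgroup Z)
    (hK : IsComponent (K.map (QuotientGroup.mk' (pPrimeCore 2 Z))))
    (hperf : commutator ↥K = ⊤)
    (hc : ⁅K, pPrimeCore 2 Z⁆ = ⊥) : IsComponent K := by
  classical
  set O : Subgroup Z := pPrimeCore 2 Z with hO
  set π := QuotientGroup.mk' O with hπ
  have hcent : O ≤ Subgroup.centralizer (K : Set Z) := by
    rw [Subgroup.commutator_comm] at hc
    exact Subgroup.commutator_eq_bot_iff_le_centralizer.mp hc
  refine ⟨?_, ?_⟩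
  · -- subnormal
    set M : Subgroup Z := (K.map π).comap π with hM
    have hMsn : M.IsSubnormal := hK.1.comap π
    have hKM : K ≤ M := Subgroup.le_comap_map π K
    have hMeq : M = K ⊔ O := by
      rw [hM, Subgroup.comap_map_eq, hπ, QuotientGroup.ker_mk']
    have hMn : M ≤ Subgroup.normalizer (K : Set Z) := by
      rw [hMeq]
      exact sup_le Subgroup.le_normalizer (hcent.trans (Subgroup.centralizer_le_normalizer _))
    have hn : (K.subgroupOf M).Normal :=
      (Subgroup.normal_subgroupOf_iff_le_normalizer hKM).mpr hMn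
    exact Subgroup.IsSubnormal.trans hKM hn.isSubnormal hMsn
  · -- quasisimple
    set φ : ↥K →* ↥(K.map π) := π.subgroupMap K with hφ
    have hφs : Function.Surjective φ := MonoidHom.subgroupMap_surjective π K
    have hkc : φ.ker ≤ Subgroup.center ↥K := by
      rintro ⟨k, hk⟩ hkk
      rw [MonoidHom.mem_ker] at hkk
      have h1 : π k = 1 := congrArg Subtype.val hkk
      have h2 : k ∈ O := (QuotientGroup.eq_one_iff _).mp h1
      rw [Subgroup.mem_center_iff]
      rintro ⟨g, hg⟩
      apply Subtype.ext
      exact Subgroup.mem_centralizer_iff.mp (hcent h2) g hg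
    have hq : IsQuasisimple (↥K ⧸ φ.ker) :=
      Cfsg.Agent.Lib.Helper28.quasisimple_of_mulEquiv
        (QuotientGroup.quotientKerEquivOfSurjective φ hφs).symm hK.2
    exact qs_of_quotient_central hperf φ.ker hkc hq

/-- a component without odd quotients centralizes every odd-order subgroup it normalizes -/
theorem component_centralizes_odd {Z : Type u} [Group Z] [Finite Z] (K E : Subgroup Z)
    (hK : IsComponent K) (hnci : NoCoprimeIndexNormal 2 ↥K) (hE : (Nat.card E).Coprime 2)
    (hKE : ∀ k ∈ K, ∀ e ∈ E, k * e * k⁻¹ ∈ E) : ⁅K, E⁆ = ⊥ := by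
  classical
  have hKn : K ≤ Subgroup.normalizer (E : Set Z) := by
    intro k hk
    rw [Subgroup.mem_normalizer_iff]
    intro e
    constructor
    · exact hKE k hk e
    · intro h
      have := hKE k⁻¹ (K.inv_mem hk) _ h
      simpa [mul_assoc] using this
  set M : Subgroup Z := K ⊔ E with hM
  have hKM : K ≤ M := le_sup_left
  have hEM : E ≤ M := le_sup_right
  have hMn : M ≤ Subgroup.normalizer (E : Set Z) := sup_le hKn Subgroup.le_normalizer
  have hEn : (E.subgroupOf M).Normal := (Subgroup.normal_subgroupOf_iff_le_normalizer hEM).mpr hMn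
  have hsn : (K.subgroupOf M).IsSubnormal := hK.1.subgroupOf
  have hqs : IsQuasisimple ↥(K.subgroupOf M) :=
    Cfsg.Agent.Lib.Helper28.quasisimple_of_mulEquiv (Subgroup.subgroupOfEquivOfLe hKM).symm hK.2
  rcases Cfsg.Agent.Lib.Helper30.component_normal_dichotomy hsn hqs hEn with h | h
  · exfalso
    have hKE' : K ≤ E := by
      intro k hk
      exact h (show (⟨k, hKM hk⟩ : ↥M) ∈ K.subgroupOf M from hk)
    have hcK : (Nat.card K).Coprime 2 :=
      Nat.Coprime.coprime_dvd_left (Subgroup.card_dvd_of_le hKE') hE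
    have hbot : (⊥ : Subgroup ↥K) = ⊤ := by
      apply hnci ⊥ inferInstance
      rw [Subgroup.index_bot]
      exact hcK
    haveI : Subsingleton ↥K := by
      constructor
      intro a b
      have ha : a ∈ (⊥ : Subgroup ↥K) := by rw [hbot]; trivial
      have hb : b ∈ (⊥ : Subgroup ↥K) := by rw [hbot]; trivial
      rw [Subgroup.mem_bot] at ha hb
      rw [ha, hb]
    haveI : Nontrivial (↥K ⧸ Subgroup.center ↥K) := hK.2.2.toNontrivial
    obtain ⟨a, b, hab⟩ := exists_pair_ne (↥K ⧸ Subgroup.center ↥K)
    obtain ⟨a', rfl⟩ := QuotientGroup.mk_surjective a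
    obtain ⟨b', rfl⟩ := QuotientGroup.mk_surjective b
    exact hab (by rw [Subsingleton.elim a' b'])
  · rw [eq_bot_iff, Subgroup.commutator_le]
    intro k hk e he
    have h1 : ⁅(⟨k, hKM hk⟩ : ↥M), (⟨e, hEM he⟩ : ↥M)⁆ ∈ ⁅K.subgroupOf M, E.subgroupOf M⁆ :=
      Subgroup.commutator_mem_commutator hk he
    rw [h, Subgroup.mem_bot] at h1
    rw [Subgroup.mem_bot]
    exact congrArg Subtype.val h1

end Cfsg.Agent.Lib.Helper12.DL
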