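import Mathlib
import Cfsg.Agent.Lib.Helper12.BG151Glue
import Cfsg.Agent.Lib.Helper58.BG152L1a
import Cfsg.Agent.Lib.Helper60.BG152L1b
import Cfsg.Agent.Lib.Helper62.BG152L2a
import Cfsg.Agent.Lib.Helper58.BG152L2b
import Cfsg.Agent.Lib.Helper47.BG152L3

/-!
# BG 15.1(b): glue for S1356 (pack K-152, helper12)

`s1356_of'` takes leaf L2c (the centralizer clause in the non-nilpotent case) as a hypothesis.
-/

set_option autoImplicit false

namespace Cfsg.Agent.Lib.Helper12.BG152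

open Cfsg Cfsg.Agent.Lib.Helper12.BG151

variable {G : Type*} [Group G] [Finite G]

/-- K-152-L2d: `M_F ≤ F(M)`. -/
theorem fittingHallOf_le_fittingOf (M : Subgroup G) : fittingHallOf M ≤ fittingOf M := by
  apply Subgroup.map_mono
  apply sSup_le_sSup
  intro N hN
  exact ⟨hN.1, hN.2.1⟩

/-- The statement of leaf K-152-L2c, as a hypothesis on `M`. -/
def HL2c (M : Subgroup G) : Prop :=
  ∀ {K Q D : Subgroup G}, IsSigmaDecomposition M K ⊥ → K ≠ ⊥ → ∀ (q : ℕ), q.Prime →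
    M ≤ Subgroup.normalizer (Q : Set G) → IsPGroup q Q →
    (Nat.card Q).Coprime (Q.relIndex M) →
    sigmaCore M ⊓ Subgroup.centralizer (K : Set G) ≤ Q → Q ⊔ D = sigmaCore M →
    Group.IsNilpotent D → Q ≤ fittingHallOf M →
    M ⊓ Subgroup.centralizer (fittingHallOf M : Set G) ≤ fittingOf M

theorem s1356_of' (hG : IsMinSimpleOddOrder G) (M : Subgroup G) (hM : IsCoatom M)
    (h51 : ∀ K : Subgroup G, IsPiHallOf (kappa M) K M → IsCyclic K)
    (h73 : ∀ K U : Subgroup G, IsSigmaDecomposition M K U → K ≠ ⊥ → U = ⊥ →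
      (Nat.card ↥(sigmaCore M ⊓ Subgroup.centralizer (K : Set G))).Prime)
    (hL2c : HL2c M) :
    ⁅⁅M, M⁆, ⁅M, M⁆⁆ ≤ fittingOf M ∧
      fittingOf M = (M ⊓ Subgroup.centralizer (fittingHallOf M : Set G)) ⊔ fittingHallOf M ∧
      ((kappa M).Nonempty → fittingOf M ≤ ⁅M, M⁆) := by
  by_cases hnil : Group.IsNilpotent (sigmaCore M)
  · have hF : fittingHallOf M = sigmaCore M :=
      le_antisymm (Cfsg.Agent.Lib.Helper60.BG151.fittingHallOf_le_sigmaCore hG hM)
        (le_fittingHallOf (sigmaCore_le' M)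
          (Cfsg.Agent.Lib.Helper31.le_normalizer_piCoreOf (sigma M) M) hnil
          (sigmaCore_coprime hG hM))
    exact ⟨Cfsg.Agent.Lib.Helper58.BG152.second_derived_le_of_nilpotent hG hM hnil,
      le_antisymm (Cfsg.Agent.Lib.Helper62.BG152.fittingOf_le_sup M)
        (sup_le (Cfsg.Agent.Lib.Helper58.BG152.centralizer_le_fittingOf_of_nilpotent hG hM hnil hF)
          (fittingHallOf_le_fittingOf M)),
      Cfsg.Agent.Lib.Helper47.BG152.fittingOf_le_derived hG hM⟩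
  · obtain ⟨K, hKU, hK1⟩ :=
      Cfsg.Agent.Lib.Helper61.BG151.exists_decomp_of_not_nilpotent hG hM h51 hnil
    have hpr := h73 K ⊥ hKU hK1 rfl
    obtain ⟨Q, D, hQn, hQq, hQc, hKQ, hQD, hD⟩ := structure_of_decomp hG hM hKU hK1 hpr hnil
    haveI : Fact (Nat.card ↥(sigmaCore M ⊓ Subgroup.centralizer (K : Set G))).Prime := ⟨hpr⟩
    have hcyc : IsCyclic ↥(sigmaCore M ⊓ Subgroup.centralizer (K : Set G)) :=
      isCyclic_of_prime_card rfl
    have hQσ : Q ≤ sigmaCore M := hQD ▸ le_sup_left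
    have hQF : Q ≤ fittingHallOf M :=
      le_fittingHallOf (hQσ.trans (sigmaCore_le' M)) hQn hQq.isNilpotent hQc
    exact ⟨Cfsg.Agent.Lib.Helper60.BG152.second_derived_le_of_structure hG hM hKU hK1 _ hpr hQn
        hQq hQc hKQ hQD hD hcyc,
      le_antisymm (Cfsg.Agent.Lib.Helper62.BG152.fittingOf_le_sup M)
        (sup_le (hL2c hKU hK1 _ hpr hQn hQq hQc hKQ hQD hD hQF) (fittingHallOf_le_fittingOf M)),
      Cfsg.Agent.Lib.Helper47.BG152.fittingOf_le_derived hG hM⟩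

end Cfsg.Agent.Lib.Helper12.BG152
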