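import Mathlib

/-!
# S3779 (Higman / Kreknin–Kostrikin): shared definitions

Everything is phrased with additive subgroups of one fixed Lie ring `L`:
* `brk A B`   : additive span of the brackets `⁅a, b⁆`, `a ∈ A`, `b ∈ B`;
* `derFrom A` : derived series starting at `A`;
* `lcsFrom A` : lower central series starting at `A` (`lcsFrom A 0 = A`, `lcsFrom A (t+1) = ⁅lcsFrom A t, A⁆`);
* `GFam n L`  : a family `T : ZMod n → AddSubgroup L` with `⁅T i, T j⁆ ⊆ T (i + j)` and `T 0 = ⊥`
  (a `ℤ/n`-graded Lie subring of `L` without `0`-component; neither directness nor `⨆ T i = ⊤` is required).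
-/

set_option autoImplicit false

namespace Cfsg.Agent.Lib.Helper12.KK

universe u

variable {L : Type u} [LieRing L]

/-- additive subgroup spanned by the brackets `⁅a, b⁆`, `a ∈ A`, `b ∈ B` -/
def brk (A B : AddSubgroup L) : AddSubgroup L :=
  AddSubgroup.closure {z | ∃ a ∈ A, ∃ b ∈ B, ⁅a, b⁆ = z}

/-- derived series starting from `A` -/
def derFrom (A : AddSubgroup L) : ℕ → AddSubgroup L
  | 0 => A
  | t + 1 => brk (derFrom A t) (derFrom A t)

/-- lower central series starting from `A` -/
def lcsFrom (A : AddSubgroup L) : ℕ → AddSubgroup L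
  | 0 => A
  | t + 1 => brk (lcsFrom A t) A

/-- a `ℤ/n`-graded family of additive subgroups without `0`-component -/
structure GFam (n : ℕ) (L : Type u) [LieRing L] where
  /-- the homogeneous components -/
  T : ZMod n → AddSubgroup L
  lie_mem : ∀ i j x y, x ∈ T i → y ∈ T j → ⁅x, y⁆ ∈ T (i + j)
  zero : T 0 = ⊥

/-- the sum of the components -/
def GFam.tot {n : ℕ} (F : GFam n L) : AddSubgroup L := ⨆ i, F.T i

end Cfsg.Agent.Lib.Helper12.KK
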