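import Mathlib

set_option autoImplicit false

namespace Cfsg.Agent.Lib.Helper12

open Subgroup

variable {P : Type*} [Group P]

/-- The subgroup `{1, a, b, ab}` generated by two commuting involutions. -/
def fourSub (a b : P) (ha : a * a = 1) (hb : b * b = 1) (hab : a * b = b * a) : Subgroup P where
  carrier := {1, a, b, a * b}
  one_mem' := by simp
  mul_mem' := by
    intro x y hx hy
    simp only [Set.mem_insert_iff, Set.mem_singleton_iff] at hx hy ⊢
    have hba : b * a = a * b := hab.symm
    have h1 : a * (a * b) = b := by rw [← mul_assoc, ha, one_mul]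
    have h2 : b * (a * b) = a := by rw [← mul_assoc, hba, mul_assoc, hb, mul_one]
    have h3 : (a * b) * a = b := by rw [mul_assoc, hba, ← mul_assoc, ha, one_mul]
    have h4 : (a * b) * b = a := by rw [mul_assoc, hb, mul_one]
    have h5 : (a * b) * (a * b) = 1 := by rw [mul_assoc, h2, ha]
    rcases hx with rfl | rfl | rfl | rfl <;> rcases hy with rfl | rfl | rfl | rfl <;>
      simp [ha, hb, h1, h2, h3, h4, h5, hba]
  inv_mem' := by
    intro x hx
    simp only [Set.mem_insert_iff, Set.mem_singleton_iff] at hx ⊢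
    have hai : a⁻¹ = a := inv_eq_of_mul_eq_one_right ha
    have hbi : b⁻¹ = b := inv_eq_of_mul_eq_one_right hb
    rcases hx with rfl | rfl | rfl | rfl
    · simp
    · simp [hai]
    · simp [hbi]
    · right; right; right
      rw [mul_inv_rev, hai, hbi, hab]

theorem mem_fourSub {a b : P} {ha : a * a = 1} {hb : b * b = 1} {hab : a * b = b * a} {x : P} :
    x ∈ fourSub a b ha hb hab ↔ x = 1 ∨ x = a ∨ x = b ∨ x = a * b := by
  show x ∈ ({1, a, b, a * b} : Set P) ↔ _
  simp

theorem left_mem_fourSub {a b : P} {ha : a * a = 1} {hb : b * b = 1} {hab : a * b = b * a} :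
    a ∈ fourSub a b ha hb hab := mem_fourSub.mpr (Or.inr (Or.inl rfl))

theorem right_mem_fourSub {a b : P} {ha : a * a = 1} {hb : b * b = 1} {hab : a * b = b * a} :
    b ∈ fourSub a b ha hb hab := mem_fourSub.mpr (Or.inr (Or.inr (Or.inl rfl)))

theorem isKleinFour_fourSub {a b : P} (ha : a * a = 1) (hb : b * b = 1) (hab : a * b = b * a)
    (ha1 : a ≠ 1) (hb1 : b ≠ 1) (hne : a ≠ b) : IsKleinFour (fourSub a b ha hb hab) := by
  have hab1 : a * b ≠ 1 := by
    intro h
    apply hne
    have : a⁻¹ = a := inv_eq_of_mul_eq_one_right ha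
    rw [← this]
    exact (inv_eq_of_mul_eq_one_right h).symm ▸ rfl
  have haba : a * b ≠ a := by
    intro h
    apply hb1
    have := mul_left_cancel (a := a) (b := b) (c := 1) (by rw [h, mul_one])
    exact this
  have habb : a * b ≠ b := by
    intro h
    apply ha1
    have := mul_right_cancel (a := a) (b := b) (c := 1) (by rw [h, one_mul])
    exact this
  constructor
  · have : ((fourSub a b ha hb hab : Subgroup P) : Set P) = {1, a, b, a * b} := rfl
    rw [← SetLike.coe_sort_coe, Nat.card_coe_set_eq, this]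
    rw [Set.ncard_insert_of_notMem, Set.ncard_insert_of_notMem, Set.ncard_pair]
    · exact Ne.symm habb
    · simp only [Set.mem_insert_iff, Set.mem_singleton_iff, not_or]
      exact ⟨hne, Ne.symm haba⟩
    · simp only [Set.mem_insert_iff, Set.mem_singleton_iff, not_or]
      exact ⟨Ne.symm ha1, Ne.symm hb1, Ne.symm hab1⟩
  · have hsq : ∀ x : fourSub a b ha hb hab, x ^ 2 = 1 := by
      rintro ⟨x, hx⟩
      apply Subtype.ext
      have hxx : x * x = 1 := by
        rw [mem_fourSub] at hx
        rcases hx with rfl | rfl | rfl | rfl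
        · simp
        · exact ha
        · exact hb
        · rw [mul_assoc, ← mul_assoc b, ← hab, mul_assoc, hb, mul_one, ha]
      simpa [pow_two] using hxx
    have hdvd : Monoid.exponent (fourSub a b ha hb hab) ∣ 2 :=
      Monoid.exponent_dvd_of_forall_pow_eq_one hsq
    rcases (Nat.dvd_prime Nat.prime_two).mp hdvd with h | h
    · exfalso
      rw [Monoid.exp_eq_one_iff] at h
      apply ha1
      have := Subsingleton.elim (⟨a, left_mem_fourSub⟩ : fourSub a b ha hb hab) 1
      exact congrArg Subtype.val this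
    · exact h

/-- Elements of a Klein four-subgroup square to one. -/
theorem mul_self_of_mem_kleinFour (U : Subgroup P) [hU : IsKleinFour U] {x : P} (hx : x ∈ U) :
    x * x = 1 := by
  have := IsKleinFour.mul_self (⟨x, hx⟩ : U)
  exact congrArg Subtype.val this

/-- Elements of a Klein four-subgroup commute. -/
theorem comm_of_mem_kleinFour (U : Subgroup P) [hU : IsKleinFour U] {x y : P} (hx : x ∈ U)
    (hy : y ∈ U) : x * y = y * x := by
  have := (IsKleinFour.isMulCommutative (G := U)).is_comm.comm ⟨x, hx⟩ ⟨y, hy⟩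
  exact congrArg Subtype.val this

/-- A Klein four-subgroup has a non-identity element. -/
theorem exists_ne_one_of_kleinFour (U : Subgroup P) [hU : IsKleinFour U] :
    ∃ a ∈ U, a ≠ 1 := by
  have : Nontrivial U := by
    have : Finite U := IsKleinFour.instFinite
    rw [← Finite.one_lt_card_iff_nontrivial, hU.card_four]
    norm_num
  obtain ⟨x, hx⟩ := exists_ne (1 : U)
  exact ⟨x, x.2, fun h => hx (Subtype.ext h)⟩

/-- Given a non-identity element `a` of a Klein four-subgroup, there is a second generator. -/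
theorem exists_second_gen_of_kleinFour (U : Subgroup P) [hU : IsKleinFour U] {a : P}
    (ha : a ∈ U) (ha1 : a ≠ 1) :
    ∃ b ∈ U, b ≠ 1 ∧ a ≠ b ∧ ∀ x, x ∈ U ↔ x = 1 ∨ x = a ∨ x = b ∨ x = a * b := by
  classical
  have hfin : Finite U := IsKleinFour.instFinite
  -- find b outside {1, a}
  have hex : ∃ b : U, b ≠ 1 ∧ b ≠ ⟨a, ha⟩ := by
    by_contra hcon
    push Not at hcon
    have hsub : (Set.univ : Set U) ⊆ {1, ⟨a, ha⟩} := by
      intro x _
      by_cases hx : x = 1
      · left; exact hx
      · right; exact hcon x hx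
    have h1 : (Set.univ : Set U).ncard ≤ ({1, ⟨a, ha⟩} : Set U).ncard :=
      Set.ncard_le_ncard hsub (Set.toFinite _)
    rw [Set.ncard_univ, hU.card_four] at h1
    have h2 : ({1, ⟨a, ha⟩} : Set U).ncard ≤ 2 :=
      (Set.ncard_insert_le _ _).trans (by rw [Set.ncard_singleton])
    omega
  obtain ⟨⟨b, hb⟩, hb1, hba⟩ := hex
  have hb1' : b ≠ 1 := fun h => hb1 (Subtype.ext h)
  have hab' : a ≠ b := fun h => hba (Subtype.ext h.symm)
  refine ⟨b, hb, hb1', hab', fun x => ⟨fun hx => ?_, ?_⟩⟩
  · by_contra hcon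
    push Not at hcon
    obtain ⟨hx1, hxa, hxb, hxab⟩ := hcon
    have := IsKleinFour.eq_mul_of_ne_all (G := U) (x := ⟨a, ha⟩) (y := ⟨b, hb⟩) (z := ⟨x, hx⟩)
      (fun h => ha1 (congrArg Subtype.val h)) hb1 (fun h => hab' (congrArg Subtype.val h))
      (fun h => hx1 (congrArg Subtype.val h)) (fun h => hxa (congrArg Subtype.val h))
      (fun h => hxb (congrArg Subtype.val h))
    exact hxab (congrArg Subtype.val this)
  · rintro (rfl | rfl | rfl | rfl)
    · exact U.one_mem
    · exact ha
    · exact hb
    · exact U.mul_mem ha hb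

end Cfsg.Agent.Lib.Helper12
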