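import Mathlib
import Cfsg.Prelude.Def_Local
import Cfsg.Agent.Lib.Helper06.SylAlt.Defs
import Cfsg.Agent.Lib.Helper28.Quasisimple
import Cfsg.Agent.Lib.Helper67.Subnormal

/-!
# K-SylAlt-P5b: `altOn Δ` is quasisimple for `5 ≤ |Δ|` (helper12)
-/

set_option autoImplicit false

namespace Cfsg.Agent.Lib.Helper12.SylAlt

open Equiv Equiv.Perm
open Cfsg.Agent.Lib.Helper06.SylAlt

variable {α : Type*} [Fintype α] [DecidableEq α]

/-- `altOn Δ` is the image of `Alt(Δ)` under extension by the identity -/
theorem altOn_eq_map (Δ : Finset α) :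
    altOn (Δ : Set α) =
      (alternatingGroup {x // x ∈ Δ}).map (ofSubtype : Perm {x // x ∈ Δ} →* Perm α) := by
  ext σ
  rw [mem_altOn, Subgroup.mem_map]
  constructor
  · rintro ⟨hσ, hfix⟩
    have hfix' : ∀ x, σ x ≠ x → x ∈ Δ := by
      intro x hx
      by_contra h
      exact hx (hfix x (by simpa using h))
    have hpres : ∀ x, σ x ∈ Δ ↔ x ∈ Δ := by
      intro x
      constructor
      · intro h
        by_contra hx
        have : σ x = x := hfix x (by simpa using hx)
        rw [this] at h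
        exact hx h
      · intro h
        by_contra hx
        have h1 : σ (σ x) = σ x := hfix (σ x) (by simpa using hx)
        have h2 : σ x = x := σ.injective h1
        rw [h2] at hx
        exact hx h
    refine ⟨subtypePerm σ hpres, ?_, ofSubtype_subtypePerm hpres hfix'⟩
    rw [mem_alternatingGroup]
    have h1 := sign_subtypePerm σ hpres hfix'
    have h2 : sign σ = 1 := mem_alternatingGroup.mp hσ
    rw [h2] at h1
    convert h1
  · rintro ⟨τ, hτ, rfl⟩
    refine ⟨?_, ?_⟩
    · rw [mem_alternatingGroup, sign_ofSubtype]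
      exact mem_alternatingGroup.mp hτ
    · intro x hx
      exact ofSubtype_apply_of_not_mem τ (by simpa using hx)

/-- **K-SylAlt-P5b.** For `|Δ| ≥ 5`, `altOn Δ` is quasisimple (simple non-abelian). -/
theorem isQuasisimple_altOn (Δ : Finset α) (h : 5 ≤ Δ.card) :
    Cfsg.IsQuasisimple ↥(altOn (Δ : Set α)) := by
  have hcard : Nat.card {x // x ∈ Δ} = Δ.card := by
    rw [Nat.card_eq_fintype_card, Fintype.card_coe]
  have h5 : 5 ≤ Nat.card {x // x ∈ Δ} := by rw [hcard]; exact h
  haveI hs : IsSimpleGroup ↥(alternatingGroup {x // x ∈ Δ}) := alternatingGroup.isSimpleGroup h5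
  have hnc : ¬ IsMulCommutative ↥(alternatingGroup {x // x ∈ Δ}) := by
    rw [alternatingGroup.isMulCommutative_iff_card_le_three]
    omega
  have hq : Cfsg.IsQuasisimple ↥(alternatingGroup {x // x ∈ Δ}) :=
    Cfsg.Agent.Lib.Helper67.isQuasisimple_of_simple hnc
  have e : ↥(alternatingGroup {x // x ∈ Δ}) ≃*
      ↥((alternatingGroup {x // x ∈ Δ}).map (ofSubtype : Perm {x // x ∈ Δ} →* Perm α)) :=
    Subgroup.equivMapOfInjective _ _ ofSubtype_injective
  have hq2 := Cfsg.Agent.Lib.Helper28.quasisimple_of_mulEquiv e hq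
  rw [altOn_eq_map]
  exact hq2

end Cfsg.Agent.Lib.Helper12.SylAlt
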