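import Mathlib
import Cfsg.Prelude.Def_Involutions
import Cfsg.Agent.Lib.Helper60.AICDefs
import Cfsg.Agent.Lib.Helper28.StronglyEmbedded

/-!
# S2202, keystone K-B2 (core): the centralizer of a nonidentity element of a two-point stabilizer

The Part A facts and K-B1 enter as explicit hypotheses (`hA2`, ..., `hB1b`), so that this file
does not depend on them; `AICB2.lean` instantiates them.
-/

set_option autoImplicit false
set_option linter.unusedSectionVars false
set_option linter.unusedVariables false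

namespace Cfsg.Agent.Lib.Helper12.AIC

open Subgroup Cfsg Cfsg.Agent.Lib.Helper60.AIC Cfsg.Agent.Lib.Helper41 Cfsg.Agent.Lib.Helper28

universe u

variable {G : Type u} [Group G] [Finite G]

/-! ## general lemmas -/

theorem b2_lc_one (X : Subgroup G) : lc 1 X = X := by
  ext x
  rw [mem_lc]
  simp

/-- an involution acting without fixed points on a finite subgroup it normalizes inverts it -/
theorem b2_inverts_of_fpf (K : Subgroup G) (e : G) (he : e * e = 1)
    (hK : ∀ k ∈ K, e * k * e⁻¹ ∈ K) (hfix : ∀ k ∈ K, e * k * e⁻¹ = k → k = 1) :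
    ∀ k ∈ K, e * k * e⁻¹ = k⁻¹ := by
  have hei : e⁻¹ = e := inv_eq_of_mul_eq_one_left he
  let f : K → K := fun x => ⟨(x : G)⁻¹ * (e * x * e⁻¹), K.mul_mem (K.inv_mem x.2) (hK x x.2)⟩
  have hinj : Function.Injective f := by
    intro x y hxy
    have h1 : (x : G)⁻¹ * (e * x * e⁻¹) = (y : G)⁻¹ * (e * y * e⁻¹) := congrArg Subtype.val hxy
    have h2 : e * ((y : G) * (x : G)⁻¹) * e⁻¹ = (y : G) * (x : G)⁻¹ := by
      have h3 : e * x * e⁻¹ = (x : G) * ((y : G)⁻¹ * (e * y * e⁻¹)) := by
        rw [← h1]; group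
      have h4 : e * ((y : G) * (x : G)⁻¹) * e⁻¹ = (e * y * e⁻¹) * (e * x * e⁻¹)⁻¹ := by group
      rw [h4, h3]; group
    have h5 := hfix _ (K.mul_mem y.2 (K.inv_mem x.2)) h2
    have h6 : (y : G) = x := by
      have := mul_inv_eq_one.1 h5
      exact this
    exact Subtype.ext h6.symm
  have hsurj : Function.Surjective f := Finite.injective_iff_surjective.1 hinj
  intro k hk
  obtain ⟨x, hx⟩ := hsurj ⟨k, hk⟩
  have hk' : k = (x : G)⁻¹ * (e * x * e⁻¹) := (congrArg Subtype.val hx).symm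
  rw [hk']
  have : e * ((x : G)⁻¹ * (e * x * e⁻¹)) * e⁻¹ =
      (e * (x : G)⁻¹ * e⁻¹) * ((e * e) * x * (e * e)⁻¹) := by
    group
  rw [this, he]
  group

theorem b2_eq_one_of_odd_of_mem (S : Sylow 2 G) {x : G} (hodd : Odd (orderOf x))
    (hx : x ∈ (S : Subgroup G)) : x = 1 := by
  obtain ⟨k, hk⟩ := S.2 ⟨x, hx⟩
  have hk' : x ^ (2 ^ k) = 1 := by
    have := congrArg Subtype.val hk
    simpa using this
  have hd : orderOf x ∣ 2 ^ k := orderOf_dvd_of_pow_eq_one hk'
  have hco : Nat.Coprime (orderOf x) (2 ^ k) :=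
    Nat.Coprime.pow_right k (Nat.coprime_two_right.2 hodd)
  exact orderOf_eq_one_iff.1 (Nat.Coprime.eq_one_of_dvd hco hd)

theorem b2_odd_orderOf_mul_self {d : G} (hodd : Odd (orderOf d)) : Odd (orderOf (d * d)) := by
  have h : orderOf (d * d) ∣ orderOf d := by
    rw [← sq]; exact orderOf_pow_dvd 2
  exact Odd.of_dvd_nat hodd h

theorem b2_eq_one_of_mul_self_eq_one {d : G} (hodd : Odd (orderOf d)) (h : d * d = 1) : d = 1 := by
  apply eq_one_of_eq_inv_of_odd _ hodd
  exact eq_inv_of_mul_eq_one_left h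

/-- an element of even order has a power which is an involution -/
theorem b2_exists_pow_invol {x : G} (h : ¬ Odd (orderOf x)) : ∃ k : ℕ, orderOf (x ^ k) = 2 := by
  rw [Nat.not_odd_iff_even] at h
  obtain ⟨k, hk⟩ := h
  have h0 : 0 < orderOf x := orderOf_pos x
  have hk0 : 0 < k := by omega
  refine ⟨k, ?_⟩
  rw [orderOf_pow' x hk0.ne', hk]
  have hg : Nat.gcd (k + k) k = k := by simp
  rw [hg]
  exact Nat.div_eq_of_eq_mul_left hk0 (by ring)

/-- conjugation by `u` maps the centralizer of an element inverted by `u` into itself -/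
theorem b2_conj_mem_centralizer {d u x : G} (hinv : u * d * u⁻¹ = d⁻¹)
    (hx : x ∈ centralizer ({d} : Set G)) : u * x * u⁻¹ ∈ centralizer ({d} : Set G) := by
  rw [mem_centralizer_iff] at hx ⊢
  intro h hh
  rw [Set.mem_singleton_iff] at hh
  subst hh
  have h1 : Commute x h := (hx h rfl).symm
  have h2 : Commute (u * x * u⁻¹) (u * h * u⁻¹) := (Commute.conj_iff u).2 h1
  rw [hinv] at h2
  exact (Commute.inv_right_iff.1 h2).symm.eq

theorem b2_mem_centralizer_singleton {d x : G} :
    x ∈ centralizer ({d} : Set G) ↔ d * x = x * d := by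
  rw [mem_centralizer_iff]
  constructor
  · intro h; exact h d rfl
  · intro h y hy
    rw [Set.mem_singleton_iff] at hy
    subst hy; exact h

theorem b2_inv_conj {d u : G} (hu : orderOf u = 2) (hinv : u * d * u⁻¹ = d⁻¹) :
    u⁻¹ * d * u = d⁻¹ := by
  have hui := inv_eq_self_of_orderOf_two hu
  have : u⁻¹ * d * u = u * d * u⁻¹ := by rw [hui]
  rw [this, hinv]

/-! ## the context: Part A facts and K-B1 as hypotheses -/

section core

variable (hG : Hyp G) (hloc : Loc G) (S : Sylow 2 G) (hS : (S : Subgroup G) ≠ ⊥)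
  (hA2 : ∀ t : G, orderOf t = 2 → t ∈ (S : Subgroup G) →
    centralizer ({t} : Set G) = centralizer ((S : Subgroup G) : Set G))
  (hA4 : ∀ g x : G, x ∈ (S : Subgroup G) → x ≠ 1 → g * x * g⁻¹ ∈ (S : Subgroup G) →
    g ∈ normalizer ((S : Subgroup G) : Set G))
  (hA6 : ∀ t : G, orderOf t = 2 → t ∈ normalizer ((S : Subgroup G) : Set G) →
    t ∈ (S : Subgroup G))
  (hA8 : ∀ g : G, g ∉ normalizer ((S : Subgroup G) : Set G) →
    ∀ d ∈ normalizer ((S : Subgroup G) : Set G) ⊓ lc g (normalizer ((S : Subgroup G) : Set G)),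
      Odd (orderOf d))
  (hA12 : ∀ g : G, g ∉ normalizer ((S : Subgroup G) : Set G) →
    ∃ u : G, orderOf u = 2 ∧ u ∉ normalizer ((S : Subgroup G) : Set G) ∧
      g⁻¹ * u ∈ normalizer ((S : Subgroup G) : Set G))
  (hA14 : ∀ a ∈ centralizer ((S : Subgroup G) : Set G), Odd (orderOf a) → a ≠ 1 →
    centralizer ({a} : Set G) ≤ normalizer ((S : Subgroup G) : Set G))
  (hB1a : ∀ g : G, g ∉ normalizer ((S : Subgroup G) : Set G) →
    ∀ c ∈ centralizer ((S : Subgroup G) : Set G),
      c ∈ lc g (normalizer ((S : Subgroup G) : Set G)) → c = 1)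
  (hB1b : ∀ u : G, orderOf u = 2 → u ∉ normalizer ((S : Subgroup G) : Set G) →
    (∀ d ∈ normalizer ((S : Subgroup G) : Set G) ⊓ lc u (normalizer ((S : Subgroup G) : Set G)),
      u * d * u⁻¹ = d⁻¹) ∧
    (∀ a ∈ normalizer ((S : Subgroup G) : Set G) ⊓ lc u (normalizer ((S : Subgroup G) : Set G)),
      ∀ b ∈ normalizer ((S : Subgroup G) : Set G) ⊓ lc u (normalizer ((S : Subgroup G) : Set G)),
        a * b = b * a) ∧
    (∀ h ∈ normalizer ((S : Subgroup G) : Set G), ∃ c ∈ centralizer ((S : Subgroup G) : Set G),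
      ∃ d ∈ normalizer ((S : Subgroup G) : Set G) ⊓
        lc u (normalizer ((S : Subgroup G) : Set G)), h = d * c))

/-! ## step (i): the centralizer of `d` has no involution -/

include hG hloc hS hA2 hA4 hA6 hA14 in
theorem b2_no_invol_aux {d u w : G} (hdodd : Odd (orderOf d)) (hd1 : d ≠ 1)
    (hu : orderOf u = 2) (hinv : u * d * u⁻¹ = d⁻¹) (hw : orderOf w = 2)
    (hwS : w ∈ (S : Subgroup G)) (hwd : w * d = d * w) : False := by
  have hdC : d ∈ centralizer ((S : Subgroup G) : Set G) := by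
    rw [← hA2 w hw hwS, b2_mem_centralizer_singleton]
    exact hwd
  have hCd : centralizer ({d} : Set G) ≤ normalizer ((S : Subgroup G) : Set G) :=
    hA14 d hdC hdodd hd1
  have hwCd : w ∈ centralizer ({d} : Set G) := by
    rw [b2_mem_centralizer_singleton]; exact hwd.symm
  have h1 : u * w * u⁻¹ ∈ normalizer ((S : Subgroup G) : Set G) :=
    hCd (b2_conj_mem_centralizer hinv hwCd)
  have h2 : u * w * u⁻¹ ∈ (S : Subgroup G) :=
    hA6 _ (by rw [orderOf_conj_eq, hw]) h1
  have h3 : u ∈ normalizer ((S : Subgroup G) : Set G) :=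
    hA4 u w hwS (ne_one_of_orderOf_two hw) h2
  have h4 : u ∈ (S : Subgroup G) := hA6 u hu h3
  have h5 : u * d = d * u := by
    rw [mem_centralizer_iff] at hdC
    exact hdC u h4
  have h6 : u * d * u⁻¹ = d := by rw [h5]; group
  rw [h6] at hinv
  exact hd1 (eq_one_of_eq_inv_of_odd hinv hdodd)

include hG hloc hS hA2 hA4 hA6 hA14 in
theorem b2_no_invol {d u w : G} (hdodd : Odd (orderOf d)) (hd1 : d ≠ 1)
    (hu : orderOf u = 2) (hinv : u * d * u⁻¹ = d⁻¹) (hw : orderOf w = 2)
    (hwd : w * d = d * w) : False := by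
  have hQ : IsPGroup 2 (zpowers w) := by
    apply IsPGroup.of_card (n := 1)
    rw [Nat.card_zpowers, hw]; norm_num
  obtain ⟨g, hg⟩ := exists_lc_le_sylow S hQ
  have hwS : g * w * g⁻¹ ∈ (S : Subgroup G) := hg (conj_mem_lc (mem_zpowers w))
  refine b2_no_invol_aux hG hloc S hS hA2 hA4 hA6 hA14
    (d := g * d * g⁻¹) (u := g * u * g⁻¹) (w := g * w * g⁻¹)
    (by rw [orderOf_conj_eq]; exact hdodd) ?_ (by rw [orderOf_conj_eq, hu]) ?_
    (by rw [orderOf_conj_eq, hw]) hwS ?_
  · intro h
    apply hd1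
    have : d = g⁻¹ * (g * d * g⁻¹) * g := by group
    rw [this, h]; group
  · have : g * u * g⁻¹ * (g * d * g⁻¹) * (g * u * g⁻¹)⁻¹ = g * (u * d * u⁻¹) * g⁻¹ := by group
    rw [this, hinv]; group
  · have : g * w * g⁻¹ * (g * d * g⁻¹) = g * (w * d) * g⁻¹ := by group
    rw [this, hwd]; group

/-! ## step (ii): `u` acts without fixed points on the centralizer of `d` -/

include hloc in
theorem b2_fpf {d u x : G} (hdodd : Odd (orderOf d)) (hd1 : d ≠ 1)
    (hu : orderOf u = 2) (hinv : u * d * u⁻¹ = d⁻¹) (hxd : d * x = x * d)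
    (hxu : u * x = x * u) (hxodd : Odd (orderOf x)) (hx1 : x ≠ 1) : False := by
  have hui := inv_eq_self_of_orderOf_two hu
  have huu := mul_self_of_orderOf_two hu
  have h1 := hloc u hu x (b2_mem_centralizer_singleton.2 hxu) hxodd hx1
  have h2 : d ∈ centralizer ({x} : Set G) := b2_mem_centralizer_singleton.2 hxd.symm
  have h3 := h1 h2
  rw [mem_normalizer_iff] at h3
  have h4 : d * u * d⁻¹ ∈ centralizer ({u} : Set G) :=
    (h3 u).1 (b2_mem_centralizer_singleton.2 rfl)
  rw [b2_mem_centralizer_singleton] at h4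
  -- d u d⁻¹ = d d u
  have h5 : d * u * d⁻¹ = d * d * u := by
    have : u * d⁻¹ * u⁻¹ = d := by
      have := congrArg Inv.inv hinv
      simpa [mul_assoc] using this
    calc d * u * d⁻¹ = d * (u * d⁻¹ * u⁻¹) * u := by group
      _ = d * d * u := by rw [this]
  rw [h5] at h4
  -- u commutes with d d
  have h6 : u * (d * d) = (d * d) * u := by
    have : u * (d * d * u) * u = d * d * u * u * u := by rw [h4]
    calc u * (d * d) = u * (d * d * u) * u := by
            rw [show u * (d * d * u) * u = u * (d * d) * (u * u) by group, huu, mul_one]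
      _ = d * d * u * u * u := this
      _ = d * d * u := by rw [show d * d * u * u * u = d * d * u * (u * u) by group, huu, mul_one]
  have h7 : u * (d * d) * u⁻¹ = (d * d)⁻¹ := by
    have : u * (d * d) * u⁻¹ = (u * d * u⁻¹) * (u * d * u⁻¹) := by group
    rw [this, hinv]; group
  have h8 : u * (d * d) * u⁻¹ = d * d := by rw [h6]; group
  rw [h8] at h7
  have h9 : d * d = 1 := eq_one_of_eq_inv_of_odd h7 (b2_odd_orderOf_mul_self hdodd)
  exact hd1 (b2_eq_one_of_mul_self_eq_one hdodd h9)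

include hG hloc hS hA2 hA4 hA6 hA14 in
/-- every element of `C_G(d)` has odd order -/
theorem b2_odd_of_mem_centralizer {d u x : G} (hdodd : Odd (orderOf d)) (hd1 : d ≠ 1)
    (hu : orderOf u = 2) (hinv : u * d * u⁻¹ = d⁻¹) (hx : x ∈ centralizer ({d} : Set G)) :
    Odd (orderOf x) := by
  by_contra hne
  obtain ⟨k, hk⟩ := b2_exists_pow_invol hne
  have hxk : x ^ k ∈ centralizer ({d} : Set G) := pow_mem hx k
  rw [b2_mem_centralizer_singleton] at hxk
  exact b2_no_invol hG hloc S hS hA2 hA4 hA6 hA14 hdodd hd1 hu hinv hk hxk.symm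

include hG hloc hS hA2 hA4 hA6 hA14 in
/-- every element of `C_G(d)` is inverted by `u` -/
theorem b2_inverted {d u : G} (hdodd : Odd (orderOf d)) (hd1 : d ≠ 1)
    (hu : orderOf u = 2) (hinv : u * d * u⁻¹ = d⁻¹) :
    ∀ x ∈ centralizer ({d} : Set G), u * x * u⁻¹ = x⁻¹ := by
  apply b2_inverts_of_fpf _ u (mul_self_of_orderOf_two hu)
  · intro k hk; exact b2_conj_mem_centralizer hinv hk
  · intro k hk hfix
    by_contra hk1
    have hodd := b2_odd_of_mem_centralizer hG hloc S hS hA2 hA4 hA6 hA14 hdodd hd1 hu hinv hk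
    have hku : u * k = k * u := by
      calc u * k = (u * k * u⁻¹) * u := by group
        _ = k * u := by rw [hfix]
    exact b2_fpf hloc hdodd hd1 hu hinv (b2_mem_centralizer_singleton.1 hk) hku hodd hk1

/-! ## step (iv): no involution of `H` inverts `d` -/

include hA6 in
theorem b2_no_invol_inverts {d w : G} (hdodd : Odd (orderOf d)) (hd1 : d ≠ 1)
    (hdH : d ∈ normalizer ((S : Subgroup G) : Set G)) (hw : orderOf w = 2)
    (hwH : w ∈ normalizer ((S : Subgroup G) : Set G)) (hinv : w * d * w⁻¹ = d⁻¹) : False := by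
  have hwS : w ∈ (S : Subgroup G) := hA6 w hw hwH
  have h1 : d * w * d⁻¹ ∈ (S : Subgroup G) := (mem_normalizer_iff.1 hdH w).1 hwS
  have h2 : d * w * d⁻¹ * w⁻¹ ∈ (S : Subgroup G) := mul_mem h1 (inv_mem hwS)
  have h3 : d * w * d⁻¹ * w⁻¹ = d * d := by
    have : w * d⁻¹ * w⁻¹ = d := by
      have := congrArg Inv.inv hinv
      simpa [mul_assoc] using this
    calc d * w * d⁻¹ * w⁻¹ = d * (w * d⁻¹ * w⁻¹) := by group
      _ = d * d := by rw [this]
  rw [h3] at h2
  have h4 := b2_eq_one_of_odd_of_mem S (b2_odd_orderOf_mul_self hdodd) h2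
  exact hd1 (b2_eq_one_of_mul_self_eq_one hdodd h4)

/-! ## the main theorem -/

include hG hloc hS hA2 hA4 hA6 hA8 hA12 hA14 hB1a hB1b in
/-- K-B2 (core form): a nonidentity element `d` of `D = H ∩ uHu⁻¹` has `C_G(d) = D` and fixes
exactly the two cosets `H` and `uH`. -/
theorem centralizer_twoPoint_core {u : G}
    (hu : orderOf u = 2) (huH : u ∉ normalizer ((S : Subgroup G) : Set G)) {d : G}
    (hd : d ∈ normalizer ((S : Subgroup G) : Set G) ⊓
      lc u (normalizer ((S : Subgroup G) : Set G))) (hd1 : d ≠ 1) :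
    centralizer ({d} : Set G) = normalizer ((S : Subgroup G) : Set G) ⊓
        lc u (normalizer ((S : Subgroup G) : Set G)) ∧
    ∀ g : G, g⁻¹ * d * g ∈ normalizer ((S : Subgroup G) : Set G) →
      g ∈ normalizer ((S : Subgroup G) : Set G) ∨
        u⁻¹ * g ∈ normalizer ((S : Subgroup G) : Set G) := by
  have hui := inv_eq_self_of_orderOf_two hu
  have huu := mul_self_of_orderOf_two hu
  obtain ⟨hDinv, hDab, hHDC⟩ := hB1b u hu huH
  have hdodd : Odd (orderOf d) := hA8 u huH d hd
  have hinv : u * d * u⁻¹ = d⁻¹ := hDinv d hd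
  have hinv' : u⁻¹ * d * u = d⁻¹ := b2_inv_conj hu hinv
  have hdH : d ∈ normalizer ((S : Subgroup G) : Set G) := hd.1
  have hCinv := b2_inverted hG hloc S hS hA2 hA4 hA6 hA14 hdodd hd1 hu hinv
  have hCH : centralizer ((S : Subgroup G) : Set G) ≤ normalizer ((S : Subgroup G) : Set G) :=
    centralizer_le_normalizer _
  -- (iii) C ∩ C_G(d) = 1
  have hiii : ∀ x ∈ centralizer ((S : Subgroup G) : Set G), x ∈ centralizer ({d} : Set G) →
      x = 1 := by
    intro x hxC hxd
    apply hB1a u huH x hxC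
    rw [mem_lc]
    have : u⁻¹ * x * u = x⁻¹ := by
      have := hCinv x hxd
      rw [hui]; rw [hui] at this; exact this
    rw [this]
    exact hCH (inv_mem hxC)
  -- (iii') C_H(d) ≤ D
  have hiii' : ∀ h ∈ normalizer ((S : Subgroup G) : Set G), h ∈ centralizer ({d} : Set G) →
      h ∈ normalizer ((S : Subgroup G) : Set G) ⊓
        lc u (normalizer ((S : Subgroup G) : Set G)) := by
    intro h hhH hhd
    obtain ⟨c, hc, d', hd', rfl⟩ := hHDC h hhH
    have hd'd : d' ∈ centralizer ({d} : Set G) :=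
      b2_mem_centralizer_singleton.2 (hDab d hd d' hd')
    have hcd : c ∈ centralizer ({d} : Set G) := by
      have : c = d'⁻¹ * (d' * c) := by group
      rw [this]
      exact mul_mem (inv_mem hd'd) hhd
    rw [hiii c hc hcd, mul_one]
    exact hd'
  -- (v)
  have hv : ∀ g : G, g ∉ normalizer ((S : Subgroup G) : Set G) →
      g⁻¹ * d * g ∈ normalizer ((S : Subgroup G) : Set G) →
      ∃ c ∈ centralizer ({d} : Set G), g⁻¹ * (c * u) ∈ normalizer ((S : Subgroup G) : Set G) := by
    intro g hg hgd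
    obtain ⟨w, hw, hwH, hgw⟩ := hA12 g hg
    have hdw : d ∈ normalizer ((S : Subgroup G) : Set G) ⊓
        lc w (normalizer ((S : Subgroup G) : Set G)) := by
      rw [Subgroup.mem_inf]
      refine ⟨hdH, ?_⟩
      rw [mem_lc]
      have : w⁻¹ * d * w = (g⁻¹ * w)⁻¹ * (g⁻¹ * d * g) * (g⁻¹ * w) := by group
      rw [this]
      exact mul_mem (mul_mem (inv_mem hgw) hgd) hgw
    obtain ⟨hDwinv, -, -⟩ := hB1b w hw hwH
    have hwinv : w * d * w⁻¹ = d⁻¹ := hDwinv d hdw
    refine ⟨w * u⁻¹, ?_, ?_⟩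
    · rw [b2_mem_centralizer_singleton]
      have h1 : w * u⁻¹ * d * (w * u⁻¹)⁻¹ = d := by
        have : w * u⁻¹ * d * (w * u⁻¹)⁻¹ = w * (u⁻¹ * d * u) * w⁻¹ := by group
        rw [this, hinv']
        have := congrArg Inv.inv hwinv
        simpa [mul_assoc] using this
      calc d * (w * u⁻¹) = (w * u⁻¹ * d * (w * u⁻¹)⁻¹) * (w * u⁻¹) := by rw [h1]
        _ = w * u⁻¹ * d := by group
    · have : g⁻¹ * (w * u⁻¹ * u) = g⁻¹ * w := by group
      rw [this]; exact hgw
  -- (vi)
  have hvi : ∀ c ∈ centralizer ({d} : Set G), c * u ∉ normalizer ((S : Subgroup G) : Set G) := by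
    intro c hc hcu
    have hcinv : u * c * u⁻¹ = c⁻¹ := hCinv c hc
    have hsq : (c * u) * (c * u) = 1 := by
      have : (c * u) * (c * u) = c * (u * c * u⁻¹) * (u * u) := by group
      rw [this, hcinv, huu]; group
    have hne : c * u ≠ 1 := by
      intro h
      have hcu' : u = c⁻¹ := eq_inv_of_mul_eq_one_right h
      have : u ∈ centralizer ({d} : Set G) := by rw [hcu']; exact inv_mem hc
      rw [b2_mem_centralizer_singleton] at this
      have h6 : u * d * u⁻¹ = d := by rw [← this]; group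
      rw [h6] at hinv
      exact hd1 (eq_one_of_eq_inv_of_odd hinv hdodd)
    have hord : orderOf (c * u) = 2 := by
      apply orderOf_eq_prime
      · rw [sq]; exact hsq
      · exact hne
    have hcd : c * d * c⁻¹ = d := by
      have := b2_mem_centralizer_singleton.1 hc
      rw [← this]; group
    have hcd' : c * d⁻¹ * c⁻¹ = d⁻¹ := by
      have := congrArg Inv.inv hcd
      simpa [mul_assoc] using this
    have hinv2 : (c * u) * d * (c * u)⁻¹ = d⁻¹ := by
      have : (c * u) * d * (c * u)⁻¹ = c * (u * d * u⁻¹) * c⁻¹ := by group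
      rw [this, hinv, hcd']
    exact b2_no_invol_inverts S hA6 hdodd hd1 hdH hord hcu hinv2
  -- (vii)
  have hvii : centralizer ({d} : Set G) ≤ normalizer ((S : Subgroup G) : Set G) := by
    intro c hc
    by_contra hcH
    have hcd : c⁻¹ * d * c = d := by
      have := b2_mem_centralizer_singleton.1 hc
      calc c⁻¹ * d * c = c⁻¹ * (d * c) := by group
        _ = c⁻¹ * (c * d) := by rw [this]
        _ = d := by group
    obtain ⟨c', hc', hmem⟩ := hv c hcH (by rw [hcd]; exact hdH)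
    have : c⁻¹ * (c' * u) = (c⁻¹ * c') * u := by group
    rw [this] at hmem
    exact hvi _ (mul_mem (inv_mem hc) hc') hmem
  have hCD : centralizer ({d} : Set G) = normalizer ((S : Subgroup G) : Set G) ⊓
        lc u (normalizer ((S : Subgroup G) : Set G)) := by
    apply le_antisymm
    · intro c hc
      exact hiii' c (hvii hc) hc
    · intro c hc
      exact b2_mem_centralizer_singleton.2 (hDab d hd c hc)
  refine ⟨hCD, ?_⟩
  intro g hgd
  by_cases hg : g ∈ normalizer ((S : Subgroup G) : Set G)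
  · exact Or.inl hg
  · right
    obtain ⟨c, hc, hmem⟩ := hv g hg hgd
    rw [hCD] at hc
    have h1 : u⁻¹ * c * u ∈ normalizer ((S : Subgroup G) : Set G) := mem_lc.1 hc.2
    have : u⁻¹ * g = (u⁻¹ * c * u) * (g⁻¹ * (c * u))⁻¹ := by group
    rw [this]
    exact mul_mem h1 (inv_mem hmem)

end core

end Cfsg.Agent.Lib.Helper12.AIC
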