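import Mathlib
import Cfsg.Prelude.Def_Involutions
import Cfsg.Agent.Lib.Helper60.AICDefs
import Cfsg.Agent.Lib.Helper28.StronglyEmbedded
import Cfsg.Agent.Lib.Helper12.AICB2Core
import Cfsg.Agent.Lib.Helper60.AICBasic
import Cfsg.Agent.Lib.Helper45.AICB1

/-!
# S2202, keystone K-B2: the centralizer of a nonidentity element of a two-point stabilizer
-/

set_option autoImplicit false

namespace Cfsg.Agent.Lib.Helper12.AIC

open Subgroup Cfsg Cfsg.Agent.Lib.Helper60.AIC Cfsg.Agent.Lib.Helper41 Cfsg.Agent.Lib.Helper28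
open Cfsg.Agent.Lib.Helper45.AIC

universe u

variable {G : Type u} [Group G] [Finite G]

theorem b2_ne_bot (S : Sylow 2 G) (hnc : ¬ IsCyclic (S : Subgroup G)) :
    (S : Subgroup G) ≠ ⊥ := by
  intro h
  apply hnc
  rw [h]
  infer_instance

/-- K-B2: a nonidentity element `d` of `D = H ∩ uHu⁻¹` has `C_G(d) = D` and fixes exactly the two
cosets `H` and `uH`. -/
theorem centralizer_twoPoint (hG : Hyp G) (hloc : Loc G) (S : Sylow 2 G)
    (hnc : ¬ IsCyclic (S : Subgroup G)) (hnn : ¬ (S : Subgroup G).Normal) {u : G}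
    (hu : orderOf u = 2) (huH : u ∉ normalizer ((S : Subgroup G) : Set G)) {d : G}
    (hd : d ∈ normalizer ((S : Subgroup G) : Set G) ⊓
      lc u (normalizer ((S : Subgroup G) : Set G))) (hd1 : d ≠ 1) :
    centralizer ({d} : Set G) = normalizer ((S : Subgroup G) : Set G) ⊓
        lc u (normalizer ((S : Subgroup G) : Set G)) ∧
    ∀ g : G, g⁻¹ * d * g ∈ normalizer ((S : Subgroup G) : Set G) →
      g ∈ normalizer ((S : Subgroup G) : Set G) ∨
        u⁻¹ * g ∈ normalizer ((S : Subgroup G) : Set G) := by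
  have hS := b2_ne_bot S hnc
  exact centralizer_twoPoint_core hG hloc S hS
    (fun t ht hts => centralizer_eq hG S ht hts)
    (fun g x hx hx1 hg => mem_normalizer_of_conj_mem hG S hx hx1 hg)
    (fun t ht htH => invol_mem S ht htH)
    (fun g hg d hd => odd_orderOf_of_mem_inf hG S hS hnn hg hd)
    (fun g hg => exists_invol_coset hG S hS hnn hg)
    (fun a ha hodd ha1 => by
      have := loc_conj hG hloc S hS 1 (a := a) (by rw [b2_lc_one]; exact ha) hodd ha1
      rwa [b2_lc_one] at this)
    (fun g hg c hc hcg => centralizer_inf_conj hG hloc S hnc hnn hg hc hcg)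
    (fun u hu huH => (twoPoint_facts hG hloc S hnc hnn hu huH).2)
    hu huH hd hd1

end Cfsg.Agent.Lib.Helper12.AIC
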