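import Mathlib
import Cfsg.Agent.S1350
import Cfsg.Agent.S1351
import Cfsg.Agent.S1352
import Cfsg.Agent.S1354
import Cfsg.Agent.S1364
import Cfsg.Agent.S1372
import Cfsg.Agent.S1431
import Cfsg.Agent.Lib.Helper16.BG1376Defs
import Cfsg.Agent.Lib.Helper31.FittingHall
import Cfsg.Agent.Lib.Helper33.CNFrob
import Cfsg.Agent.Lib.Helper60.BG151A
import Cfsg.Agent.Lib.Helper64.BG1363H

/-!
# S1376 (BG 15.8), leaf L-Q: the normal Sylow `k`-subgroup `Q_k` of the partner `T = N*`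
(`k = |K|`): `T ≤ N(Q_k)`, `K ≤ Q_k ≤ T_σ`, and `Q_k ≰ M` (S1364 for `T` + S1431 clause 3).
-/

set_option autoImplicit false
set_option linter.unusedVariables false
set_option linter.unusedSectionVars false
set_option linter.style.haveILetI false

namespace Cfsg.Agent.Lib.Helper12.BG1376

open Cfsg Subgroup Cfsg.Agent.Lib.Helper16.BG1376

variable {G : Type*} [Group G] [Finite G]

/-- `|K|` is prime in the configuration. -/
theorem conf_card_prime (hG : IsMinSimpleOddOrder G) {M N Ns K U : Subgroup G} {x : G}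
    (c : Conf M N Ns K U x) : (Nat.card K).Prime :=
  (Cfsg.Agent.S1372.result hG N c.hN K U c.hKU c.hK1 c.hU1).1

/-- `K ≤ T_σ`. -/
theorem conf_K_le_sigmaCore {M N Ns K U : Subgroup G} {x : G} (c : Conf M N Ns K U x) :
    K ≤ sigmaCore Ns := by
  have h := c.hKst
  exact h ▸ inf_le_left

/-- `M ≠ T`. -/
theorem conf_ne_star {M N Ns K U : Subgroup G} {x : G} (c : Conf M N Ns K U x) : M ≠ Ns := by
  intro h
  obtain ⟨-, hσM, hdisj, -⟩ := c.hE
  rw [← h, inf_idem] at hdisj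
  have h1 : sigmaCore M = ⊥ := by
    rw [← hdisj]
    exact (inf_eq_right.mpr hσM).symm
  apply c.hU1
  rw [eq_bot_iff, ← h1]
  exact c.hUM

/-- **L-Q** -/
theorem conf_exists_normal_sylow (hG : IsMinSimpleOddOrder G) {M N Ns K U : Subgroup G} {x : G}
    (c : Conf M N Ns K U x) :
    ∃ Qk : Subgroup G, Ns ≤ normalizer (Qk : Set G) ∧ IsPGroup (Nat.card K) Qk ∧ K ≤ Qk ∧
      Qk ≤ sigmaCore Ns ∧ ¬ Qk ≤ M := by
  classical
  have hkp : (Nat.card K).Prime := conf_card_prime hG c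
  haveI : Fact (Nat.card K).Prime := ⟨hkp⟩
  set k := Nat.card K with hk
  set Ks : Subgroup G := sigmaCore N ⊓ centralizer (K : Set G) with hKs
  have hKs1 : Ks ≠ ⊥ := (Cfsg.Agent.S1354.result hG N c.hN K c.hKU.cyclic c.hKU.hall).1
  have hKscyc : IsCyclic Ks := (Cfsg.Agent.S1351.result hG Ns c.hNs).2 Ks c.hKstH
  obtain ⟨⟨Us, hKsUs⟩, -⟩ := Cfsg.Agent.S1352.result hG Ns c.hNs Ks hKscyc c.hKstH
  have h64 := Cfsg.Agent.S1364.result hG Ns c.hNs Ks Us hKsUs hKs1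
  have hKF : K ≤ fittingHallOf Ns := by
    have := h64.2.2.1
    rw [← c.hKst] at this
    exact this
  have hKNs : K ≤ Ns := hKF.trans (Cfsg.Agent.Lib.Helper31.fittingHallOf_le Ns)
  -- the normal Sylow `k`-subgroup of `↥Ns`
  have hkF : k ∣ Nat.card (fittingHall ↥Ns) := by
    rw [← Cfsg.Agent.Lib.Helper31.card_fittingHallOf]
    exact Subgroup.card_dvd_of_le hKF
  obtain ⟨P, hPn, hP1⟩ := Cfsg.Agent.Lib.Helper60.BG151.exists_normal_sylow_of_hall
    (fittingHall ↥Ns) (Cfsg.Agent.Lib.Helper33.fittingHall_isNilpotent ↥Ns)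
    (Cfsg.Agent.Lib.Helper31.fittingHall_coprime ↥Ns) k hkF
  set Qk : Subgroup G := (P : Subgroup ↥Ns).map Ns.subtype with hQk
  have hQkNs : Qk ≤ Ns := Subgroup.map_subtype_le _
  have hQkp : IsPGroup k Qk := P.2.map _
  have hNsQ : Ns ≤ normalizer (Qk : Set G) := by
    have key : ∀ m ∈ Ns, ∀ z ∈ Qk, m * z * m⁻¹ ∈ Qk := by
      intro m hm z hz
      obtain ⟨y, hy, rfl⟩ := Subgroup.mem_map.mp hz
      refine Subgroup.mem_map.mpr ⟨⟨m, hm⟩ * y * ⟨m, hm⟩⁻¹, hPn.conj_mem y hy ⟨m, hm⟩, ?_⟩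
      simp
    intro m hm
    rw [Subgroup.mem_normalizer_iff]
    intro z
    constructor
    · exact key m hm z
    · intro h
      have := key m⁻¹ (Ns.inv_mem hm) _ h
      simpa [mul_assoc] using this
  -- `K ≤ Qk`
  have hKQ : K ≤ Qk := by
    have hKp : IsPGroup k (K.subgroupOf Ns) := by
      apply IsPGroup.of_card (n := 1)
      rw [pow_one, hk]
      exact Nat.card_congr (Subgroup.subgroupOfEquivOfLe hKNs).toEquiv
    obtain ⟨P', hP'⟩ := hKp.exists_le_sylow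
    letI := Sylow.unique_of_normal P hPn
    have : P' = P := Subsingleton.elim _ _
    subst this
    intro z hz
    exact Subgroup.mem_map.mpr ⟨⟨z, hKNs hz⟩, hP' (Subgroup.mem_subgroupOf.mpr hz), rfl⟩
  -- `Qk ≤ sigmaCore Ns`
  have hkσ : k ∣ Nat.card (sigmaCore Ns) := Subgroup.card_dvd_of_le (conf_K_le_sigmaCore c)
  have hQσ : Qk ≤ sigmaCore Ns := by
    intro z hz
    refine Cfsg.Agent.Lib.Helper64.BG1363.mem_sigmaCore_of_orderOf hG c.hNs (hQkNs hz) ?_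
    intro p hp hpz
    obtain ⟨n, hn⟩ := hQkp ⟨z, hz⟩
    have hzn : z ^ k ^ n = 1 := by simpa using congrArg Subtype.val hn
    have h1 : p ∣ k ^ n := hpz.trans (orderOf_dvd_of_pow_eq_one hzn)
    have h2 : p ∣ k := hp.dvd_of_dvd_pow h1
    have h3 : p = k := (Nat.prime_dvd_prime_iff_eq hp hkp).mp h2
    exact h3 ▸ hkσ
  refine ⟨Qk, hNsQ, hQkp, hKQ, hQσ, ?_⟩
  -- `Qk ≰ M` by S1431 clause 3 for `(Ns, Ks)`
  intro hQM
  have h31 := (Cfsg.Agent.S1431.result hG Ns c.hNs Ks c.hKstH hKs1).2.2.1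
  have hkdvd : k ∣ Nat.card ↥(sigmaCore Ns ⊓ centralizer (Ks : Set G)) := by
    rw [← c.hKst]
  -- `Qk` as a Sylow `k`-subgroup of `↥(sigmaCore Ns)`
  have hidx : ¬ k ∣ (Qk.subgroupOf (sigmaCore Ns)).index := by
    intro h
    have h1 : (Qk.subgroupOf (sigmaCore Ns)).index = Qk.relIndex (sigmaCore Ns) := rfl
    rw [h1] at h
    have h2 : Qk.relIndex (sigmaCore Ns) ∣ Qk.relIndex Ns :=
      Dvd.intro _ (Subgroup.relIndex_mul_relIndex Qk (sigmaCore Ns) Ns hQσ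
        ((Cfsg.Agent.S1350.result hG Ns c.hNs).1.1))
    have h3 : Qk.relIndex Ns = (P : Subgroup ↥Ns).index := by
      rw [hQk]
      show (((P : Subgroup ↥Ns).map Ns.subtype).comap Ns.subtype).index = _
      rw [Subgroup.comap_map_eq_self_of_injective Ns.subtype_injective]
    exact P.not_dvd_index ((h.trans h2).trans (dvd_of_eq h3))
  have hQp' : IsPGroup k (Qk.subgroupOf (sigmaCore Ns)) :=
    hQkp.of_equiv (Subgroup.subgroupOfEquivOfLe hQσ).symm
  obtain ⟨⟨L, hL⟩, -⟩ := h31 k hkp hkdvd (hQp'.toSylow hidx)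
  have hmap : ((hQp'.toSylow hidx : Sylow k ↥(sigmaCore Ns)) : Subgroup ↥(sigmaCore Ns)).map
      (sigmaCore Ns).subtype = Qk := by
    show (Qk.subgroupOf (sigmaCore Ns)).map (sigmaCore Ns).subtype = Qk
    exact Subgroup.map_subgroupOf_eq_of_le hQσ
  rw [hmap] at hL
  have h1 : M = L := hL.2 M ⟨c.hM, hQM⟩
  have h2 : Ns = L := hL.2 Ns ⟨c.hNs, hQkNs⟩
  exact conf_ne_star c (h1.trans h2.symm)

end Cfsg.Agent.Lib.Helper12.BG1376
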