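import Mathlib
import Cfsg.Agent.Lib.Helper03.FrobSub
import Cfsg.Agent.Lib.Helper29.Sup

/-!
# A Frobenius–Wielandt centralizing lemma (pure group theory), used for S1376 (BG Theorem 15.8)

`Qk` a `k`-group, `C` a subgroup normalizing it and centralizing a `k`-group `K`; `y0` of prime
order `ℓ ∤ |C|` normalizes `C` and `Qk`, and the fixed points of `y0` on `C` and on `Qk` lie in `K`.
Then every element of prime order `q ≠ k` of `C` centralizes `Qk`.
-/

set_option autoImplicit false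

namespace Cfsg.Agent.Lib.Helper12.BG1376W

open Subgroup
open scoped Pointwise

variable {G : Type*} [Group G]

/-- conjugation by an element of the normalizer, as an automorphism of the subgroup -/
noncomputable def conjAut (C : Subgroup G) (y : G) (hy : y ∈ normalizer (C : Set G)) : MulAut ↥C where
  toFun x := ⟨y * x * y⁻¹, (mem_normalizer_iff.mp hy (x : G)).mp x.2⟩
  invFun x := ⟨y⁻¹ * x * y, by
    have := (mem_normalizer_iff.mp (inv_mem hy) (x : G)).mp x.2
    simpa using this⟩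
  left_inv x := by ext; simp [mul_assoc]
  right_inv x := by ext; simp [mul_assoc]
  map_mul' a b := by ext; simp [mul_assoc]

theorem conjAut_apply (C : Subgroup G) (y : G) (hy : y ∈ normalizer (C : Set G)) (x : ↥C) :
    ((conjAut C y hy x : ↥C) : G) = y * x * y⁻¹ := rfl

theorem conjAut_pow_apply (C : Subgroup G) (y : G) (hy : y ∈ normalizer (C : Set G)) (n : ℕ)
    (x : ↥C) : (((conjAut C y hy) ^ n) x : G) = y ^ n * x * (y ^ n)⁻¹ := by
  induction n generalizing x with
  | zero => simp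
  | succ n ih =>
    rw [pow_succ, MulAut.mul_apply, ih, conjAut_apply, pow_succ]
    simp [mul_assoc]

theorem exists_invariant_sylow [Finite G] {q ℓ : ℕ} [Fact q.Prime] [hℓ : Fact ℓ.Prime]
    (C : Subgroup G) (y0 : G) (hyC : y0 ∈ normalizer (C : Set G)) (hy : orderOf y0 = ℓ)
    (hℓC : ¬ ℓ ∣ Nat.card C) :
    ∃ P : Sylow q ↥C, ∀ x ∈ P, conjAut C y0 hyC x ∈ P := by
  classical
  set φ : MulAut ↥C := conjAut C y0 hyC with hφ
  have hφℓ : φ ^ ℓ = 1 := by
    ext x
    rw [conjAut_pow_apply, ← hy, pow_orderOf_eq_one]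
    simp
  have hZ : IsPGroup ℓ ↥(zpowers φ) := by
    intro z
    refine ⟨1, ?_⟩
    obtain ⟨z, hz⟩ := z
    obtain ⟨n, rfl⟩ := mem_zpowers_iff.mp hz
    ext1
    simp only [pow_one, Subgroup.coe_pow, Subgroup.coe_one]
    rw [← zpow_natCast, ← zpow_mul, mul_comm, zpow_mul, zpow_natCast, hφℓ, one_zpow]
  have hnd : ¬ ℓ ∣ Nat.card (Sylow q ↥C) := by
    intro h
    obtain ⟨P⟩ : Nonempty (Sylow q ↥C) := inferInstance
    exact hℓC ((h.trans (Sylow.card_dvd_index P)).trans (Subgroup.index_dvd_card _))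
  obtain ⟨P, hP⟩ := hZ.nonempty_fixed_point_of_prime_not_dvd_card (Sylow q ↥C) hnd
  refine ⟨P, fun x hx => ?_⟩
  have h1 := hP ⟨φ, mem_zpowers φ⟩
  have h2 : ((⟨φ, mem_zpowers φ⟩ : ↥(zpowers φ)) • x) ∈
      ((⟨φ, mem_zpowers φ⟩ : ↥(zpowers φ)) • P : Sylow q ↥C) := by
    show _ ∈ ((⟨φ, mem_zpowers φ⟩ : ↥(zpowers φ)) • (P : Subgroup ↥C))
    exact Subgroup.smul_mem_pointwise_smul _ _ _ hx
  rw [h1] at h2
  exact h2

/-- an element lying in a `q`-group and in a `k`-group (`q ≠ k` primes) is trivial -/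
theorem eq_one_of_mem_pgroups {k q : ℕ} [Fact k.Prime] [Fact q.Prime] (hqk : q ≠ k)
    {B K : Subgroup G} (hB : IsPGroup q B) (hK : IsPGroup k K) {u : G} (huB : u ∈ B)
    (huK : u ∈ K) : u = 1 := by
  obtain ⟨n, hn⟩ := hB ⟨u, huB⟩
  obtain ⟨m, hm⟩ := hK ⟨u, huK⟩
  have hn' : u ^ q ^ n = 1 := by simpa using congrArg Subtype.val hn
  have hm' : u ^ k ^ m = 1 := by simpa using congrArg Subtype.val hm
  have h1 := orderOf_dvd_of_pow_eq_one hn'
  have h2 := orderOf_dvd_of_pow_eq_one hm'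
  have hc : Nat.Coprime (q ^ n) (k ^ m) :=
    Nat.Coprime.pow _ _ ((Nat.coprime_primes Fact.out Fact.out).mpr hqk)
  exact orderOf_eq_one_iff.mp (Nat.eq_one_of_dvd_coprimes hc h1 h2)

/-- **Frobenius–Wielandt centralizing lemma.** -/
theorem mem_centralizer_of_wielandt [Finite G] {k q ℓ : ℕ} [Fact k.Prime] [Fact q.Prime]
    [Fact ℓ.Prime] (hqk : q ≠ k) (hℓk : ℓ ≠ k) (Qk C K : Subgroup G) (y0 : G)
    (hQk : IsPGroup k Qk) (hK : IsPGroup k K)
    (hCQ : C ≤ normalizer (Qk : Set G)) (hyQ : y0 ∈ normalizer (Qk : Set G))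
    (hyC : y0 ∈ normalizer (C : Set G)) (hy : orderOf y0 = ℓ) (hℓC : ¬ ℓ ∣ Nat.card C)
    (hCK : C ≤ centralizer (K : Set G))
    (hfixC : ∀ c ∈ C, y0 * c = c * y0 → c ∈ K)
    (hfixQ : ∀ z ∈ Qk, y0 * z = z * y0 → z ∈ K)
    (a : G) (haC : a ∈ C) (haq : orderOf a = q) : a ∈ centralizer (Qk : Set G) := by
  classical
  have hℓp : ℓ.Prime := Fact.out
  have hqp : q.Prime := Fact.out
  have hkp : k.Prime := Fact.out
  obtain ⟨P, hP⟩ := exists_invariant_sylow (q := q) C y0 hyC hy hℓC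
  set B : Subgroup G := (P : Subgroup ↥C).map C.subtype with hB
  set Y : Subgroup G := zpowers y0 with hY
  have hBC : B ≤ C := by
    rintro _ ⟨x, -, rfl⟩
    exact x.2
  have hBq : IsPGroup q B := P.isPGroup'.map _
  -- y0 ^ n normalizes B
  have hpow : ∀ n : ℕ, ∀ u ∈ B, y0 ^ n * u * (y0 ^ n)⁻¹ ∈ B := by
    intro n
    induction n with
    | zero => intro u hu; simpa using hu
    | succ n ih =>
      intro u hu
      obtain ⟨x, hx, hxu⟩ := ih u hu
      refine ⟨conjAut C y0 hyC x, hP x hx, ?_⟩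
      show y0 * (x : G) * y0⁻¹ = _
      have hxu' : (x : G) = y0 ^ n * u * (y0 ^ n)⁻¹ := hxu
      rw [hxu', pow_succ']
      simp [mul_assoc]
  have hfin : IsOfFinOrder y0 := isOfFinOrder_of_finite y0
  have hYpow : ∀ e ∈ Y, ∃ n : ℕ, e = y0 ^ n := by
    intro e he
    have := (hfin.mem_powers_iff_mem_zpowers).mpr he
    obtain ⟨n, hn⟩ := (Submonoid.mem_powers_iff e y0).mp this
    exact ⟨n, hn.symm⟩
  have hUn : ∀ e ∈ Y, ∀ u ∈ B, e * u * e⁻¹ ∈ B := by
    intro e he u hu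
    obtain ⟨n, rfl⟩ := hYpow e he
    exact hpow n u hu
  have hfpf : ∀ e ∈ Y, e ≠ 1 → ∀ u ∈ B, e * u = u * e → u = 1 := by
    intro e he he1 u hu hcomm
    obtain ⟨n, rfl⟩ := hYpow e he
    have hcop : n.Coprime (orderOf y0) := by
      rw [hy, Nat.coprime_comm, Nat.Prime.coprime_iff_not_dvd hℓp]
      intro hdvd
      apply he1
      rw [← hy] at hdvd
      exact orderOf_dvd_iff_pow_eq_one.mp hdvd
    obtain ⟨m, hm⟩ := exists_pow_eq_self_of_coprime hcop
    have hc : Commute (y0 ^ n) u := hcomm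
    have hc2 : Commute y0 u := by
      have := hc.pow_left m
      rwa [hm] at this
    have huK : u ∈ K := hfixC u (hBC hu) hc2
    exact eq_one_of_mem_pgroups hqk hBq hK hu huK
  have hnil : Group.IsNilpotent B := hBq.isNilpotent
  have hYQ : Y ≤ normalizer (Qk : Set G) := zpowers_le.mpr hyQ
  have hBYQ : B ⊔ Y ≤ normalizer (Qk : Set G) := sup_le (hBC.trans hCQ) hYQ
  have hHn : ∀ x ∈ B ⊔ Y, ∀ h ∈ Qk, x * h * x⁻¹ ∈ Qk := by
    intro x hx h hh
    exact (mem_normalizer_iff.mp (hBYQ hx) h).mp hh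
  have hsolv : Group.IsSolvable Qk := by
    have : Group.IsNilpotent Qk := hQk.isNilpotent
    infer_instance
  have hYB : Y ≤ normalizer (B : Set G) := by
    intro e he
    rw [mem_normalizer_iff]
    intro u
    constructor
    · exact hUn e he u
    · intro h
      have := hUn e⁻¹ (Y.inv_mem he) _ h
      simpa [mul_assoc] using this
  have hcardY : Nat.card Y = ℓ := by rw [hY, Nat.card_zpowers, hy]
  have hcop : Nat.Coprime (Nat.card Qk) (Nat.card ↥(B ⊔ Y)) := by
    obtain ⟨n, hn⟩ := hQk.exists_card_eq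
    obtain ⟨m, hm⟩ := hBq.exists_card_eq
    have hdvd := Cfsg.Agent.Lib.Helper29.card_sup_dvd_of_le_normalizer B Y hYB
    rw [hm, hcardY] at hdvd
    rw [hn]
    refine Nat.Coprime.coprime_dvd_right hdvd ?_
    apply Nat.Coprime.pow_left
    apply Nat.Coprime.mul_right
    · exact Nat.Coprime.pow_right _ ((Nat.coprime_primes hkp hqp).mpr (Ne.symm hqk))
    · exact (Nat.coprime_primes hkp hℓp).mpr (Ne.symm hℓk)
  have key := Cfsg.Agent.Lib.Helper03.FrobSub.wielandt_sub B Y Qk hUn hfpf hnil hHn hsolv hcop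
  have heq : Qk ⊓ centralizer ((B ⊔ Y : Subgroup G) : Set G) = Qk ⊓ centralizer (Y : Set G) := by
    apply le_antisymm
    · exact inf_le_inf_left _ (centralizer_le (by exact_mod_cast (le_sup_right : Y ≤ B ⊔ Y)))
    · intro z hz
      obtain ⟨hzQ, hzY⟩ := mem_inf.mp hz
      refine mem_inf.mpr ⟨hzQ, ?_⟩
      have hy0z : y0 * z = z * y0 := by
        have := mem_centralizer_iff.mp hzY y0 (mem_zpowers y0)
        exact this
      have hzK : z ∈ K := hfixQ z hzQ hy0z
      have hle : B ⊔ Y ≤ centralizer ({z} : Set G) := by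
        refine sup_le ?_ ?_
        · intro b hb
          rw [mem_centralizer_singleton_iff]
          have := mem_centralizer_iff.mp (hCK (hBC hb)) z hzK
          exact this.symm
        · intro e he
          rw [mem_centralizer_singleton_iff]
          exact mem_centralizer_iff.mp hzY e he
      rw [mem_centralizer_iff]
      intro h hh
      have := hle hh
      rw [mem_centralizer_singleton_iff] at this
      exact this
  rw [heq] at key
  have hpos : 0 < Nat.card ↥(Qk ⊓ centralizer (Y : Set G)) ^ Nat.card Y :=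
    pow_pos Nat.card_pos _
  have hcard : Nat.card Qk = Nat.card ↥(Qk ⊓ centralizer (B : Set G)) :=
    Nat.eq_of_mul_eq_mul_left hpos key
  have hQB : Qk ≤ centralizer (B : Set G) := by
    have := Subgroup.eq_of_le_of_card_ge (inf_le_left : Qk ⊓ centralizer (B : Set G) ≤ Qk)
      hcard.le
    exact this ▸ inf_le_right
  -- conjugate `a` into `B`
  set a' : ↥C := ⟨a, haC⟩ with ha'
  have hza : IsPGroup q ↥(zpowers a') := by
    apply IsPGroup.of_card (n := 1)
    rw [Nat.card_zpowers, pow_one]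
    have : orderOf a' = orderOf a := by
      rw [← Subgroup.orderOf_coe]
    rw [this, haq]
  obtain ⟨P', hP'⟩ := hza.exists_le_sylow
  obtain ⟨c, hc⟩ := MulAction.exists_smul_eq ↥C P' P
  have hcP : c * a' * c⁻¹ ∈ P := by
    have h1 : a' ∈ (P' : Subgroup ↥C) := hP' (mem_zpowers a')
    have h2 : MulAut.conj c • a' ∈ MulAut.conj c • (P' : Subgroup ↥C) :=
      Subgroup.smul_mem_pointwise_smul _ _ _ h1
    rw [← Sylow.coe_subgroup_smul, hc] at h2
    have h2' : c * a' * c⁻¹ ∈ (P : Subgroup ↥C) := by simpa using h2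
    exact h2'
  have hbB : (c : G) * a * (c : G)⁻¹ ∈ B := ⟨c * a' * c⁻¹, hcP, by simp [ha']⟩
  rw [mem_centralizer_iff]
  intro z hz
  have hz' : (c : G) * z * (c : G)⁻¹ ∈ Qk := (mem_normalizer_iff.mp (hCQ c.2) z).mp hz
  have h3 := mem_centralizer_iff.mp (hQB hz') _ hbB
  -- h3 : (c a c⁻¹) * (c z c⁻¹) = (c z c⁻¹) * (c a c⁻¹)
  have h4 : (c : G) * (z * a) * (c : G)⁻¹ = (c : G) * (a * z) * (c : G)⁻¹ := by
    have e1 : (c : G) * (z * a) * (c : G)⁻¹ = ((c : G) * z * (c : G)⁻¹) * ((c : G) * a * (c : G)⁻¹) := by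
      group
    have e2 : (c : G) * (a * z) * (c : G)⁻¹ = ((c : G) * a * (c : G)⁻¹) * ((c : G) * z * (c : G)⁻¹) := by
      group
    rw [e1, e2]
    exact h3.symm
  exact mul_left_cancel (mul_right_cancel h4)

end Cfsg.Agent.Lib.Helper12.BG1376W
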