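import Mathlib
import Cfsg.Agent.S1350
import Cfsg.Agent.S1418
import Cfsg.Agent.S1420
import Cfsg.Agent.S1430
import Cfsg.Agent.S1432
import Cfsg.Agent.Lib.Helper12.BG1376W
import Cfsg.Agent.Lib.Helper12.BG1376Q
import Cfsg.Agent.Lib.Helper13.BG12B
import Cfsg.Agent.Lib.Helper13.BG127
import Cfsg.Agent.Lib.Helper30.Generation
import Cfsg.Agent.Lib.Helper31.BenderFit
import Cfsg.Agent.Lib.Helper40.BG1435P13a
import Cfsg.Agent.Lib.Helper71.BG11a

/-!
# S1376 (BG 15.8), leaf L-T: in the configuration `Conf M N Ns K U x`, no prime `q ≠ |K|` lies in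
`τ₂(M)` (Frobenius–Wielandt argument, notes/S1376_tau2_short_helper12.md, case `q ≠ k`).
-/

set_option autoImplicit false
set_option linter.unusedVariables false
set_option linter.unusedSectionVars false
set_option linter.style.haveILetI false

namespace Cfsg.Agent.Lib.Helper12.BG1376

open Cfsg Subgroup Cfsg.Agent.Lib.Helper16.BG1376

variable {G : Type*} [Group G] [Finite G]

omit [Finite G] in
/-- what commutes with `a` commutes with every element of a subgroup of `zpowers a` -/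
theorem centralizer_singleton_le_of_le_zpowers {a : G} {B : Subgroup G} (hB : B ≤ zpowers a) :
    centralizer ({a} : Set G) ≤ centralizer (B : Set G) := by
  intro g hg
  rw [mem_centralizer_singleton_iff] at hg
  rw [mem_centralizer_iff]
  intro b hb
  obtain ⟨n, rfl⟩ := mem_zpowers_iff.mp (hB hb)
  have hc : Commute g a := hg
  exact (hc.zpow_right n).eq.symm

omit [Finite G] in
/-- normalizing two subgroups normalizes their intersection -/
theorem mem_normalizer_inf {A B : Subgroup G} {y : G} (hA : y ∈ normalizer (A : Set G))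
    (hB : y ∈ normalizer (B : Set G)) : y ∈ normalizer ((A ⊓ B : Subgroup G) : Set G) := by
  rw [mem_normalizer_iff] at hA hB ⊢
  intro h
  simp only [mem_inf]
  rw [hA h, hB h]

/-- **L-T** -/
theorem conf_false_of_tau2_ne (hG : IsMinSimpleOddOrder G) {M N Ns K U : Subgroup G} {x : G}
    (c : Conf M N Ns K U x) {q : ℕ} (hq : q ∈ tau2 M) (hqk : q ≠ Nat.card K) : False := by
  classical
  have hqp : q.Prime := hq.1
  haveI : Fact q.Prime := ⟨hqp⟩
  have hkp : (Nat.card K).Prime := conf_card_prime hG c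
  haveI : Fact (Nat.card K).Prime := ⟨hkp⟩
  have hE := c.hE
  have hHall := (Cfsg.Agent.S1350.result hG M c.hM).1
  have hHallNs := (Cfsg.Agent.S1350.result hG Ns c.hNs).1
  obtain ⟨A, hAE, hAel, hAcard⟩ :=
    Cfsg.Agent.Lib.Helper13.BG12.exists_elemAb_sq_le_compl hG c.hM hHall hq hE
  obtain ⟨⟨hEA, hXA⟩, ⟨hCA, hMNA, hnNA⟩, h3⟩ :=
    Cfsg.Agent.S1418.result hG M c.hM (M ⊓ Ns) hE q hq A ⟨hAE, hAel, hAcard⟩
  have hσ1 : sigmaCore M ≠ ⊥ := fun h => c.hU1 (eq_bot_iff.mpr (h ▸ c.hUM))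
  have hAM : A ≤ M := hAE.trans inf_le_left
  have hANs : A ≤ Ns := hAE.trans inf_le_right
  have hAσ : A ≤ normalizer (sigmaCore M : Set G) :=
    hAM.trans (Cfsg.Agent.Lib.Helper71.BG11.le_normalizer_sigmaCore M)
  have hqσ : ¬ q ∣ Nat.card (sigmaCore M) := fun h => hq.2.1 (hHall.2.1 q hqp h)
  have hAc : ∀ x ∈ A, ∀ y ∈ A, x * y = y * x := by
    intro x hx y hy
    have := hAel.1
    exact congrArg Subtype.val (this.is_comm.comm ⟨x, hx⟩ ⟨y, hy⟩)
  -- coprime generation: a subgroup `B` of order `q` of `A` with fixed points on `M_σ`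
  obtain ⟨B, hBA, hBidx, hBfix⟩ : ∃ B : Subgroup G, B ≤ A ∧ B.relIndex A = q ∧
      sigmaCore M ⊓ centralizer (B : Set G) ≠ ⊥ := by
    by_contra hcon
    push Not at hcon
    have := Cfsg.Agent.Lib.Helper30.coprime_generation q A hAc hAel.2 (by rw [hAcard])
      (sigmaCore M) hAσ hqσ ⊥ (fun B hBA hB => (hcon B hBA hB).le)
    exact hσ1 (eq_bot_iff.mpr this)
  have hBcard : Nat.card B = q := by
    have h1 : Nat.card B * B.relIndex A = Nat.card A := by
      rw [← Subgroup.relIndex_bot_left, ← Subgroup.relIndex_bot_left]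
      exact Subgroup.relIndex_mul_relIndex _ _ _ bot_le hBA
    rw [hBidx, hAcard, pow_two] at h1
    exact Nat.eq_of_mul_eq_mul_right hqp.pos h1
  obtain ⟨hCBM, hBuniq⟩ := h3 B hBA hBcard hBfix
  -- a generator `a` of `B`
  have hB1 : B ≠ ⊥ := by
    intro h
    rw [h, Subgroup.card_bot] at hBcard
    exact hqp.one_lt.ne hBcard
  obtain ⟨a', ha'⟩ := Subgroup.ne_bot_iff_exists_ne_one.mp hB1
  obtain ⟨a, haB, ha1⟩ : ∃ a ∈ B, a ≠ 1 := ⟨(a' : G), a'.2, fun h => ha' (Subtype.ext h)⟩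
  have haA : a ∈ A := hBA haB
  have haq : orderOf a = q := orderOf_eq_prime (hAel.2 a haA) ha1
  have hBz : B ≤ zpowers a := by
    have hle : zpowers a ≤ B := zpowers_le.mpr haB
    have hc : Nat.card B ≤ Nat.card (zpowers a) := by rw [Nat.card_zpowers, haq, hBcard]
    exact (Subgroup.eq_of_le_of_card_ge hle hc).ge
  have hCaM : centralizer ({a} : Set G) ≤ M :=
    (centralizer_singleton_le_of_le_zpowers hBz).trans hCBM
  have haNs : a ∈ Ns := hANs haA
  -- `a` centralizes `K`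
  have haK : a ∈ centralizer (K : Set G) := by
    have hFnil := Cfsg.Agent.Lib.Helper31.BenderFit.fittingOf_isNilpotent (M ⊓ Ns)
    have hFle : fittingOf (M ⊓ Ns) ≤ M ⊓ Ns := Cfsg.Agent.Lib.Helper31.BenderFit.fittingOf_le' _
    have hFab : IsMulCommutative (fittingOf (M ⊓ Ns)) := by
      refine (Cfsg.Agent.S1420.result hG M c.hM (M ⊓ Ns) hE).1 _ (hFle.trans inf_le_left) hFnil ?_
      intro p hp hpd
      exact Cfsg.Agent.Lib.Helper13.BG12.complIn_prime_not_mem_sigma hHall hE p hp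
        (hpd.trans (Subgroup.card_dvd_of_le hFle))
    have hAp : IsPGroup q A := by
      intro z
      exact ⟨1, by
        apply Subtype.ext
        have := hAel.2 z.1 z.2
        simpa using this⟩
    have hAF : A ≤ fittingOf (M ⊓ Ns) :=
      Cfsg.Agent.Lib.Helper13.BG127.le_fittingOf_of_nilpotent hAE hEA hAp.isNilpotent
    rw [mem_centralizer_iff]
    intro k' hk'
    exact congrArg Subtype.val
      (hFab.is_comm.comm ⟨k', c.hKF hk'⟩ ⟨a, hAF haA⟩)
  -- `q ∈ σ(Ns)`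
  obtain ⟨k0, hk0K, hk01⟩ : ∃ k0 ∈ K, k0 ≠ 1 := by
    obtain ⟨k0, hk0⟩ := Subgroup.ne_bot_iff_exists_ne_one.mp c.hK1
    exact ⟨(k0 : G), k0.2, fun h => hk0 (Subtype.ext h)⟩
  have hk0σ : k0 ∈ sigmaCore Ns := conf_K_le_sigmaCore c hk0K
  have hak0 : a ∈ Ns ⊓ centralizer ({k0} : Set G) := by
    refine mem_inf.mpr ⟨haNs, ?_⟩
    rw [mem_centralizer_singleton_iff]
    exact (mem_centralizer_iff.mp haK k0 hk0K).symm
  have hqσNs : q ∈ sigma Ns := by
    by_contra hqn
    have hσa : ∀ p : ℕ, p.Prime → p ∣ orderOf a → p ∉ sigma Ns := by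
      intro p hp hpa
      rw [haq] at hpa
      rw [(Nat.prime_dvd_prime_iff_eq hp hqp).mp hpa]
      exact hqn
    rcases Cfsg.Agent.S1432.result hG Ns c.hNs k0 hk0σ hk01 a hak0 ha1 hσa with
      ⟨hκ, -⟩ | ⟨-, -, -, huniq⟩
    · have hqκ : q ∈ kappa Ns := hκ q hqp (haq ▸ dvd_refl _)
      obtain ⟨-, -, -, hcyc⟩ := hqκ
      have hAp : IsPGroup q (A.subgroupOf Ns) := by
        intro z
        exact ⟨1, by
          apply Subtype.ext
          apply Subtype.ext
          have := hAel.2 z.1.1 z.2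
          simpa using this⟩
      obtain ⟨P, hP⟩ := hAp.exists_le_sylow
      have hPc : IsCyclic P := (hcyc P).1
      have hAcyc : IsCyclic (A.subgroupOf Ns) := by
        have : IsCyclic ((A.subgroupOf Ns).subgroupOf (P : Subgroup ↥Ns)) :=
          Subgroup.isCyclic _
        exact (MulEquiv.isCyclic (Subgroup.subgroupOfEquivOfLe hP)).mp this
      have hAcyc' : IsCyclic A :=
        (MulEquiv.isCyclic (Subgroup.subgroupOfEquivOfLe hANs)).mp hAcyc
      exact Cfsg.Agent.Lib.Helper40.BG1435.not_isCyclic_of_elemAb_sq hqp hAel hAcard hAcyc'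
    · exact conf_ne_star c (huniq M c.hM hCaM)
  have hqdvd : q ∣ Nat.card (sigmaCore Ns) := by
    have h1 : q ∣ Nat.card Ns := by
      have := orderOf_dvd_natCard (⟨a, haNs⟩ : Ns)
      rw [Subgroup.orderOf_mk, haq] at this
      exact this
    have h2 : Nat.card (sigmaCore Ns) * (sigmaCore Ns).relIndex Ns = Nat.card Ns := by
      rw [← Subgroup.relIndex_bot_left, ← Subgroup.relIndex_bot_left]
      exact Subgroup.relIndex_mul_relIndex _ _ _ bot_le hHallNs.1
    rw [← h2] at h1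
    rcases (Nat.Prime.dvd_mul hqp).mp h1 with h | h
    · exact h
    · exact absurd h (hHallNs.2.2 q hqp hqσNs)
  have haσ : a ∈ sigmaCore Ns := by
    refine Cfsg.Agent.Lib.Helper64.BG1363.mem_sigmaCore_of_orderOf hG c.hNs haNs ?_
    intro p hp hpa
    rw [haq] at hpa
    rw [(Nat.prime_dvd_prime_iff_eq hp hqp).mp hpa]
    exact hqdvd
  -- the normal Sylow `k`-subgroup of `Ns`
  obtain ⟨Qk, hNsQ, hQkp, hKQ, hQσ, hQM⟩ := conf_exists_normal_sylow hG c
  -- an element `y0` of prime order of `K*`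
  set Ks : Subgroup G := sigmaCore N ⊓ centralizer (K : Set G) with hKs
  have hKs1 : Ks ≠ ⊥ := (Cfsg.Agent.S1354.result hG N c.hN K c.hKU.cyclic c.hKU.hall).1
  obtain ⟨ℓ, hℓ, hℓd⟩ : ∃ ℓ : ℕ, ℓ.Prime ∧ ℓ ∣ Nat.card Ks := by
    apply Nat.exists_prime_and_dvd
    intro h
    exact hKs1 (Subgroup.card_eq_one.mp h)
  haveI : Fact ℓ.Prime := ⟨hℓ⟩
  obtain ⟨y, hy⟩ := exists_prime_orderOf_dvd_card' ℓ hℓd
  set y0 : G := (y : G) with hy0
  have hy0ord : orderOf y0 = ℓ := by rw [hy0, Subgroup.orderOf_coe, hy]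
  have hy0Ks : y0 ∈ Ks := y.2
  have hy01 : y0 ≠ 1 := by
    intro h
    rw [h, orderOf_one] at hy0ord
    exact hℓ.one_lt.ne hy0ord
  have hy0Ns : y0 ∈ Ns := c.hKstH.1 hy0Ks
  have hℓκ : ℓ ∈ kappa Ns := c.hKstH.2.1 ℓ hℓ hℓd
  have hℓσ : ℓ ∉ sigma Ns := hℓκ.2.2.1
  have hkσNs : Nat.card K ∈ sigma Ns :=
    hHallNs.2.1 _ hkp (Subgroup.card_dvd_of_le (conf_K_le_sigmaCore c))
  have hℓk : ℓ ≠ Nat.card K := fun h => hℓσ (h ▸ hkσNs)
  have hfix : ∀ z ∈ sigmaCore Ns, y0 * z = z * y0 → z ∈ K := by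
    intro z hz hcomm
    have h30 := (Cfsg.Agent.S1430.result hG Ns c.hNs Ks c.hKstH hKs1).1 y0 hy0Ks hy01
    have hzmem : z ∈ sigmaCore Ns ⊓ centralizer ({y0} : Set G) := by
      refine mem_inf.mpr ⟨hz, ?_⟩
      rw [mem_centralizer_singleton_iff]
      exact hcomm.symm
    rw [h30, ← c.hKst] at hzmem
    exact hzmem
  have hNsσ := Cfsg.Agent.Lib.Helper71.BG11.le_normalizer_sigmaCore Ns
  have hy0K : y0 ∈ centralizer (K : Set G) := (mem_inf.mp hy0Ks).2
  have hyC : y0 ∈ normalizer ((sigmaCore Ns ⊓ centralizer (K : Set G) : Subgroup G) : Set G) :=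
    mem_normalizer_inf (hNsσ hy0Ns) (Subgroup.le_normalizer hy0K)
  have hℓC : ¬ ℓ ∣ Nat.card ↥(sigmaCore Ns ⊓ centralizer (K : Set G)) := by
    intro h
    exact hℓσ (hHallNs.2.1 ℓ hℓ (h.trans (Subgroup.card_dvd_of_le inf_le_left)))
  have hKp : IsPGroup (Nat.card K) K := IsPGroup.of_card (n := 1) (by rw [pow_one])
  have hcent := Cfsg.Agent.Lib.Helper12.BG1376W.mem_centralizer_of_wielandt hqk hℓk Qk
    (sigmaCore Ns ⊓ centralizer (K : Set G)) K y0 hQkp hKp
    ((inf_le_left.trans hHallNs.1).trans hNsQ) (hNsQ hy0Ns) hyC hy0ord hℓC inf_le_right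
    (fun z hz hcomm => hfix z (mem_inf.mp hz).1 hcomm)
    (fun z hz hcomm => hfix z (hQσ hz) hcomm)
    a (mem_inf.mpr ⟨haσ, haK⟩) haq
  apply hQM
  refine le_trans ?_ hCaM
  intro z hz
  rw [mem_centralizer_singleton_iff]
  exact mem_centralizer_iff.mp hcent z hz

end Cfsg.Agent.Lib.Helper12.BG1376
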