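import Mathlib
import Cfsg.Agent.Lib.Helper41.Conj

/-!
# Automizers of `p`-subgroups divisible by a prime `q`

`Aq q H`: some element of `q`-power order normalizes but does not centralize `H`; equivalently `q`
divides the order of the automizer `N_G(H)/C_G(H)` (`aq_iff_dvd`).
-/

set_option autoImplicit false
set_option linter.style.haveILetI false
set_option linter.unusedSectionVars false

namespace Cfsg.Agent.Lib.Helper12.AutQ

open Cfsg.Agent.Lib.Helper41

universe u

variable {G : Type u} [Group G]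

/-- some `q`-element normalizes `H` without centralizing it -/
def Aq (q : ℕ) (H : Subgroup G) : Prop :=
  ∃ y ∈ Subgroup.normalizer (H : Set G), y ∉ Subgroup.centralizer (H : Set G) ∧
    ∃ k : ℕ, orderOf y = q ^ k

/-- the `q`-part of an element whose `q ^ k`-th power lies in a subgroup `C` but which does not -/
theorem exists_qpart [Finite G] {q : ℕ} (hq : q.Prime) (C : Subgroup G) {y : G} {k : ℕ}
    (h1 : y ^ q ^ k ∈ C) (h2 : y ∉ C) :
    ∃ j : ℕ, y ^ j ∉ C ∧ ∃ i : ℕ, orderOf (y ^ j) = q ^ i := by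
  have ho : 0 < orderOf y := orderOf_pos y
  obtain ⟨a, m, hm, hom⟩ := Nat.exists_eq_pow_mul_and_not_dvd ho.ne' q hq.ne_one
  refine ⟨m, ?_, a, ?_⟩
  · intro hmC
    apply h2
    have hcop : Nat.Coprime m (q ^ k) := by
      apply Nat.Coprime.pow_right
      exact ((Nat.Prime.coprime_iff_not_dvd hq).mpr hm).symm
    have hg : Nat.gcd m (q ^ k) = 1 := hcop
    have hb := Nat.gcd_eq_gcd_ab m (q ^ k)
    rw [hg] at hb
    have e : y = (y ^ m) ^ (Nat.gcdA m (q ^ k)) * (y ^ q ^ k) ^ (Nat.gcdB m (q ^ k)) := by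
      rw [← zpow_natCast y m, ← zpow_natCast y (q ^ k), ← zpow_mul, ← zpow_mul, ← zpow_add]
      have : ((m : ℤ) * Nat.gcdA m (q ^ k) + ((q ^ k : ℕ) : ℤ) * Nat.gcdB m (q ^ k)) = 1 := by
        rw [← hb]; simp
      rw [this, zpow_one]
    rw [e]
    exact C.mul_mem (C.zpow_mem hmC _) (C.zpow_mem h1 _)
  · have hmd : m ∣ orderOf y := ⟨q ^ a, by rw [hom]; ring⟩
    have hm0 : m ≠ 0 := by
      rintro rfl
      rw [mul_zero] at hom
      exact ho.ne' hom
    rw [orderOf_pow_of_dvd hm0 hmd, hom, Nat.mul_div_cancel _ (Nat.pos_of_ne_zero hm0)]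

theorem aq_of_dvd [Finite G] {q : ℕ} [hq : Fact q.Prime] (H : Subgroup G)
    (h : q ∣ ((Subgroup.centralizer (H : Set G)).subgroupOf (Subgroup.normalizer (H : Set G))).index) :
    Aq q H := by
  set N := Subgroup.normalizer (H : Set G) with hN
  set C' := (Subgroup.centralizer (H : Set G)).subgroupOf N with hC'
  have hcard : q ∣ Nat.card (↥N ⧸ C') := by rwa [← Subgroup.index_eq_card]
  obtain ⟨x, hx⟩ := exists_prime_orderOf_dvd_card' q hcard
  obtain ⟨n, rfl⟩ := QuotientGroup.mk_surjective x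
  have hn1 : (n : G) ∉ Subgroup.centralizer (H : Set G) := by
    intro hc
    have : (QuotientGroup.mk n : ↥N ⧸ C') = 1 := by
      rw [QuotientGroup.eq_one_iff]; exact hc
    rw [this, orderOf_one] at hx
    exact hq.out.one_lt.ne hx
  have hn2 : (n : G) ^ q ^ 1 ∈ Subgroup.centralizer (H : Set G) := by
    have h1 : (QuotientGroup.mk n : ↥N ⧸ C') ^ q = 1 := by rw [← hx]; exact pow_orderOf_eq_one _
    have h2 : (QuotientGroup.mk (n ^ q) : ↥N ⧸ C') = 1 := by rw [QuotientGroup.mk_pow]; exact h1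
    rw [QuotientGroup.eq_one_iff] at h2
    rw [pow_one]
    exact h2
  obtain ⟨j, hj1, i, hj2⟩ := exists_qpart hq.out _ hn2 hn1
  exact ⟨(n : G) ^ j, N.pow_mem n.2 j, hj1, i, hj2⟩

theorem dvd_of_aq [Finite G] {q : ℕ} [hq : Fact q.Prime] (H : Subgroup G) (h : Aq q H) :
    q ∣ ((Subgroup.centralizer (H : Set G)).subgroupOf (Subgroup.normalizer (H : Set G))).index := by
  obtain ⟨y, hyN, hyC, k, hk⟩ := h
  set N := Subgroup.normalizer (H : Set G) with hN
  set C' := (Subgroup.centralizer (H : Set G)).subgroupOf N with hC'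
  rw [Subgroup.index_eq_card]
  have hne : (QuotientGroup.mk (⟨y, hyN⟩ : ↥N) : ↥N ⧸ C') ≠ 1 := by
    intro h1
    rw [QuotientGroup.eq_one_iff] at h1
    exact hyC h1
  have hpow : (QuotientGroup.mk (⟨y, hyN⟩ : ↥N) : ↥N ⧸ C') ^ q ^ k = 1 := by
    rw [← QuotientGroup.mk_pow]
    have : (⟨y, hyN⟩ : ↥N) ^ q ^ k = 1 := by
      apply Subtype.ext
      show y ^ q ^ k = 1
      rw [← hk]; exact pow_orderOf_eq_one y
    rw [this]; rfl
  have hdvd : orderOf (QuotientGroup.mk (⟨y, hyN⟩ : ↥N) : ↥N ⧸ C') ∣ q ^ k :=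
    orderOf_dvd_of_pow_eq_one hpow
  obtain ⟨i, _, hi⟩ := (Nat.dvd_prime_pow hq.out).mp hdvd
  have hi0 : i ≠ 0 := by
    rintro rfl
    rw [pow_zero, orderOf_eq_one_iff] at hi
    exact hne hi
  have : q ∣ orderOf (QuotientGroup.mk (⟨y, hyN⟩ : ↥N) : ↥N ⧸ C') := by
    rw [hi]; exact dvd_pow_self q hi0
  exact this.trans (orderOf_dvd_natCard _)

/-- conjugation invariance -/
theorem aq_lc {q : ℕ} {H : Subgroup G} (g : G) (h : Aq q H) : Aq q (lc g H) := by
  obtain ⟨y, hyN, hyC, k, hk⟩ := h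
  refine ⟨g * y * g⁻¹, ?_, ?_, k, ?_⟩
  · rw [normalizer_lc]
    exact conj_mem_lc hyN
  · intro hc
    apply hyC
    rw [Subgroup.mem_centralizer_iff] at hc ⊢
    intro h hh
    have := hc (g * h * g⁻¹) (conj_mem_lc hh)
    have e1 : g * h * g⁻¹ * (g * y * g⁻¹) = g * (h * y) * g⁻¹ := by group
    have e2 : g * y * g⁻¹ * (g * h * g⁻¹) = g * (y * h) * g⁻¹ := by group
    rw [e1, e2] at this
    have h3 : g * (h * y) = g * (y * h) := mul_right_cancel this
    exact mul_left_cancel h3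
  · rw [← hk]
    exact orderOf_injective (MulAut.conj g).toMonoidHom (MulAut.conj g).injective y

end Cfsg.Agent.Lib.Helper12.AutQ
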