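import Mathlib

/-!
# Two explicit automorphisms of the quaternion group of order 8 (helper12)

`tauA` has order three, `sigA` is an outer involution inverting `tauA`.  All facts are decided by
enumeration in `QuaternionGroup 2`.
-/

set_option autoImplicit false

namespace Cfsg.Agent.Lib.Helper12.AutQ8

open QuaternionGroup

/-- evaluation of the canonical word of an element of `Q₈` at a pair `(p, q)` -/
def ev2 (p q : QuaternionGroup 2) : QuaternionGroup 2 → QuaternionGroup 2
  | a k => p ^ k.val
  | xa k => q * p ^ k.val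

/-- `i ↦ j⁻¹, j ↦ k⁻¹` -/
def tauF : QuaternionGroup 2 → QuaternionGroup 2 := ev2 (xa 2) (xa 1)

/-- `i ↦ i⁻¹, j ↦ k` -/
def sigF : QuaternionGroup 2 → QuaternionGroup 2 := ev2 (a 3) (xa 3)

theorem tauF_mul : ∀ u v : QuaternionGroup 2, tauF (u * v) = tauF u * tauF v := by decide
theorem sigF_mul : ∀ u v : QuaternionGroup 2, sigF (u * v) = sigF u * sigF v := by decide
theorem tauF_cube : ∀ u : QuaternionGroup 2, tauF (tauF (tauF u)) = u := by decide
theorem sigF_sq : ∀ u : QuaternionGroup 2, sigF (sigF u) = u := by decide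

/-- the automorphism of order three -/
def tauA : MulAut (QuaternionGroup 2) where
  toFun := tauF
  invFun := fun u => tauF (tauF u)
  left_inv := tauF_cube
  right_inv := tauF_cube
  map_mul' := tauF_mul

/-- the outer involution -/
def sigA : MulAut (QuaternionGroup 2) where
  toFun := sigF
  invFun := sigF
  left_inv := sigF_sq
  right_inv := sigF_sq
  map_mul' := sigF_mul

@[simp] theorem tauA_apply (u : QuaternionGroup 2) : tauA u = tauF u := rfl
@[simp] theorem sigA_apply (u : QuaternionGroup 2) : sigA u = sigF u := rfl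

theorem tauA_pow_three : tauA ^ 3 = 1 := by
  ext u
  simp only [pow_succ, pow_zero, one_mul, MulAut.mul_apply, MulAut.one_apply, tauA_apply]
  exact tauF_cube u

theorem sigA_sq : sigA * sigA = 1 := by
  ext u
  simp only [MulAut.mul_apply, MulAut.one_apply, sigA_apply]
  exact sigF_sq u

theorem sig_tau_sig : ∀ u : QuaternionGroup 2, sigF (tauF (sigF (tauF u))) = u := by decide

/-- `σ τ σ τ = 1`, i.e. `σ` inverts `τ` -/
theorem sigA_tauA : sigA * tauA * sigA * tauA = 1 := by
  ext u
  simp only [MulAut.mul_apply, MulAut.one_apply, sigA_apply, tauA_apply]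
  exact sig_tau_sig u

theorem tauF_i : tauF (a 1) = a 1 * a 1 * xa 0 := by decide
theorem tauF_j : tauF (xa 0) = a 1 * a 1 * a 1 * xa 0 := by decide
theorem sigF_i : sigF (a 1) = a 1 * a 1 * a 1 := by decide
theorem sigF_j : sigF (xa 0) = a 1 * xa 0 := by decide

/-- `τ` is not inner -/
theorem tauF_not_inner : ∀ w : QuaternionGroup 2, ∃ u, tauF u ≠ w * u * w⁻¹ := by decide
/-- `σ` is not inner -/
theorem sigF_not_inner : ∀ w : QuaternionGroup 2, ∃ u, sigF u ≠ w * u * w⁻¹ := by decide

/-- the key computation for the quaternion Sylow subgroup -/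
theorem sq_ne_one : ∀ w : QuaternionGroup 2, a 2 * sigF w * w ≠ 1 := by decide

theorem sq_ne_one' : ∀ w : QuaternionGroup 2, sigF w * a 2 * w ≠ 1 := by decide

theorem central_cases : ∀ u : QuaternionGroup 2, (∀ v, u * v = v * u) → u = 1 ∨ u = a 2 := by decide
theorem invol_cases : ∀ u : QuaternionGroup 2, u * u = 1 → u = 1 ∨ u = a 2 := by decide
theorem z_mem_powers : ∀ u : QuaternionGroup 2, u ≠ 1 → a 2 = u ∨ a 2 = u * u := by decide
theorem word_form : ∀ u : QuaternionGroup 2, ∃ m : Fin 4, ∃ n : Fin 2,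
    u = (a 1) ^ m.val * (xa 0) ^ n.val := by decide
theorem z_central : ∀ v : QuaternionGroup 2, a 2 * v = v * a 2 := by decide
theorem z_ne_one : (a 2 : QuaternionGroup 2) ≠ 1 := by decide
theorem z_sq : (a 2 : QuaternionGroup 2) * a 2 = 1 := by decide
theorem i_sq : (a 1 : QuaternionGroup 2) * a 1 = a 2 := by decide
theorem ij_ne_ji : (a 1 : QuaternionGroup 2) * xa 0 ≠ xa 0 * a 1 := by decide
theorem i_pow_four : (a 1 : QuaternionGroup 2) * a 1 * a 1 * a 1 = 1 := by decide
theorem j_sq : (xa 0 : QuaternionGroup 2) * xa 0 = a 1 * a 1 := by decide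
theorem iiij : (a 1 : QuaternionGroup 2) * a 1 * a 1 * xa 0 = xa 0 * a 1 := by decide

end Cfsg.Agent.Lib.Helper12.AutQ8
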