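import Mathlib
import Cfsg.Agent.Lib.Helper81.PSolvable
import Cfsg.Agent.Lib.Helper40.PSolv
import Cfsg.Agent.Lib.Helper01.CoprimeSylow

/-!
# Hall `{p,q}`-subgroups of `p`-solvable groups

A finite `p`-solvable group has, for every prime `q ≠ p`, a Hall `{p,q}`-subgroup: a subgroup whose
order is of the form `p ^ a * q ^ b` and whose index is prime to `p` and to `q`
(`exists_hall_pq`); it can be chosen to contain a given Sylow `p`-subgroup (`exists_hall_pq_ge`).
-/

set_option autoImplicit false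
set_option linter.style.haveILetI false
set_option linter.unusedSectionVars false

namespace Cfsg.Agent.Lib.Helper12.HallPQ

open Cfsg

universe u

/-- `X` is a Hall `{p,q}`-subgroup -/
def IsHallPQ {Γ : Type*} [Group Γ] (p q : ℕ) (X : Subgroup Γ) : Prop :=
  (∃ a b : ℕ, Nat.card X = p ^ a * q ^ b) ∧ ¬ p ∣ X.index ∧ ¬ q ∣ X.index

/-- lifting a Hall `{p,q}`-subgroup from a quotient by a normal `{p,q}`-subgroup -/
theorem lift_quotient {Γ : Type u} [Group Γ] [Finite Γ] {p q : ℕ}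
    (Y : Subgroup Γ) [Y.Normal] (c d : ℕ) (hY : Nat.card Y = p ^ c * q ^ d)
    (Xb : Subgroup (Γ ⧸ Y)) (h : IsHallPQ p q Xb) :
    ∃ X : Subgroup Γ, IsHallPQ p q X := by
  refine ⟨Xb.comap (QuotientGroup.mk' Y), ?_, ?_, ?_⟩
  · obtain ⟨a, b, hab⟩ := h.1
    refine ⟨c + a, d + b, ?_⟩
    rw [Cfsg.Agent.Lib.Helper81.card_comap_mk', hY, hab]
    ring
  · rw [Subgroup.index_comap_of_surjective _ (QuotientGroup.mk'_surjective Y)]
    exact h.2.1
  · rw [Subgroup.index_comap_of_surjective _ (QuotientGroup.mk'_surjective Y)]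
    exact h.2.2

/-- lifting a Hall `{p,q}`-subgroup from a subgroup of index prime to `p` and `q` -/
theorem lift_subgroup {Γ : Type u} [Group Γ] [Finite Γ] {p q : ℕ} (hp : p.Prime) (hq : q.Prime)
    (M : Subgroup Γ) (hMp : ¬ p ∣ M.index) (hMq : ¬ q ∣ M.index)
    (X₂ : Subgroup ↥M) (h : IsHallPQ p q X₂) :
    ∃ X : Subgroup Γ, IsHallPQ p q X := by
  refine ⟨X₂.map M.subtype, ?_, ?_, ?_⟩
  · obtain ⟨a, b, hab⟩ := h.1
    refine ⟨a, b, ?_⟩
    rw [← hab]
    exact Nat.card_congr (X₂.equivMapOfInjective _ M.subtype_injective).symm.toEquiv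
  · rw [Subgroup.index_map_subtype]
    intro h'
    rcases hp.dvd_mul.mp h' with h' | h'
    · exact h.2.1 h'
    · exact hMp h'
  · rw [Subgroup.index_map_subtype]
    intro h'
    rcases hq.dvd_mul.mp h' with h' | h'
    · exact h.2.2 h'
    · exact hMq h'

theorem card_lt_of_ne_top {Γ : Type u} [Group Γ] [Finite Γ] {K : Subgroup Γ} (hK : K ≠ ⊤) :
    Nat.card ↥K < Nat.card Γ :=
  lt_of_le_of_ne (Subgroup.card_le_card_group K) (fun h => hK (Subgroup.eq_top_of_card_eq K h))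

theorem card_quotient_lt {Γ : Type u} [Group Γ] [Finite Γ] (Y : Subgroup Γ) [Y.Normal]
    (hY : Y ≠ ⊥) : Nat.card (Γ ⧸ Y) < Nat.card Γ := by
  rw [Subgroup.card_eq_card_quotient_mul_card_subgroup Y]
  have h1 : 1 < Nat.card Y := (Subgroup.one_lt_card_iff_ne_bot Y).mpr hY
  have h2 : 0 < Nat.card (Γ ⧸ Y) := Nat.card_pos
  nlinarith

/-- a subgroup containing a Sylow `q`-subgroup has index prime to `q` -/
theorem not_dvd_index_of_sylow_le {Γ : Type u} [Group Γ] [Finite Γ] {q : ℕ} [Fact q.Prime]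
    (S : Sylow q Γ) {M : Subgroup Γ} (hSM : (S : Subgroup Γ) ≤ M) : ¬ q ∣ M.index := by
  intro h
  exact S.not_dvd_index (h.trans (Subgroup.index_dvd_of_le hSM))

/-- the normalizer of a Sylow `q`-subgroup of a normal subgroup has index prime to `q` -/
theorem not_dvd_index_normalizer {Γ : Type u} [Group Γ] [Finite Γ] {q : ℕ} [hq : Fact q.Prime]
    (Y Q : Subgroup Γ) [hYn : Y.Normal] (hQ : Cfsg.Agent.Lib.Helper01.IsSylowIn q Q Y) :
    ¬ q ∣ (Subgroup.normalizer (Q : Set Γ)).index := by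
  obtain ⟨S, hQS⟩ := hQ.2.1.exists_le_sylow
  apply not_dvd_index_of_sylow_le S
  -- S ⊓ Y = Q
  have hle : (S : Subgroup Γ) ⊓ Y ≤ Q := by
    have hpg : IsPGroup q ↥((S : Subgroup Γ) ⊓ Y) := S.isPGroup'.to_le inf_le_left
    have hQle : Q ≤ (S : Subgroup Γ) ⊓ Y := le_inf hQS hQ.1
    have h1 : Q.relIndex ((S : Subgroup Γ) ⊓ Y) ∣ Q.relIndex Y :=
      Dvd.intro _ (Subgroup.relIndex_mul_relIndex Q _ Y hQle inf_le_right)
    obtain ⟨n, hn⟩ := hpg.index (Q.subgroupOf ((S : Subgroup Γ) ⊓ Y))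
    have hn' : Q.relIndex ((S : Subgroup Γ) ⊓ Y) = q ^ n := hn
    rcases Nat.eq_zero_or_pos n with h0 | hpos
    · rw [h0, pow_zero] at hn'
      exact Subgroup.relIndex_eq_one.mp hn'
    · exfalso
      apply hQ.2.2
      refine dvd_trans ?_ h1
      rw [hn']
      exact dvd_pow_self q (Nat.pos_iff_ne_zero.mp hpos)
  have heq : (S : Subgroup Γ) ⊓ Y = Q := le_antisymm hle (le_inf hQS hQ.1)
  intro s hs
  rw [Subgroup.mem_normalizer_iff]
  intro h
  rw [← heq, Subgroup.mem_inf, Subgroup.mem_inf]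
  constructor
  · rintro ⟨h1, h2⟩
    exact ⟨(S : Subgroup Γ).mul_mem ((S : Subgroup Γ).mul_mem hs h1) ((S : Subgroup Γ).inv_mem hs),
      hYn.conj_mem h h2 s⟩
  · rintro ⟨h1, h2⟩
    refine ⟨?_, ?_⟩
    · have := (S : Subgroup Γ).mul_mem ((S : Subgroup Γ).mul_mem ((S : Subgroup Γ).inv_mem hs) h1) hs
      simpa [mul_assoc] using this
    · have := hYn.conj_mem _ h2 s⁻¹
      simpa [mul_assoc] using this

theorem exists_hall_pq_aux (p q : ℕ) [hp : Fact p.Prime] [hq : Fact q.Prime] :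
    ∀ (n : ℕ) (Γ : Type u) [Group Γ] [Finite Γ], Nat.card Γ = n → IsPSolvable p Γ →
      ∃ X : Subgroup Γ, IsHallPQ p q X := by
  intro n
  induction n using Nat.strong_induction_on with
  | _ n IH =>
  intro Γ _ _ hn hG
  have hq1 : ¬ q ∣ 1 := fun h => hq.out.one_lt.ne' (Nat.dvd_one.mp h)
  have hp1 : ¬ p ∣ 1 := fun h => hp.out.one_lt.ne' (Nat.dvd_one.mp h)
  by_cases htriv : (⊥ : Subgroup Γ) = ⊤
  · refine ⟨⊤, ⟨0, 0, ?_⟩, ?_, ?_⟩
    · rw [← htriv, Subgroup.card_bot]; simp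
    · rw [Subgroup.index_top]; exact hp1
    · rw [Subgroup.index_top]; exact hq1
  obtain ⟨Y, hYn, -, -, hYne, hY⟩ :=
    Cfsg.Agent.Lib.Helper81.IsPSolvable.exists_normal_between hp.out hG ⊥ ⊤ bot_le htriv
  rw [Subgroup.relIndex_bot_left] at hY
  haveI := hYn
  have hYbot : Y ≠ ⊥ := fun h => hYne h.symm
  have hlt : Nat.card (Γ ⧸ Y) < n := hn ▸ card_quotient_lt Y hYbot
  have hGq : IsPSolvable p (Γ ⧸ Y) := Cfsg.Agent.Lib.Helper81.IsPSolvable.quotient hp.out hG Y
  obtain ⟨Xb, hXb⟩ := IH _ hlt (Γ ⧸ Y) rfl hGq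
  rcases hY with ⟨m, hm⟩ | hcop
  · -- `Y` is a `p`-group
    exact lift_quotient Y m 0 (by rw [hm]; simp) Xb hXb
  · -- `Y` is a `p'`-group
    let P : Sylow p Γ := default
    have hPY : (P : Subgroup Γ) ≤ Subgroup.normalizer (Y : Set Γ) := by
      rw [Subgroup.normalizer_eq_top]; exact le_top
    have hcopPY : (Nat.card (P : Subgroup Γ)).Coprime (Nat.card Y) := by
      obtain ⟨k, hk⟩ := P.isPGroup'.exists_card_eq
      rw [hk]; exact Nat.Coprime.pow_left k hcop.symm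
    haveI : Group.IsNilpotent ↥(P : Subgroup Γ) := P.isPGroup'.isNilpotent
    obtain ⟨Q, hQ, hPQ⟩ := Cfsg.Agent.Lib.Helper01.exists_invariant_isSylowIn q hPY hcopPY
      (Or.inl inferInstance)
    have hMp : ¬ p ∣ (Subgroup.normalizer (Q : Set Γ)).index := not_dvd_index_of_sylow_le P hPQ
    have hMq : ¬ q ∣ (Subgroup.normalizer (Q : Set Γ)).index := not_dvd_index_normalizer Y Q hQ
    by_cases hM : Subgroup.normalizer (Q : Set Γ) = ⊤
    · by_cases hQbot : Q = ⊥
      · -- `q ∤ |Y|`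
        have hqY : ¬ q ∣ Nat.card Y := by
          have := hQ.2.2
          rwa [hQbot, Subgroup.relIndex_bot_left] at this
        have hidx : (Xb.comap (QuotientGroup.mk' Y)).index = Xb.index :=
          Subgroup.index_comap_of_surjective _ (QuotientGroup.mk'_surjective Y)
        by_cases hX₁ : Xb.comap (QuotientGroup.mk' Y) = ⊤
        · -- Schur--Zassenhaus
          have hXbtop : Xb = ⊤ := by
            rw [eq_top_iff]
            intro y _
            obtain ⟨x, rfl⟩ := QuotientGroup.mk'_surjective Y y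
            have : x ∈ Xb.comap (QuotientGroup.mk' Y) := by rw [hX₁]; trivial
            exact this
          obtain ⟨a, b, hab⟩ := hXb.1
          have hYidx : Y.index = p ^ a * q ^ b := by
            rw [Subgroup.index_eq_card, ← hab, hXbtop, Subgroup.card_top]
          have hcopq : (Nat.card Y).Coprime q :=
            ((Nat.Prime.coprime_iff_not_dvd hq.out).mpr hqY).symm
          have hcopYi : (Nat.card Y).Coprime Y.index := by
            rw [hYidx]
            exact Nat.Coprime.mul_right (Nat.Coprime.pow_right a hcop)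
              (Nat.Coprime.pow_right b hcopq)
          obtain ⟨X₀, hX₀⟩ := Subgroup.exists_right_complement'_of_coprime hcopYi
          have hcardX₀ : Nat.card X₀ = Y.index := by
            have h1 := hX₀.card_mul_card
            have h2 := Y.card_mul_index
            have hpos : 0 < Nat.card Y := Nat.card_pos
            exact Nat.eq_of_mul_eq_mul_left hpos (h1.trans h2.symm)
          have hidxX₀ : X₀.index = Nat.card Y := hX₀.index_eq_card
          refine ⟨X₀, ⟨a, b, hcardX₀.trans hYidx⟩, ?_, ?_⟩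
          · rw [hidxX₀]
            exact fun h => hp.out.one_lt.ne' (Nat.dvd_one.mp (hcop ▸ Nat.dvd_gcd h dvd_rfl))
          · rw [hidxX₀]; exact hqY
        · have hlt₁ : Nat.card ↥(Xb.comap (QuotientGroup.mk' Y)) < n :=
            hn ▸ card_lt_of_ne_top hX₁
          obtain ⟨X₂, hX₂⟩ := IH _ hlt₁ ↥(Xb.comap (QuotientGroup.mk' Y)) rfl
            (Cfsg.Agent.Lib.Helper40.isPSolvable_subgroup hp.out hG _)
          exact lift_subgroup hp.out hq.out _ (hidx ▸ hXb.2.1) (hidx ▸ hXb.2.2) X₂ hX₂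
      · -- induction on `Γ ⧸ Q`
        haveI : Q.Normal := Subgroup.normalizer_eq_top_iff.mp hM
        obtain ⟨d, hd⟩ := hQ.2.1.exists_card_eq
        have hlt' : Nat.card (Γ ⧸ Q) < n := hn ▸ card_quotient_lt Q hQbot
        obtain ⟨Xb', hXb'⟩ := IH _ hlt' (Γ ⧸ Q) rfl
          (Cfsg.Agent.Lib.Helper81.IsPSolvable.quotient hp.out hG Q)
        exact lift_quotient Q 0 d (by rw [hd]; simp) Xb' hXb'
    · -- induction on the normalizer
      have hltM : Nat.card ↥(Subgroup.normalizer (Q : Set Γ)) < n := hn ▸ card_lt_of_ne_top hM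
      obtain ⟨X₂, hX₂⟩ := IH _ hltM ↥(Subgroup.normalizer (Q : Set Γ)) rfl
        (Cfsg.Agent.Lib.Helper40.isPSolvable_subgroup hp.out hG _)
      exact lift_subgroup hp.out hq.out _ hMp hMq X₂ hX₂

/-- **Hall `{p,q}`-subgroups** exist in finite `p`-solvable groups. -/
theorem exists_hall_pq {Γ : Type u} [Group Γ] [Finite Γ] (p q : ℕ) [Fact p.Prime] [Fact q.Prime]
    (hG : IsPSolvable p Γ) : ∃ X : Subgroup Γ, IsHallPQ p q X :=
  exists_hall_pq_aux p q _ Γ rfl hG

/-- a `p`-subgroup is contained in a conjugate of any subgroup of index prime to `p` -/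
theorem exists_conj_ge_of_not_dvd_index {Γ : Type u} [Group Γ] [Finite Γ] {p : ℕ} [Fact p.Prime]
    {T X₀ : Subgroup Γ} (hT : IsPGroup p T) (hX₀ : ¬ p ∣ X₀.index) :
    ∃ g : Γ, ∀ t ∈ T, g⁻¹ * t * g ∈ X₀ := by
  have hfix := hT.nonempty_fixed_point_of_prime_not_dvd_card (Γ ⧸ X₀)
    (by rw [← Subgroup.index_eq_card]; exact hX₀)
  obtain ⟨x, hx⟩ := hfix
  obtain ⟨g, rfl⟩ := QuotientGroup.mk_surjective x
  refine ⟨g, fun t ht => ?_⟩
  have h1 : (⟨t, ht⟩ : ↥T) • (QuotientGroup.mk g : Γ ⧸ X₀) = QuotientGroup.mk g := hx ⟨t, ht⟩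
  have h2 : (QuotientGroup.mk (t * g) : Γ ⧸ X₀) = QuotientGroup.mk g := h1
  have h3 := QuotientGroup.eq.mp h2
  have h4 : g⁻¹ * t * g = ((t * g)⁻¹ * g)⁻¹ := by group
  rw [h4]
  exact X₀.inv_mem h3

/-- **Hall `{p,q}`-subgroups** containing a given `p`-subgroup. -/
theorem exists_hall_pq_ge {Γ : Type u} [Group Γ] [Finite Γ] (p q : ℕ) [Fact p.Prime]
    [Fact q.Prime] (hG : IsPSolvable p Γ) (T : Subgroup Γ) (hT : IsPGroup p T) :
    ∃ X : Subgroup Γ, T ≤ X ∧ IsHallPQ p q X := by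
  obtain ⟨X₀, hX₀⟩ := exists_hall_pq p q hG
  obtain ⟨g, hg⟩ := exists_conj_ge_of_not_dvd_index hT hX₀.2.1
  refine ⟨X₀.map (MulAut.conj g).toMonoidHom, ?_, ?_, ?_, ?_⟩
  · intro t ht
    refine ⟨g⁻¹ * t * g, hg t ht, ?_⟩
    simp [MulAut.conj_apply, mul_assoc]
  · obtain ⟨a, b, hab⟩ := hX₀.1
    refine ⟨a, b, ?_⟩
    rw [← hab]
    exact Nat.card_congr
      (X₀.equivMapOfInjective _ (MulAut.conj g).injective).symm.toEquiv
  · have : (X₀.map (MulAut.conj g).toMonoidHom).index = X₀.index :=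
      Subgroup.index_map_equiv X₀ (MulAut.conj g)
    rw [this]; exact hX₀.2.1
  · have : (X₀.map (MulAut.conj g).toMonoidHom).index = X₀.index :=
      Subgroup.index_map_equiv X₀ (MulAut.conj g)
    rw [this]; exact hX₀.2.2

end Cfsg.Agent.Lib.Helper12.HallPQ
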