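import Mathlib
import Cfsg.Agent.Lib.Helper12.HallPQ
import Cfsg.Agent.Lib.Helper12.AutQ
import Cfsg.Agent.Lib.Helper53.CharNpc2

/-!
# A local step for automizers of `p`-subgroups

`exists_char_moved`: let `Γ` be a finite `p`-solvable group with a normal `p`-subgroup `H`, `T` a Sylow
`p`-subgroup, `q ≠ p` a prime with `(p, q) ≠ (2, 3)`, and `y` a `q`-element which does not centralize `H`.
Then some nontrivial characteristic subgroup of `T` is normalized but not centralized by a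
`q`-element (Thompson's normal `p`-complement theorem in a Hall `{p, q}`-subgroup).
-/

set_option autoImplicit false
set_option linter.style.haveILetI false
set_option linter.unusedSectionVars false

namespace Cfsg.Agent.Lib.Helper12.AutQLocal

open Cfsg Cfsg.Agent.Lib.Helper41 Cfsg.Agent.Lib.Helper12.HallPQ Cfsg.Agent.Lib.Helper53.CharNpc

universe u

variable {Γ : Type u} [Group Γ] [Finite Γ] {p q : ℕ} [hp : Fact p.Prime] [hq : Fact q.Prime]

/-- a normal `p`-subgroup lies in every Sylow `p`-subgroup -/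
theorem normal_le_sylow (R : Subgroup Γ) [hRn : R.Normal] (hR : IsPGroup p R) (P : Sylow p Γ) :
    R ≤ (P : Subgroup Γ) := by
  obtain ⟨Q, hQ⟩ := hR.exists_le_sylow
  obtain ⟨g, rfl⟩ := MulAction.exists_smul_eq Γ Q P
  intro x hx
  show x ∈ lc g (Q : Subgroup Γ)
  rw [mem_lc]
  apply hQ
  have := hRn.conj_mem x hx g⁻¹
  simpa using this

/-- a `q`-element of a group with a normal `p`-complement `K` lies in `K` -/
theorem mem_of_complement {X : Type u} [Group X] [Finite X] (hpq : p ≠ q) (P : Sylow p X)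
    (K : Subgroup X) [K.Normal] (hc : K.IsComplement' (P : Subgroup X)) {y : X} {k : ℕ}
    (hy : y ^ q ^ k = 1) : y ∈ K := by
  have hidx : K.index = Nat.card (P : Subgroup X) := hc.symm.index_eq_card
  obtain ⟨n, hn⟩ := IsPGroup.iff_card.mp P.2
  have h1 : (QuotientGroup.mk y : X ⧸ K) ^ q ^ k = 1 := by
    rw [← QuotientGroup.mk_pow, hy]; rfl
  have h2 : (QuotientGroup.mk y : X ⧸ K) ^ p ^ n = 1 := by
    have : Nat.card (X ⧸ K) = p ^ n := by rw [← Subgroup.index_eq_card, hidx, hn]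
    rw [← this]
    exact pow_card_eq_one'
  have hd1 := orderOf_dvd_of_pow_eq_one h1
  have hd2 := orderOf_dvd_of_pow_eq_one h2
  have hcop : Nat.Coprime (q ^ k) (p ^ n) :=
    Nat.Coprime.pow _ _ ((Nat.coprime_primes hq.out hp.out).mpr (Ne.symm hpq))
  have h3 : orderOf (QuotientGroup.mk y : X ⧸ K) = 1 :=
    Nat.eq_one_of_dvd_coprimes hcop hd1 hd2
  rw [orderOf_eq_one_iff, QuotientGroup.eq_one_iff] at h3
  exact h3

/-- a `q`-element acting nontrivially on a normal `p`-subgroup obstructs normal `p`-complements -/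
theorem not_hasNormalPComplement (hpq : p ≠ q) (X H : Subgroup Γ) (hHX : H ≤ X)
    (hH : IsPGroup p H) {y : Γ} (hyX : y ∈ X) (hyN : y ∈ Subgroup.normalizer (H : Set Γ))
    {k : ℕ} (hy : y ^ q ^ k = 1) (hyC : y ∉ Subgroup.centralizer (H : Set Γ)) :
    ¬ HasNormalPComplement p ↥X := by
  rintro ⟨P, K, hKn, hc⟩
  haveI := hKn
  apply hyC
  have hyK : (⟨y, hyX⟩ : ↥X) ∈ K := by
    apply mem_of_complement hpq P K hc (k := k)
    apply Subtype.ext
    simpa using hy
  have hKcop : (Nat.card K).Coprime p := by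
    have h1 : (P : Subgroup ↥X).index = Nat.card K := hc.index_eq_card
    have h2 := P.not_dvd_index
    rw [h1] at h2
    exact ((Nat.Prime.coprime_iff_not_dvd hp.out).mpr h2).symm
  rw [Subgroup.mem_centralizer_iff]
  intro h hh
  set h' : ↥X := ⟨h, hHX hh⟩ with hh'
  set y' : ↥X := ⟨y, hyX⟩ with hy'
  have hcK : h' * y' * h'⁻¹ * y'⁻¹ ∈ K :=
    K.mul_mem (hKn.conj_mem y' hyK h') (K.inv_mem hyK)
  have hcH : h * y * h⁻¹ * y⁻¹ ∈ H := by
    have h1 : y * h⁻¹ * y⁻¹ ∈ H := (Subgroup.mem_normalizer_iff.mp hyN h⁻¹).mp (H.inv_mem hh)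
    have : h * y * h⁻¹ * y⁻¹ = h * (y * h⁻¹ * y⁻¹) := by group
    rw [this]
    exact H.mul_mem hh h1
  obtain ⟨n, hn⟩ := hH ⟨_, hcH⟩
  have hn' : (h' * y' * h'⁻¹ * y'⁻¹) ^ p ^ n = 1 := by
    apply Subtype.ext
    have := congrArg Subtype.val hn
    simpa using this
  have hd1 : orderOf (h' * y' * h'⁻¹ * y'⁻¹) ∣ p ^ n := orderOf_dvd_of_pow_eq_one hn'
  have hd2 : orderOf (h' * y' * h'⁻¹ * y'⁻¹) ∣ Nat.card K := Subgroup.orderOf_dvd_natCard K hcK
  have hcop : Nat.Coprime (p ^ n) (Nat.card K) := Nat.Coprime.pow_left n hKcop.symm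
  have h1 : orderOf (h' * y' * h'⁻¹ * y'⁻¹) = 1 := Nat.eq_one_of_dvd_coprimes hcop hd1 hd2
  rw [orderOf_eq_one_iff] at h1
  have h2 : h' * y' = y' * h' := by
    have : h' * y' = (h' * y' * h'⁻¹ * y'⁻¹) * (y' * h') := by group
    rw [this, h1, one_mul]
  have := congrArg Subtype.val h2
  simpa using this

/-- a `{2, q}`-group with `q ≠ 3` is `S₄`-free -/
theorem not_involves_perm4 {X : Type u} [Group X] [Finite X] {a b : ℕ} (hq3 : q ≠ 3)
    (hX : Nat.card X = 2 ^ a * q ^ b) : ¬ Involves (Equiv.Perm (Fin 4)) X := by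
  rintro ⟨K, R, hn, ⟨e⟩⟩
  have h24 : Nat.card (↥K ⧸ R.subgroupOf K) = 24 := by
    rw [Nat.card_congr e.toEquiv, Nat.card_eq_fintype_card, Fintype.card_perm]
    rfl
  have h1 : Nat.card (↥K ⧸ R.subgroupOf K) ∣ Nat.card ↥K := by
    rw [← Subgroup.index_eq_card]
    exact Subgroup.index_dvd_card _
  have h2 : Nat.card ↥K ∣ Nat.card X := Subgroup.card_subgroup_dvd_card K
  have h3 : 3 ∣ 2 ^ a * q ^ b := by
    rw [← hX]
    refine dvd_trans ?_ (h1.trans h2)
    rw [h24]
    norm_num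
  rcases (Nat.Prime.dvd_mul Nat.prime_three).mp h3 with h | h
  · have := Nat.Prime.dvd_of_dvd_pow Nat.prime_three h
    norm_num at this
  · have := Nat.Prime.dvd_of_dvd_pow Nat.prime_three h
    exact hq3 ((Nat.prime_dvd_prime_iff_eq Nat.prime_three hq.out).mp this).symm

/-- **Local step.** In a `p`-solvable group `Γ` with a normal `p`-subgroup `H` not centralized by some
`q`-element, some nontrivial characteristic subgroup of a Sylow `p`-subgroup `T` is normalized but
not centralized by a `q`-element. -/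
theorem exists_char_moved (hpq : p ≠ q) (hΦ : p = 2 → q ≠ 3) (hsolv : IsPSolvable p Γ)
    (H : Subgroup Γ) [hHn : H.Normal] (hH : IsPGroup p H) (T : Sylow p Γ) {y : Γ} {k : ℕ}
    (hyo : orderOf y = q ^ k) (hyC : y ∉ Subgroup.centralizer (H : Set Γ)) :
    ∃ K : Subgroup ↥(T : Subgroup Γ), K.Characteristic ∧ K ≠ ⊥ ∧
      ∃ g : Γ, (∃ i : ℕ, orderOf g = q ^ i) ∧
        g ∈ Subgroup.normalizer ((K.map (T : Subgroup Γ).subtype : Subgroup Γ) : Set Γ) ∧
        g ∉ Subgroup.centralizer ((K.map (T : Subgroup Γ).subtype : Subgroup Γ) : Set Γ) := by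
  obtain ⟨X, hTX, ⟨a, b, hXcard⟩, hXp, hXq⟩ := exists_hall_pq_ge p q hsolv (T : Subgroup Γ) T.2
  have hHT : H ≤ (T : Subgroup Γ) := normal_le_sylow H hH T
  -- conjugate `y` into `X`
  have hzq : IsPGroup q (Subgroup.zpowers y) := by
    apply IsPGroup.of_card (n := k)
    rw [Nat.card_zpowers, hyo]
  obtain ⟨g, hg⟩ := exists_conj_ge_of_not_dvd_index hzq hXq
  set y₂ := g⁻¹ * y * g with hy₂
  have hy₂X : y₂ ∈ X := hg y (Subgroup.mem_zpowers y)
  have hy₂o : y₂ ^ q ^ k = 1 := by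
    have e : y₂ = MulAut.conj g⁻¹ y := by simp [hy₂]
    rw [e, ← map_pow, ← hyo, pow_orderOf_eq_one, map_one]
  have hy₂N : y₂ ∈ Subgroup.normalizer (H : Set Γ) := by
    rw [Subgroup.mem_normalizer_iff]
    intro h
    constructor
    · intro hh
      exact hHn.conj_mem h hh y₂
    · intro hh
      have := hHn.conj_mem _ hh y₂⁻¹
      simpa [mul_assoc] using this
  have hy₂C : y₂ ∉ Subgroup.centralizer (H : Set Γ) := by
    intro hc
    apply hyC
    rw [Subgroup.mem_centralizer_iff] at hc ⊢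
    intro h hh
    have h1 : g⁻¹ * h * g ∈ H := by
      have := hHn.conj_mem h hh g⁻¹
      simpa using this
    have h2 := hc _ h1
    rw [hy₂] at h2
    have e1 : g⁻¹ * h * g * (g⁻¹ * y * g) = g⁻¹ * (h * y) * g := by group
    have e2 : g⁻¹ * y * g * (g⁻¹ * h * g) = g⁻¹ * (y * h) * g := by group
    rw [e1, e2] at h2
    have h3 : g⁻¹ * (h * y) = g⁻¹ * (y * h) := mul_right_cancel h2
    exact mul_left_cancel h3
  have hnpc : ¬ HasNormalPComplement p ↥X :=
    not_hasNormalPComplement hpq X H (hHT.trans hTX) hH hy₂X hy₂N hy₂o hy₂C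
  have hXcard' : Nat.card ↥X = p ^ a * q ^ b := hXcard
  have hΦ' : p ≠ 2 ∨ ¬ Involves (Equiv.Perm (Fin 4)) ↥X := by
    by_cases h2 : p = 2
    · right
      rw [h2] at hXcard'
      exact not_involves_perm4 (hΦ h2) hXcard'
    · left; exact h2
  -- the Sylow `p`-subgroup of `X`
  have hTXp : IsPGroup p ((T : Subgroup Γ).subgroupOf X) := T.2.comap_subtype
  have hTXi : ¬ p ∣ ((T : Subgroup Γ).subgroupOf X).index := by
    intro hd
    apply T.not_dvd_index
    rw [← Subgroup.relIndex_mul_index hTX]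
    exact Dvd.dvd.mul_right hd _
  let PX : Sylow p ↥X := hTXp.toSylow hTXi
  by_contra hcon
  push Not at hcon
  apply hnpc
  have hch : CharHyp p ↥X ((T : Subgroup Γ).subgroupOf X) := by
    intro K₁ hK₁c hK₁ne g₁ hg₁ hg₁o
    let e : ↥((T : Subgroup Γ).subgroupOf X) ≃* ↥(T : Subgroup Γ) :=
      Subgroup.subgroupOfEquivOfLe hTX
    have hKchar : (K₁.map e.toMonoidHom).Characteristic :=
      Cfsg.Agent.Lib.Helper58.KChar.characteristic_map_equiv e K₁
    have hKne : K₁.map e.toMonoidHom ≠ ⊥ := by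
      rw [Ne, Subgroup.map_eq_bot_iff_of_injective _ e.injective]
      exact hK₁ne
    have hmap : (K₁.map e.toMonoidHom).map (T : Subgroup Γ).subtype =
        (K₁.map ((T : Subgroup Γ).subgroupOf X).subtype).map X.subtype := by
      rw [Subgroup.map_map, Subgroup.map_map]
      rfl
    have h1 : (g₁ : Γ) ∈ Subgroup.normalizer
        (((K₁.map e.toMonoidHom).map (T : Subgroup Γ).subtype : Subgroup Γ) : Set Γ) := by
      rw [hmap]
      exact Subgroup.le_normalizer_map X.subtype ⟨g₁, hg₁, rfl⟩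
    have ho : ∃ i : ℕ, orderOf (g₁ : Γ) = q ^ i := by
      rw [Subgroup.orderOf_coe]
      have hd : orderOf g₁ ∣ p ^ a * q ^ b := by
        rw [← hXcard']; exact orderOf_dvd_natCard g₁
      have hd' : orderOf g₁ ∣ q ^ b :=
        (Nat.Coprime.dvd_mul_left (Nat.Coprime.pow_right a hg₁o)).mp hd
      obtain ⟨i, _, hi⟩ := (Nat.dvd_prime_pow hq.out).mp hd'
      exact ⟨i, hi⟩
    have h2 := hcon _ hKchar hKne (g₁ : Γ) ho h1
    rw [hmap] at h2
    rw [Subgroup.mem_centralizer_iff] at h2 ⊢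
    intro z hz
    apply Subtype.ext
    exact h2 (z : Γ) ⟨z, hz, rfl⟩
  exact npc_of_charHyp hΦ' PX hch

end Cfsg.Agent.Lib.Helper12.AutQLocal
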