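import Mathlib
import Cfsg.Prelude.Def_Local

/-!
# Extensions of `p`-solvable groups

If `f : X →* Y` is surjective, `Y` is `p`-solvable and the order of `ker f` is a power of `p` or is
prime to `p`, then `X` is `p`-solvable (`isPSolvable_of_surjective_of_card_ker`).
-/

set_option autoImplicit false

namespace Cfsg.Agent.Lib.Helper12.PSolvExt

open Cfsg

/-- An extension of a `p`-solvable group by a normal subgroup whose order is a power of `p` or
prime to `p` is `p`-solvable. -/
theorem isPSolvable_of_surjective_of_card_ker {X Y : Type*} [Group X] [Group Y] {p : ℕ}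
    (f : X →* Y) (hf : Function.Surjective f)
    (hker : (∃ m : ℕ, Nat.card f.ker = p ^ m) ∨ (Nat.card f.ker).Coprime p)
    (hY : IsPSolvable p Y) : IsPSolvable p X := by
  obtain ⟨n, H, h0, hlast, hmono, hnorm, hstep⟩ := hY
  refine ⟨n + 1, Fin.cons ⊥ (fun i => (H i).comap f), ?_, ?_, ?_, ?_, ?_⟩
  · rfl
  · have : Fin.last (n + 1) = (Fin.last n).succ := rfl
    rw [this, Fin.cons_succ, hlast]
    rfl
  · intro i j hij
    induction i using Fin.cases with
    | zero => rw [Fin.cons_zero]; exact bot_le
    | succ i' =>
      induction j using Fin.cases with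
      | zero => exact absurd hij (by simp)
      | succ j' =>
        rw [Fin.cons_succ, Fin.cons_succ]
        exact Subgroup.comap_mono (hmono (Fin.succ_le_succ_iff.mp hij))
  · intro i
    induction i using Fin.cases with
    | zero => rw [Fin.cons_zero]; infer_instance
    | succ i' =>
      rw [Fin.cons_succ]
      exact (hnorm i').comap f
  · intro i
    induction i using Fin.cases with
    | zero =>
      have e1 : (Fin.cons ⊥ (fun i => (H i).comap f) : Fin (n + 2) → Subgroup X)
          (Fin.castSucc 0) = ⊥ := rfl
      have e2 : (Fin.cons ⊥ (fun i => (H i).comap f) : Fin (n + 2) → Subgroup X)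
          (Fin.succ 0) = f.ker := by
        rw [Fin.cons_succ, h0]
        rfl
      rw [e1, e2, Subgroup.relIndex_bot_left]
      exact hker
    | succ i' =>
      have e1 : (Fin.cons ⊥ (fun i => (H i).comap f) : Fin (n + 2) → Subgroup X)
          (Fin.castSucc i'.succ) = (H i'.castSucc).comap f := by
        rw [← Fin.succ_castSucc, Fin.cons_succ]
      have e2 : (Fin.cons ⊥ (fun i => (H i).comap f) : Fin (n + 2) → Subgroup X)
          (Fin.succ i'.succ) = (H i'.succ).comap f := by
        rw [Fin.cons_succ]
      rw [e1, e2, Subgroup.relIndex_comap, Subgroup.map_comap_eq_self_of_surjective hf]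
      exact hstep i'

/-- order of the image of `B` in `X ⧸ A`, for `A ≤ B` -/
theorem card_map_mk'_mul {X : Type*} [Group X] [Finite X] (A B : Subgroup X) [A.Normal]
    (hAB : A ≤ B) : Nat.card A * Nat.card (B.map (QuotientGroup.mk' A)) = Nat.card B := by
  have hle : A ≤ (B.map (QuotientGroup.mk' A)).comap (QuotientGroup.mk' A) := by
    intro x hx
    rw [Subgroup.mem_comap]
    have : QuotientGroup.mk' A x = 1 := (QuotientGroup.eq_one_iff x).mpr hx
    rw [this]; exact Subgroup.one_mem _
  have h1 : Nat.card ((B.map (QuotientGroup.mk' A)).comap (QuotientGroup.mk' A)) =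
      Nat.card A * Nat.card (B.map (QuotientGroup.mk' A)) := by
    rw [← Subgroup.relIndex_bot_left, ← Subgroup.relIndex_mul_relIndex ⊥ A _ bot_le hle,
      Subgroup.relIndex_bot_left]
    congr 1
    have := Subgroup.relIndex_ker
      (K := (B.map (QuotientGroup.mk' A)).comap (QuotientGroup.mk' A)) (QuotientGroup.mk' A)
    rw [QuotientGroup.ker_mk', Subgroup.map_comap_eq_self_of_surjective
      (QuotientGroup.mk'_surjective A)] at this
    exact this
  have h2 : (B.map (QuotientGroup.mk' A)).comap (QuotientGroup.mk' A) = B := by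
    rw [Subgroup.comap_map_eq, QuotientGroup.ker_mk']
    exact sup_eq_left.mpr hAB
  rw [← h1, h2]

/-- If `A ≤ B` are normal subgroups of `X`, `|A|` is prime to `p`, `|B : A|` is a power of `p` and
`X ⧸ B` is `p`-solvable, then `X` is `p`-solvable. -/
theorem isPSolvable_of_normal_chain {X : Type*} [Group X] [Finite X] {p : ℕ} (A B : Subgroup X)
    [A.Normal] [B.Normal] (hAB : A ≤ B) (hA : (Nat.card A).Coprime p)
    (hB : ∃ m : ℕ, A.relIndex B = p ^ m) (hX : IsPSolvable p (X ⧸ B)) : IsPSolvable p X := by
  have hAB' : A ≤ B.comap (MonoidHom.id X) := by simpa using hAB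
  let f : X ⧸ A →* X ⧸ B := QuotientGroup.map A B (MonoidHom.id X) hAB'
  have hf : Function.Surjective f := by
    intro y
    obtain ⟨x, rfl⟩ := QuotientGroup.mk_surjective y
    exact ⟨QuotientGroup.mk x, rfl⟩
  have hker : f.ker = B.map (QuotientGroup.mk' A) := by
    have := QuotientGroup.ker_map A B (MonoidHom.id X) hAB'
    simpa using this
  have hcard : Nat.card f.ker = A.relIndex B := by
    rw [hker]
    have h1 := card_map_mk'_mul A B hAB
    have h2 : Nat.card A * A.relIndex B = Nat.card B := by
      rw [← Subgroup.relIndex_bot_left, Subgroup.relIndex_mul_relIndex ⊥ A B bot_le hAB,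
        Subgroup.relIndex_bot_left]
    have hpos : 0 < Nat.card A := Nat.card_pos
    exact Nat.eq_of_mul_eq_mul_left hpos (h1.trans h2.symm)
  have hXA : IsPSolvable p (X ⧸ A) := by
    apply isPSolvable_of_surjective_of_card_ker f hf _ hX
    left
    obtain ⟨m, hm⟩ := hB
    exact ⟨m, by rw [hcard, hm]⟩
  apply isPSolvable_of_surjective_of_card_ker (QuotientGroup.mk' A) (QuotientGroup.mk'_surjective A)
    _ hXA
  right
  rw [QuotientGroup.ker_mk']
  exact hA

end Cfsg.Agent.Lib.Helper12.PSolvExt
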