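import Mathlib
import Cfsg.Agent.Lib.Helper12.AutQLocal
import Cfsg.Agent.Lib.Helper12.PSolvExt
import Cfsg.Agent.Lib.Helper03.NormalFusion
import Cfsg.Agent.Lib.Helper01.Coprime
import Cfsg.Agent.Lib.Helper81.PSolvable
import Cfsg.Agent.Lib.Helper58.KChar2
import Cfsg.Agent.Lib.Helper41.Alperin

/-!
# Moving a prime divisor of an automizer to a subgroup normal in a Sylow subgroup

If all automizers `N_G(H)/C_G(H)` of `p`-subgroups are `p`-solvable and `q` divides the order of one
of them (`q ≠ p`, `{p, q} ≠ {2, 3}`), then `q` divides the order of the automizer of a subgroup which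
is normal in a given Sylow `p`-subgroup (`exists_normal_in_sylow`).
-/

set_option autoImplicit false
set_option linter.style.haveILetI false
set_option linter.unusedSectionVars false

namespace Cfsg.Agent.Lib.Helper12.AutQMain

open Cfsg Cfsg.Agent.Lib.Helper41 Cfsg.Agent.Lib.Helper03 Cfsg.Agent.Lib.Helper12.AutQ
  Cfsg.Agent.Lib.Helper12.AutQLocal Cfsg.Agent.Lib.Helper12.PSolvExt

universe u

variable {G : Type u} [Group G] [Finite G] {p q : ℕ} [hp : Fact p.Prime] [hq : Fact q.Prime]

/-- the order of the Sylow `p`-subgroups of `M` -/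
noncomputable def sp (p : ℕ) (M : Subgroup G) : ℕ := p ^ (Nat.card M).factorization p

theorem card_subgroupOf_of_le {T M : Subgroup G} (h : T ≤ M) :
    Nat.card (T.subgroupOf M) = Nat.card T :=
  Nat.card_congr (Subgroup.subgroupOfEquivOfLe h).toEquiv

theorem card_le_sp {T M : Subgroup G} (hT : IsPGroup p T) (hTM : T ≤ M) :
    Nat.card T ≤ sp p M := by
  have hT' : IsPGroup p (T.subgroupOf M) := hT.comap_subtype
  obtain ⟨S, hS⟩ := hT'.exists_le_sylow
  have h1 : Nat.card (S : Subgroup ↥M) = sp p M := S.card_eq_multiplicity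
  rw [← h1, ← card_subgroupOf_of_le hTM]
  exact Subgroup.card_le_of_le hS

theorem card_eq_sp {T M : Subgroup G} (hT : IsPGroup p T) (hTM : T ≤ M)
    (hs : ¬ p ∣ T.relIndex M) : Nat.card T = sp p M := by
  have hT' : IsPGroup p (T.subgroupOf M) := hT.comap_subtype
  have h1 : Nat.card ((hT'.toSylow hs : Sylow p ↥M) : Subgroup ↥M) = sp p M :=
    Sylow.card_eq_multiplicity _
  rw [← h1, ← card_subgroupOf_of_le hTM]
  rfl

/-- the measure which is maximized -/
noncomputable def phi (p : ℕ) (H : Subgroup G) : ℕ :=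
  sp p (Subgroup.normalizer (H : Set G)) * (Nat.card G + 1) + Nat.card H

theorem phi_lt_of_card_lt {H K : Subgroup G}
    (h1 : sp p (Subgroup.normalizer (H : Set G)) ≤ sp p (Subgroup.normalizer (K : Set G)))
    (h2 : Nat.card H < Nat.card K) : phi p H < phi p K := by
  unfold phi
  exact Nat.add_lt_add_of_le_of_lt (Nat.mul_le_mul_right _ h1) h2

theorem phi_lt_of_sp_lt {H K : Subgroup G}
    (h1 : sp p (Subgroup.normalizer (H : Set G)) < sp p (Subgroup.normalizer (K : Set G))) :
    phi p H < phi p K := by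
  unfold phi
  have h2 : Nat.card H ≤ Nat.card G := Subgroup.card_le_card_group H
  have h3 : sp p (Subgroup.normalizer (H : Set G)) + 1 ≤ sp p (Subgroup.normalizer (K : Set G)) := h1
  have h4 := Nat.mul_le_mul_right (Nat.card G + 1) h3
  nlinarith

theorem card_mul_relIndex {A B : Subgroup G} (h : A ≤ B) :
    Nat.card A * A.relIndex B = Nat.card B := by
  rw [← Subgroup.relIndex_bot_left, Subgroup.relIndex_mul_relIndex ⊥ A B bot_le h,
    Subgroup.relIndex_bot_left]

theorem mul_pow_mem {C : Subgroup G} {c y : G} (hc : c ∈ C)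
    (hy : y ∈ Subgroup.normalizer (C : Set G)) (n : ℕ) : (c * y) ^ n * (y ^ n)⁻¹ ∈ C := by
  induction n with
  | zero => simp
  | succ n ih =>
    have hyn : y ^ n ∈ Subgroup.normalizer (C : Set G) := Subgroup.pow_mem _ hy n
    have h1 : y ^ n * c * (y ^ n)⁻¹ ∈ C := (Subgroup.mem_normalizer_iff.mp hyn c).mp hc
    have e : ∀ A Y : G, A * (c * y) * (Y * y)⁻¹ = (A * Y⁻¹) * (Y * c * Y⁻¹) := by
      intro A Y; group
    rw [pow_succ, pow_succ, e]
    exact C.mul_mem ih h1

theorem exists_max_phi (H₀ : Subgroup G) (hH₀ : IsPGroup p H₀) (hA₀ : Aq q H₀) :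
    ∃ H : Subgroup G, IsPGroup p H ∧ Aq q H ∧
      ∀ K : Subgroup G, IsPGroup p K → Aq q K → phi p K ≤ phi p H := by
  let 𝒮 := {H : Subgroup G // IsPGroup p H ∧ Aq q H}
  haveI : Nonempty 𝒮 := ⟨⟨H₀, hH₀, hA₀⟩⟩
  obtain ⟨⟨H, hH, hA⟩, hmax⟩ := Finite.exists_max (fun H : 𝒮 => phi p H.1)
  exact ⟨H, hH, hA, fun K hK hKA => hmax ⟨K, hK, hKA⟩⟩

/-- for `H` maximizing `phi`, the Sylow `p`-subgroup `T` of `N_G(H)` meets `C_G(H)` inside `H` -/
theorem inf_centralizer_le (H : Subgroup G)
    (hmax : ∀ K : Subgroup G, IsPGroup p K → Aq q K → phi p K ≤ phi p H)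
    (T : Subgroup G) (hHT : H ≤ T) (hTN : T ≤ Subgroup.normalizer (H : Set G)) (hT : IsPGroup p T)
    (hTs : ¬ p ∣ T.relIndex (Subgroup.normalizer (H : Set G)))
    {y : G} (hyN : y ∈ Subgroup.normalizer (H : Set G))
    (hyC : y ∉ Subgroup.centralizer (H : Set G)) {k : ℕ} (hyo : orderOf y = q ^ k) :
    T ⊓ Subgroup.centralizer (H : Set G) ≤ H := by
  by_contra hcon
  have hCN : Subgroup.centralizer (H : Set G) ≤ Subgroup.normalizer (H : Set G) :=
    Subgroup.centralizer_le_normalizer _
  have hNC : Subgroup.normalizer (H : Set G) ≤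
      Subgroup.normalizer ((Subgroup.centralizer (H : Set G) : Subgroup G) : Set G) :=
    fun n hn => mem_normalizer_centralizer hn
  have hHN : H ≤ Subgroup.normalizer (H : Set G) := Subgroup.le_normalizer
  have hMN : H ⊔ Subgroup.centralizer (H : Set G) ≤ Subgroup.normalizer (H : Set G) :=
    sup_le hHN hCN
  have hNM : Subgroup.normalizer (H : Set G) ≤
      Subgroup.normalizer ((H ⊔ Subgroup.centralizer (H : Set G) : Subgroup G) : Set G) :=
    fun n hn => mem_normalizer_sup' hn (hNC hn)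
  have hHH₁ : H ≤ T ⊓ (H ⊔ Subgroup.centralizer (H : Set G)) := le_inf hHT le_sup_left
  have hH₁p : IsPGroup p (T ⊓ (H ⊔ Subgroup.centralizer (H : Set G)) : Subgroup G) :=
    hT.to_le inf_le_left
  have hH₁s : ¬ p ∣ (T ⊓ (H ⊔ Subgroup.centralizer (H : Set G))).relIndex
      (H ⊔ Subgroup.centralizer (H : Set G)) :=
    not_dvd_relIndex_inf_of_normalized hTN hT hTs hMN hNM
  have hlt : Nat.card H < Nat.card (T ⊓ (H ⊔ Subgroup.centralizer (H : Set G)) : Subgroup G) := by
    apply card_lt_card_of_lt'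
    refine lt_of_le_of_ne hHH₁ (fun heq => hcon ?_)
    have h1 : T ⊓ Subgroup.centralizer (H : Set G) ≤
        T ⊓ (H ⊔ Subgroup.centralizer (H : Set G)) := inf_le_inf_left T le_sup_right
    exact h1.trans heq.ge
  have hTH₁ : T ≤ Subgroup.normalizer
      ((T ⊓ (H ⊔ Subgroup.centralizer (H : Set G)) : Subgroup G) : Set G) := fun t ht =>
    mem_normalizer_inf' (Subgroup.le_normalizer ht) (hNM (hTN ht))
  obtain ⟨x, hxM, hxy⟩ := exists_mul_mem_normalizer_of_sylow
    (S₁ := T ⊓ (H ⊔ Subgroup.centralizer (H : Set G))) (M := Subgroup.normalizer (H : Set G))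
    (X := H ⊔ Subgroup.centralizer (H : Set G)) inf_le_right hH₁p hH₁s hNM hyN
  obtain ⟨h, hh, c, hc, rfl⟩ := Cfsg.Agent.Lib.Helper01.exists_mul_of_mem_sup (hHN.trans hNC) hxM
  have hy₁ : c * y ∈ Subgroup.normalizer
      ((T ⊓ (H ⊔ Subgroup.centralizer (H : Set G)) : Subgroup G) : Set G) := by
    have h1 : h ∈ Subgroup.normalizer
        ((T ⊓ (H ⊔ Subgroup.centralizer (H : Set G)) : Subgroup G) : Set G) :=
      Subgroup.le_normalizer (hHH₁ hh)
    have : c * y = h⁻¹ * (h * c * y) := by group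
    rw [this]
    exact mul_mem (inv_mem h1) hxy
  have hy₁C : c * y ∉ Subgroup.centralizer (H : Set G) := by
    intro hcy
    apply hyC
    have : y = c⁻¹ * (c * y) := by group
    rw [this]
    exact mul_mem (inv_mem hc) hcy
  have hy1 : y ^ q ^ k = 1 := by rw [← hyo]; exact pow_orderOf_eq_one y
  have hy₁pow : (c * y) ^ q ^ k ∈ Subgroup.centralizer (H : Set G) := by
    have := mul_pow_mem hc (hNC hyN) (q ^ k)
    rw [hy1, inv_one, mul_one] at this
    exact this
  obtain ⟨j, hj1, i, hj2⟩ := exists_qpart hq.out _ hy₁pow hy₁C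
  have hA : Aq q (T ⊓ (H ⊔ Subgroup.centralizer (H : Set G))) :=
    ⟨(c * y) ^ j, Subgroup.pow_mem _ hy₁ j,
      fun hcc => hj1 (Subgroup.centralizer_le
        (show (H : Set G) ⊆ ((T ⊓ (H ⊔ Subgroup.centralizer (H : Set G)) : Subgroup G) : Set G)
          from hHH₁) hcc), i, hj2⟩
  have h1 := hmax _ hH₁p hA
  have h2 : phi p H < phi p (T ⊓ (H ⊔ Subgroup.centralizer (H : Set G))) := by
    apply phi_lt_of_card_lt _ hlt
    rw [← card_eq_sp hT hTN hTs]
    exact card_le_sp hT hTH₁
  omega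

/-- if the Sylow `p`-subgroup `T` of `N_G(H)` meets `C_G(H)` inside `H` and the automizer of `H` is
`p`-solvable, then `N_G(H)` is `p`-solvable -/
theorem isPSolvable_normalizer (H : Subgroup G)
    (T : Subgroup G) (hTN : T ≤ Subgroup.normalizer (H : Set G)) (hT : IsPGroup p T)
    (hTs : ¬ p ∣ T.relIndex (Subgroup.normalizer (H : Set G)))
    (hZ : T ⊓ Subgroup.centralizer (H : Set G) ≤ H)
    (hsol : IsPSolvable p (↥(Subgroup.normalizer (H : Set G)) ⧸
      (Subgroup.centralizer (H : Set G)).subgroupOf (Subgroup.normalizer (H : Set G)))) :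
    IsPSolvable p ↥(Subgroup.normalizer (H : Set G)) := by
  have hCN : Subgroup.centralizer (H : Set G) ≤ Subgroup.normalizer (H : Set G) :=
    Subgroup.centralizer_le_normalizer _
  have hNC : Subgroup.normalizer (H : Set G) ≤
      Subgroup.normalizer ((Subgroup.centralizer (H : Set G) : Subgroup G) : Set G) :=
    fun n hn => mem_normalizer_centralizer hn
  have hZs : ¬ p ∣ (T ⊓ Subgroup.centralizer (H : Set G)).relIndex
      (Subgroup.centralizer (H : Set G)) :=
    not_dvd_relIndex_inf_of_normalized hTN hT hTs hCN hNC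
  have hZp : IsPGroup p (T ⊓ Subgroup.centralizer (H : Set G) : Subgroup G) := hT.to_le inf_le_left
  have hZc : (T ⊓ Subgroup.centralizer (H : Set G)).subgroupOf (Subgroup.centralizer (H : Set G)) ≤
      Subgroup.center ↥(Subgroup.centralizer (H : Set G)) := by
    intro z hz
    rw [Subgroup.mem_center_iff]
    intro d
    apply Subtype.ext
    have hzH : (z : G) ∈ H := hZ (Subgroup.mem_subgroupOf.mp hz)
    have := Subgroup.mem_centralizer_iff.mp d.2 (z : G) hzH
    simpa using this.symm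
  have hZp' : IsPGroup p ((T ⊓ Subgroup.centralizer (H : Set G)).subgroupOf
      (Subgroup.centralizer (H : Set G))) := hZp.comap_subtype
  have hm : (((T ⊓ Subgroup.centralizer (H : Set G)).subgroupOf
      (Subgroup.centralizer (H : Set G))).index).Coprime p :=
    ((Nat.Prime.coprime_iff_not_dvd hp.out).mpr hZs).symm
  obtain ⟨K, hKcard, hKmem⟩ := Cfsg.Agent.Lib.Helper81.exists_central_complement _ hZc hZp' hm
  have hidx : ((T ⊓ Subgroup.centralizer (H : Set G)).subgroupOf
      (Subgroup.centralizer (H : Set G))).index =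
      (T ⊓ Subgroup.centralizer (H : Set G)).relIndex (Subgroup.centralizer (H : Set G)) := rfl
  rw [hidx] at hKcard hKmem hm
  generalize hmdef : (T ⊓ Subgroup.centralizer (H : Set G)).relIndex
    (Subgroup.centralizer (H : Set G)) = m at hKcard hKmem hm
  have hC₀C : K.map (Subgroup.centralizer (H : Set G)).subtype ≤ Subgroup.centralizer (H : Set G) :=
    Subgroup.map_subtype_le K
  have hC₀card : Nat.card (K.map (Subgroup.centralizer (H : Set G)).subtype) = m := by
    rw [Subgroup.card_map_of_injective (Subgroup.subtype_injective _), hKcard]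
  have hmemC₀ : ∀ x : G, x ∈ K.map (Subgroup.centralizer (H : Set G)).subtype ↔
      x ∈ Subgroup.centralizer (H : Set G) ∧ x ^ m = 1 := by
    intro x
    constructor
    · rintro ⟨d, hd, rfl⟩
      refine ⟨d.2, ?_⟩
      have := (hKmem d).mp hd
      have := congrArg Subtype.val this
      simpa using this
    · rintro ⟨hx1, hx2⟩
      refine ⟨⟨x, hx1⟩, (hKmem _).mpr ?_, rfl⟩
      apply Subtype.ext
      simpa using hx2
  have hNC₀ : Subgroup.normalizer (H : Set G) ≤ Subgroup.normalizer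
      ((K.map (Subgroup.centralizer (H : Set G)).subtype : Subgroup G) : Set G) := by
    intro n hn
    apply mem_normalizer_of_lc_le
    intro x hx
    rw [mem_lc] at hx
    obtain ⟨hx1, hx2⟩ := (hmemC₀ _).mp hx
    have e : x = n * (n⁻¹ * x * n) * n⁻¹ := by group
    rw [hmemC₀]
    constructor
    · rw [e]
      exact (Subgroup.mem_normalizer_iff.mp (hNC hn) _).mp hx1
    · rw [e, conj_pow, hx2]
      group
  have hrel : (K.map (Subgroup.centralizer (H : Set G)).subtype).relIndex
      (Subgroup.centralizer (H : Set G)) =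
      Nat.card (T ⊓ Subgroup.centralizer (H : Set G) : Subgroup G) := by
    have h1 := card_mul_relIndex hC₀C
    have h2 := card_mul_relIndex (inf_le_right :
      T ⊓ Subgroup.centralizer (H : Set G) ≤ Subgroup.centralizer (H : Set G))
    rw [hmdef] at h2
    rw [hC₀card] at h1
    have hm0 : 0 < m := by
      rcases Nat.eq_zero_or_pos m with h0 | h0
      · rw [h0, Nat.coprime_zero_left] at hm
        exact absurd hm hp.out.one_lt.ne'
      · exact h0
    have h3 : m * (K.map (Subgroup.centralizer (H : Set G)).subtype).relIndex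
        (Subgroup.centralizer (H : Set G)) =
        m * Nat.card (T ⊓ Subgroup.centralizer (H : Set G) : Subgroup G) := by
      rw [h1, mul_comm, h2]
    exact Nat.eq_of_mul_eq_mul_left hm0 h3
  obtain ⟨z, hz⟩ := IsPGroup.iff_card.mp hZp
  haveI hAn : ((K.map (Subgroup.centralizer (H : Set G)).subtype).subgroupOf
      (Subgroup.normalizer (H : Set G))).Normal :=
    (Subgroup.normal_subgroupOf_iff_le_normalizer (hC₀C.trans hCN)).mpr hNC₀
  refine isPSolvable_of_normal_chain
    ((K.map (Subgroup.centralizer (H : Set G)).subtype).subgroupOf (Subgroup.normalizer (H : Set G)))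
    ((Subgroup.centralizer (H : Set G)).subgroupOf (Subgroup.normalizer (H : Set G))) ?_ ?_ ?_ hsol
  · intro x hx
    exact hC₀C hx
  · rw [card_subgroupOf_of_le (hC₀C.trans hCN), hC₀card]
    exact hm
  · refine ⟨z, ?_⟩
    rw [Subgroup.relIndex_subgroupOf hCN, hrel, hz]

/-- **Core.** Some subgroup normal in some Sylow `p`-subgroup has a `q`-element in its automizer. -/
theorem exists_normal_in_some_sylow (hpq : p ≠ q) (hΦ : p = 2 → q ≠ 3)
    (hsol : ∀ H : Subgroup G, IsPGroup p ↥H →
      IsPSolvable p (↥(Subgroup.normalizer (H : Set G)) ⧸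
        (Subgroup.centralizer (H : Set G)).subgroupOf (Subgroup.normalizer (H : Set G))))
    (H₀ : Subgroup G) (hH₀ : IsPGroup p H₀) (hA₀ : Aq q H₀) :
    ∃ (P : Sylow p G) (K : Subgroup G), K ≤ (P : Subgroup G) ∧
      (P : Subgroup G) ≤ Subgroup.normalizer (K : Set G) ∧ Aq q K := by
  obtain ⟨H, hH, hA, hmax⟩ := exists_max_phi (p := p) H₀ hH₀ hA₀
  obtain ⟨y, hyN, hyC, k, hyo⟩ := hA
  obtain ⟨T, hHT, hTN, hT, hTs⟩ := exists_sylowIn_ge (p := p)
    (H := Subgroup.normalizer (H : Set G)) (Q := H) hH Subgroup.le_normalizer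
  obtain ⟨P, hTP⟩ := hT.exists_le_sylow
  by_cases hne : T = (P : Subgroup G)
  · refine ⟨P, H, ?_, ?_, ⟨y, hyN, hyC, k, hyo⟩⟩
    · rw [← hne]; exact hHT
    · rw [← hne]; exact hTN
  exfalso
  have hlt : T < (P : Subgroup G) ⊓ Subgroup.normalizer (T : Set G) :=
    lt_inf_normalizer_of_ne P.2 hTP hne
  have hZ := inf_centralizer_le (p := p) (q := q) H hmax T hHT hTN hT hTs hyN hyC hyo
  have hNsolv := isPSolvable_normalizer (p := p) H T hTN hT hTs hZ (hsol H hH)
  -- the local step inside `N_G(H)`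
  have hHp' : IsPGroup p (H.subgroupOf (Subgroup.normalizer (H : Set G))) := hH.comap_subtype
  have hTp' : IsPGroup p (T.subgroupOf (Subgroup.normalizer (H : Set G))) := hT.comap_subtype
  let TΓ : Sylow p ↥(Subgroup.normalizer (H : Set G)) := hTp'.toSylow hTs
  have hyΓo : orderOf (⟨y, hyN⟩ : ↥(Subgroup.normalizer (H : Set G))) = q ^ k := by
    rw [Subgroup.orderOf_mk]; exact hyo
  have hyΓC : (⟨y, hyN⟩ : ↥(Subgroup.normalizer (H : Set G))) ∉
      Subgroup.centralizer ((H.subgroupOf (Subgroup.normalizer (H : Set G)) :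
        Subgroup ↥(Subgroup.normalizer (H : Set G))) : Set ↥(Subgroup.normalizer (H : Set G))) := by
    intro hc
    apply hyC
    rw [Subgroup.mem_centralizer_iff] at hc ⊢
    intro h hh
    have := hc ⟨h, Subgroup.le_normalizer hh⟩ (Subgroup.mem_subgroupOf.mpr hh)
    exact congrArg Subtype.val this
  obtain ⟨K₀, hK₀c, _, g, ⟨i, hgi⟩, hgN, hgC⟩ :=
    exists_char_moved hpq hΦ hNsolv (H.subgroupOf (Subgroup.normalizer (H : Set G))) hHp' TΓ
      hyΓo hyΓC
  obtain ⟨K'', hK''c, hgN, hgC⟩ : ∃ K'' : Subgroup ↥(T.subgroupOf (Subgroup.normalizer (H : Set G))),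
      K''.Characteristic ∧
      g ∈ Subgroup.normalizer ((K''.map (T.subgroupOf (Subgroup.normalizer (H : Set G))).subtype :
        Subgroup ↥(Subgroup.normalizer (H : Set G))) : Set ↥(Subgroup.normalizer (H : Set G))) ∧
      g ∉ Subgroup.centralizer ((K''.map (T.subgroupOf (Subgroup.normalizer (H : Set G))).subtype :
        Subgroup ↥(Subgroup.normalizer (H : Set G))) : Set ↥(Subgroup.normalizer (H : Set G))) :=
    ⟨K₀, hK₀c, hgN, hgC⟩
  -- transport to `G`
  let ι : ↥(T.subgroupOf (Subgroup.normalizer (H : Set G))) →* G :=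
    (Subgroup.normalizer (H : Set G)).subtype.comp
      (T.subgroupOf (Subgroup.normalizer (H : Set G))).subtype
  have hιinj : Function.Injective ι :=
    (Subgroup.subtype_injective _).comp (Subgroup.subtype_injective _)
  have hιrange : ι.range = T := by
    ext x
    constructor
    · rintro ⟨z, rfl⟩
      exact z.2
    · intro hx
      exact ⟨⟨⟨x, hTN hx⟩, hx⟩, rfl⟩
  have hmap : (K''.map (T.subgroupOf (Subgroup.normalizer (H : Set G))).subtype).map
      (Subgroup.normalizer (H : Set G)).subtype = K''.map ι := by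
    rw [Subgroup.map_map]
  haveI := hK''c
  have hNK : Subgroup.normalizer (T : Set G) ≤ Subgroup.normalizer ((K''.map ι : Subgroup G) : Set G) :=
    Cfsg.Agent.Lib.Helper58.KChar.normalizer_le_normalizer_map_of_char ι hιinj T hιrange K''
  have hKT : K''.map ι ≤ T := by
    have h0 : K''.map ι ≤ ι.range := by
      rintro _ ⟨z, _, rfl⟩
      exact ⟨z, rfl⟩
    exact h0.trans hιrange.le
  have hgN' : (g : G) ∈ Subgroup.normalizer ((K''.map ι : Subgroup G) : Set G) := by
    rw [← hmap]
    exact Subgroup.le_normalizer_map (Subgroup.normalizer (H : Set G)).subtype ⟨g, hgN, rfl⟩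
  have hgC' : (g : G) ∉ Subgroup.centralizer ((K''.map ι : Subgroup G) : Set G) := by
    intro hc
    apply hgC
    rw [← hmap] at hc
    rw [Subgroup.mem_centralizer_iff] at hc ⊢
    intro z hz
    apply Subtype.ext
    exact hc (z : G) ⟨z, hz, rfl⟩
  have hAK : Aq q (K''.map ι) := ⟨(g : G), hgN', hgC', i, by rw [Subgroup.orderOf_coe]; exact hgi⟩
  have h1 := hmax _ (hT.to_le hKT) hAK
  have h2 : phi p H < phi p (K''.map ι) := by
    apply phi_lt_of_sp_lt
    rw [← card_eq_sp hT hTN hTs]
    have h3 : Nat.card T < Nat.card ((P : Subgroup G) ⊓ Subgroup.normalizer (T : Set G) : Subgroup G) :=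
      card_lt_card_of_lt' hlt
    have h4 : Nat.card ((P : Subgroup G) ⊓ Subgroup.normalizer (T : Set G) : Subgroup G) ≤
        sp p (Subgroup.normalizer ((K''.map ι : Subgroup G) : Set G)) :=
      card_le_sp (P.2.to_le inf_le_left) (inf_le_right.trans hNK)
    omega
  omega

/-- **Main theorem.** -/
theorem exists_normal_in_sylow (hpq : p ≠ q) (h23 : ¬ ((p = 2 ∧ q = 3) ∨ (p = 3 ∧ q = 2)))
    (hsol : ∀ H : Subgroup G, IsPGroup p ↥H →
      IsPSolvable p (↥(Subgroup.normalizer (H : Set G)) ⧸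
        (Subgroup.centralizer (H : Set G)).subgroupOf (Subgroup.normalizer (H : Set G))))
    (H : Subgroup G) (hH : IsPGroup p ↥H)
    (hqd : q ∣ ((Subgroup.centralizer (H : Set G)).subgroupOf
      (Subgroup.normalizer (H : Set G))).index)
    (Gp : Sylow p G) :
    ∃ K : Subgroup G, K ≤ (Gp : Subgroup G) ∧ (Gp : Subgroup G) ≤ Subgroup.normalizer (K : Set G) ∧
      q ∣ ((Subgroup.centralizer (K : Set G)).subgroupOf (Subgroup.normalizer (K : Set G))).index := by
  have hΦ : p = 2 → q ≠ 3 := fun h2 h3 => h23 (Or.inl ⟨h2, h3⟩)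
  obtain ⟨P, K, hKP, hPK, hAK⟩ :=
    exists_normal_in_some_sylow hpq hΦ hsol H hH (aq_of_dvd H hqd)
  obtain ⟨g, hg⟩ := MulAction.exists_smul_eq G P Gp
  have hgP : lc g (P : Subgroup G) = (Gp : Subgroup G) := by rw [← hg]; rfl
  refine ⟨lc g K, ?_, ?_, dvd_of_aq _ (aq_lc g hAK)⟩
  · rw [← hgP]; exact lc_mono hKP
  · rw [← hgP, normalizer_lc]; exact lc_mono hPK

end Cfsg.Agent.Lib.Helper12.AutQMain
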