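import Mathlib
import Cfsg.Agent.Lib.Helper02.BG1310Defs
import Cfsg.Agent.Lib.Helper84.BG134T
import Cfsg.Agent.Lib.Helper13.BG12B
import Cfsg.Agent.Lib.Helper54.BG134A3a
import Cfsg.Agent.Lib.Helper31.BG139L178
import Cfsg.Agent.Lib.Helper71.BG10Sub
import Cfsg.Agent.Lib.Helper71.BG11a
import Cfsg.Agent.Lib.Helper03.CoprimeAbelian
import Cfsg.Agent.Lib.Helper12.CNMaxSub
import Cfsg.Agent.S1350

/-!
# K-LD2-I (keystone 143104): type (I) gives `C₃ ≤ C₁` (BG 13.10, helper83's argument)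
-/

set_option autoImplicit false

namespace Cfsg.Agent.Lib.Helper12.BG1310

open Cfsg Cfsg.Agent.Lib.Helper55 Cfsg.Agent.Lib.Helper31.BG134 Cfsg.Agent.Lib.Helper15.BG139
  Cfsg.Agent.Lib.Helper02.BG1310

variable {G : Type*} [Group G] [Finite G]

/-- a subgroup containing all subgroups of prime power order of `E` contains `E` -/
theorem le_of_pgroups_le {E K : Subgroup G}
    (h : ∀ (s : ℕ) [Fact s.Prime] (S : Subgroup G), S ≤ E → IsPGroup s S → S ≤ K) : E ≤ K := by
  have hEpos : Nat.card E ≠ 0 := Nat.card_pos.ne'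
  have hKpos : Nat.card ↥(K ⊓ E) ≠ 0 := Nat.card_pos.ne'
  have hdvd : Nat.card E ∣ Nat.card ↥(K ⊓ E) := by
    rw [← Nat.factorization_prime_le_iff_dvd hEpos hKpos]
    intro s hs
    haveI : Fact s.Prime := ⟨hs⟩
    obtain ⟨Q⟩ : Nonempty (Sylow s ↥E) := inferInstance
    have hQE : (Q : Subgroup ↥E).map E.subtype ≤ E := Subgroup.map_subtype_le _
    have hQp : IsPGroup s ((Q : Subgroup ↥E).map E.subtype) := Q.isPGroup'.map _
    have hQK : (Q : Subgroup ↥E).map E.subtype ≤ K ⊓ E := le_inf (h s _ hQE hQp) hQE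
    have hc : Nat.card ((Q : Subgroup ↥E).map E.subtype) = s ^ (Nat.card E).factorization s := by
      rw [Nat.card_congr ((Q : Subgroup ↥E).equivMapOfInjective E.subtype
        E.subtype_injective).symm.toEquiv]
      exact Q.card_eq_multiplicity
    have := Subgroup.card_dvd_of_le hQK
    rw [hc] at this
    exact (hs.pow_dvd_iff_le_factorization hKpos).mp this
  have heq : K ⊓ E = E :=
    Subgroup.eq_of_le_of_card_ge inf_le_right (Nat.le_of_dvd Nat.card_pos hdvd)
  rw [← heq]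
  exact inf_le_left

/-- **KEYSTONE 143104  K-LD2-I**: type (I) gives `C₃ ≤ C₁`. -/
theorem typeI_cent_le (hTX : HTX G) (h28 : H1428 G) {M E E₁ E₃ : Subgroup G}
    (d : NRS M E E₁ E₃) (hI : TypeI M E₁ E₃) : CP M E₃ ≤ CP M E₁ := by
  by_contra hne
  have hG := d.nr.hG
  have hM := d.nr.hM
  have hE := d.nr.hE
  obtain ⟨S₀', hS₀'E, hS₀'c, hS₀'C⟩ := d.nr.hnr
  have hS₀'ne : S₀' ≠ ⊥ := by
    intro h
    rw [h, Subgroup.card_bot] at hS₀'c
    exact Nat.not_prime_one hS₀'c
  have hC₃ne : CP M E₃ ≠ ⊥ := by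
    rw [← d.hC₃ S₀' hS₀'E hS₀'ne]; exact hS₀'C
  have hE₃ne : E₃ ≠ ⊥ := fun h => hS₀'ne (le_bot_iff.mp (h ▸ hS₀'E))
  have hE₁E : E₁ ≤ E := d.nr.hE₁.1
  have hE₃E : E₃ ≤ E := d.nr.hE₃.1
  have hEM : E ≤ M := hE.1
  -- no subgroup of prime order of `E₁` centralizes `C₃`
  have h3 : ∀ P : Subgroup G, P ≤ E₁ → (Nat.card P).Prime →
      ¬ CP M E₃ ≤ Subgroup.centralizer (P : Set G) := by
    intro P hP hPc hle
    apply hne
    have hPne : P ≠ ⊥ := by
      intro h
      rw [h, Subgroup.card_bot] at hPc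
      exact Nat.not_prime_one hPc
    rw [← d.hC₁ P hP hPne]
    exact le_inf inf_le_left hle
  -- key claim: every subgroup of prime power order of `E₃` centralizes `E₁`
  have key : ∀ (s : ℕ) [Fact s.Prime] (S : Subgroup G), S ≤ E₃ → IsPGroup s S →
      S ≤ Subgroup.centralizer (E₁ : Set G) := by
    intro s _ S hSE hS
    have hs : s.Prime := Fact.out
    by_cases hS1 : S = ⊥
    · rw [hS1]; exact bot_le
    by_cases hE₁1 : E₁ = ⊥
    · intro z _
      rw [Subgroup.mem_centralizer_iff]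
      intro w hw
      have hw' : w ∈ E₁ := hw
      rw [hE₁1, Subgroup.mem_bot] at hw'
      rw [hw']; simp
    -- a subgroup `S₀ ≤ S` of order `s`
    have hsd : s ∣ Nat.card S := by
      obtain ⟨n, hn⟩ := IsPGroup.iff_card.mp hS
      have hn0 : n ≠ 0 := by
        intro h0
        rw [h0, pow_zero] at hn
        exact hS1 (Subgroup.card_eq_one.mp hn)
      rw [hn]; exact dvd_pow_self s hn0
    obtain ⟨x, hx⟩ := exists_prime_orderOf_dvd_card' s hsd
    have hS₀S : Subgroup.zpowers (x : G) ≤ S := Subgroup.zpowers_le.mpr x.2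
    have hS₀E₃ : Subgroup.zpowers (x : G) ≤ E₃ := hS₀S.trans hSE
    have hS₀c : Nat.card (Subgroup.zpowers (x : G)) = s := by
      rw [Nat.card_zpowers, Subgroup.orderOf_coe, hx]
    have hS₀ne : Subgroup.zpowers (x : G) ≠ ⊥ := by
      intro h
      rw [h, Subgroup.card_bot] at hS₀c
      exact hs.one_lt.ne hS₀c
    have hS₀top : Subgroup.zpowers (x : G) ≠ ⊤ := by
      intro h
      apply hM.1
      rw [eq_top_iff, ← h]
      exact hS₀E₃.trans (hE₃E.trans hEM)
    obtain ⟨H, hH, hNH⟩ :=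
      Cfsg.Agent.Lib.Helper12.CNMaxSub.exists_coatom_normalizer_le hG hS₀ne hS₀top
    obtain ⟨hEH, hnc, hMH⟩ := d.hH _ H hS₀E₃ (hS₀c ▸ hs) hH hNH
    have hs3 : s ∈ tau3 M :=
      d.nr.hE₃.2.1 s hs (hsd.trans (Subgroup.card_dvd_of_le hSE))
    have hCS₀ : CP M (Subgroup.zpowers (x : G)) ≠ ⊥ := by
      rw [d.hC₃ _ hS₀E₃ hS₀ne]; exact hC₃ne
    have hsH : s ∈ sigma H :=
      hTX M H _ s hM hH (Or.inr hs3) (hS₀E₃.trans (hE₃E.trans hEM)) hS₀c hCS₀ hNH
    -- the primes of `|E₁|` lie in `τ₁(H)`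
    have hp1 : ∀ p : ℕ, p.Prime → p ∣ Nat.card E₁ → p ∈ tau1 H := by
      intro p hp hpd
      by_contra hnot
      haveI : Fact p.Prime := ⟨hp⟩
      obtain ⟨y, hy⟩ := exists_prime_orderOf_dvd_card' p hpd
      have hPE₁ : Subgroup.zpowers (y : G) ≤ E₁ := Subgroup.zpowers_le.mpr y.2
      have hPc : Nat.card (Subgroup.zpowers (y : G)) = p := by
        rw [Nat.card_zpowers, Subgroup.orderOf_coe, hy]
      have hpM1 : p ∈ tau1 M := d.nr.hE₁.2.1 p hp hpd
      have hPp : IsPGroup p (Subgroup.zpowers (y : G)) :=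
        IsPGroup.of_card (n := 1) (by rw [hPc, pow_one])
      have := Cfsg.Agent.Lib.Helper84.BG134.lemmaT hG hM hH hnc hpM1.2.1 hnot hPp
        (hPE₁.trans (hE₁E.trans hEM)) (hPE₁.trans (hE₁E.trans hEH))
      rw [hMH] at this
      exact h3 _ hPE₁ (hPc ▸ hp) this
    have hHall : IsPiHallOf (sigma H) (sigmaCore H) H := (Cfsg.Agent.S1350.result hG H hH).1
    have hE₁H : E₁ ≤ H := hE₁E.trans hEH
    obtain ⟨EH, hEHc, hE₁EH⟩ := Cfsg.Agent.Lib.Helper13.BG12.exists_complIn_ge hG hH hHall hE₁H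
      (fun p hp hpd => (hp1 p hp hpd).2.1)
    have hsolvH : Group.IsSolvable ↥H := ms_solvable hG hH.1
    have hsolvEH : Group.IsSolvable ↥EH :=
      Group.isSolvable_of_isSolvable_injective (Subgroup.inclusion_injective hEHc.1)
    obtain ⟨F₁, hF₁, hE₁F₁⟩ :=
      Cfsg.Agent.Lib.Helper54.BG134.exists_isPiHallOf_ge hsolvEH (tau1 H) hE₁EH hp1
    have hPA : PrimeAct H F₁ := Cfsg.Agent.Lib.Helper31.BG139.primeAct hG hH h28 hEHc hF₁
    -- a subgroup of prime order of `E₁`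
    have hcard1 : Nat.card E₁ ≠ 1 := fun h => hE₁1 (Subgroup.card_eq_one.mp h)
    obtain ⟨p, hp, hpd⟩ := Nat.exists_prime_and_dvd hcard1
    haveI : Fact p.Prime := ⟨hp⟩
    obtain ⟨y, hy⟩ := exists_prime_orderOf_dvd_card' p hpd
    have hy1 : (y : G) ≠ 1 := by
      intro h
      have : orderOf (y : G) = 1 := by rw [h, orderOf_one]
      rw [Subgroup.orderOf_coe, hy] at this
      exact hp.one_lt.ne' this
    have hyF : (y : G) ∈ F₁ := hE₁F₁ y.2
    have hPc : Nat.card (Subgroup.zpowers (y : G)) = p := by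
      rw [Nat.card_zpowers, Subgroup.orderOf_coe, hy]
    have hE₃P : E₃ ≤ Subgroup.centralizer ((Subgroup.zpowers (y : G) : Subgroup G) : Set G) :=
      hI.1 _ (Subgroup.zpowers_le.mpr y.2) (hPc ▸ hp)
    have hSH : S ≤ H := hSE.trans (hE₃E.trans hEH)
    have hSσ : S ≤ sigmaCore H := by
      apply Cfsg.Agent.Lib.Helper71.BG10.le_of_isPiHallOf_normal hHall
        (Cfsg.Agent.Lib.Helper71.BG11.le_normalizer_sigmaCore H) hSH
      intro q hq hqd
      obtain ⟨n, hn⟩ := IsPGroup.iff_card.mp hS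
      rw [hn] at hqd
      have := (Nat.prime_dvd_prime_iff_eq hq hs).mp (hq.dvd_of_dvd_pow hqd)
      rw [this]; exact hsH
    have hSy : S ≤ Subgroup.centralizer ({(y : G)} : Set G) := by
      intro z hz
      have h1 := hE₃P (hSE hz)
      rw [Subgroup.mem_centralizer_iff] at h1 ⊢
      intro w hw
      rw [Set.mem_singleton_iff] at hw
      subst hw
      exact h1 _ (Subgroup.mem_zpowers _)
    have h5 := hPA (y : G) hyF hy1
    exact (le_inf hSσ hSy).trans (h5.trans (Subgroup.centralizer_le (by exact_mod_cast hE₁F₁)))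
  have hcent : E₃ ≤ Subgroup.centralizer (E₁ : Set G) := le_of_pgroups_le key
  -- (a): then `E₃` is central in `E`, impossible for a Hall subgroup inside `E'`
  have hE₃comm : IsMulCommutative E₃ := by
    haveI := d.hE₃c
    exact IsCyclic.isMulCommutative
  have hE₃Z : E₃ ≤ Subgroup.centralizer (E : Set G) := by
    intro z hz
    rw [Subgroup.mem_centralizer_iff]
    intro e he
    obtain ⟨a, ha, b, hb, rfl⟩ := d.hfac e he
    have h1 : a * z = z * a := by
      have := isMulCommutative_iff.mp hE₃comm ⟨a, ha⟩ ⟨z, hz⟩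
      exact congrArg Subtype.val this
    have h2 : b * z = z * b := by
      have := hcent hz
      rw [Subgroup.mem_centralizer_iff] at this
      exact this b hb
    calc a * b * z = a * (b * z) := by group
      _ = a * (z * b) := by rw [h2]
      _ = (a * z) * b := by group
      _ = (z * a) * b := by rw [h1]
      _ = z * (a * b) := by group
  have hcop : Nat.Coprime (Nat.card E₃) (E₃.relIndex E) := by
    apply Nat.Coprime.symm
    rw [Nat.coprime_comm]
    apply Nat.coprime_of_dvd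
    intro q hq hq1 hq2
    exact d.nr.hE₃.2.2 q hq (d.nr.hE₃.2.1 q hq hq1) hq2
  have hbot := Cfsg.Agent.Lib.Helper03.commutator_inf_centralizer_inf_eq_bot_of_abelian_hall
    E₃ E hE₃E hE₃comm hcop
  apply hE₃ne
  rw [eq_bot_iff, ← hbot]
  exact le_inf (le_inf d.hE₃d hE₃Z) le_rfl

end Cfsg.Agent.Lib.Helper12.BG1310
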