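import Mathlib

/-!
# K-CD3-GRP (keystone 446025, pack S4460): the group lemma (Isaacs 12.3(b))

A finite solvable nonabelian group `X` whose derived subgroup lies in every nontrivial normal
subgroup, and which is not of prime power order, is a Frobenius group `X' ⋊ Q` with `X'` an abelian
`r`-group and `Q` abelian.
-/

set_option autoImplicit false

universe u

namespace Cfsg.Agent.Lib.Helper12.CD3

open Subgroup
open scoped commutatorElement

section

variable {X : Type u} [Group X]

/-- a subgroup containing the derived subgroup is normal -/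
theorem normal_of_commutator_le {H : Subgroup X} (h : commutator X ≤ H) : H.Normal := by
  refine ⟨fun x hx g => ?_⟩
  have h1 : g * x * g⁻¹ = ⁅g, x⁆ * x := by
    rw [commutatorElement_def]; group
  rw [h1]
  exact H.mul_mem (h (commutator_mem_commutator (mem_top g) (mem_top x))) hx

end

/-- 446025 K-CD3-GRP: GROUP LEMMA (Isaacs 12.3(b), pure group theory, Mathlib only). -/
theorem frobenius_structure {X : Type u} [Group X] [Finite X] (hsolv : Group.IsSolvable X)
    (hnab : ∃ a b : X, a * b ≠ b * a)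
    (hmin : ∀ L : Subgroup X, L.Normal → L ≠ ⊥ → commutator X ≤ L)
    (hnp : ∀ p : ℕ, p.Prime → ¬ IsPGroup p X) :
    ∃ (r : ℕ) (Q : Subgroup X), r.Prime ∧ IsPGroup r (commutator X) ∧
      (∀ a ∈ commutator X, ∀ b ∈ commutator X, a * b = b * a) ∧
      (∀ a ∈ Q, ∀ b ∈ Q, a * b = b * a) ∧
      commutator X ⊓ Q = ⊥ ∧ commutator X ⊔ Q = ⊤ ∧ (Nat.card Q).Coprime r ∧
      (∀ q ∈ Q, q ≠ 1 → ∀ v ∈ commutator X, q * v = v * q → v = 1) ∧
      (∀ g : X, g ∉ commutator X → ∀ v ∈ commutator X, g * v = v * g → v = 1) ∧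
      (commutator X).index = Nat.card Q ∧ 1 < Nat.card Q ∧
      ∃ a : ℕ, 0 < a ∧ Nat.card (commutator X) = r ^ a := by
  classical
  set V : Subgroup X := commutator X with hV
  have hVn : V.Normal := inferInstance
  -- `V ≠ ⊥`
  have hV1 : V ≠ ⊥ := by
    intro h
    obtain ⟨a, b, hab⟩ := hnab
    apply hab
    have h1 : ⁅a, b⁆ ∈ V := commutator_mem_commutator (mem_top a) (mem_top b)
    rw [h, mem_bot] at h1
    exact commutatorElement_eq_one_iff_mul_comm.mp h1
  -- `V` is abelian
  have hVab : ∀ a ∈ V, ∀ b ∈ V, a * b = b * a := by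
    have hVV : ⁅V, V⁆ < V := by
      haveI : Nontrivial V := (nontrivial_iff_ne_bot V).mpr hV1
      have h1 : commutator V < ⊤ := Group.IsSolvable.commutator_lt_top_of_nontrivial V
      rw [← map_subtype_commutator]
      have h2 := (map_lt_map_iff_of_injective V.subtype_injective).mpr h1
      rwa [← MonoidHom.range_eq_map, range_subtype] at h2
    have hVVn : (⁅V, V⁆ : Subgroup X).Normal := commutator_normal V V
    have hbot : ⁅V, V⁆ = ⊥ := by
      by_contra hne
      exact absurd (hmin _ hVVn hne) (not_le_of_gt hVV)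
    intro a ha b hb
    have h1 : ⁅a, b⁆ ∈ ⁅V, V⁆ := commutator_mem_commutator ha hb
    rw [hbot, mem_bot] at h1
    exact commutatorElement_eq_one_iff_mul_comm.mp h1
  -- a prime `r` dividing `|V|`
  have hVcard : Nat.card V ≠ 1 := fun h => hV1 (card_eq_one.mp h)
  obtain ⟨r, hr, hrV⟩ := Nat.exists_prime_and_dvd hVcard
  haveI : Fact r.Prime := ⟨hr⟩
  -- the `r`-torsion of `V`
  let W : Subgroup X :=
    { carrier := {v | v ∈ V ∧ v ^ r = 1}
      one_mem' := ⟨V.one_mem, one_pow r⟩
      mul_mem' := by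
        rintro a b ⟨ha, ha'⟩ ⟨hb, hb'⟩
        refine ⟨V.mul_mem ha hb, ?_⟩
        have hc : Commute a b := hVab a ha b hb
        rw [hc.mul_pow, ha', hb', one_mul]
      inv_mem' := by
        rintro a ⟨ha, ha'⟩
        exact ⟨V.inv_mem ha, by rw [inv_pow, ha', inv_one]⟩ }
  have hWn : W.Normal := by
    refine ⟨fun x hx g => ?_⟩
    obtain ⟨hxV, hxr⟩ := hx
    refine ⟨hVn.conj_mem x hxV g, ?_⟩
    rw [conj_pow, hxr, mul_one, mul_inv_cancel]
  have hW1 : W ≠ ⊥ := by
    obtain ⟨x, hx⟩ := exists_prime_orderOf_dvd_card' (G := V) r hrV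
    intro h
    have hxW : (x : X) ∈ W := by
      refine ⟨x.2, ?_⟩
      have := pow_orderOf_eq_one x
      rw [hx] at this
      have h2 := congrArg Subtype.val this
      simpa using h2
    rw [h, mem_bot] at hxW
    have hx1 : x = 1 := Subtype.ext hxW
    rw [hx1, orderOf_one] at hx
    exact hr.one_lt.ne hx
  have hVW : V ≤ W := hmin W hWn hW1
  have hVr : ∀ v ∈ V, v ^ r = 1 := fun v hv => (hVW hv).2
  have hVp : IsPGroup r V := by
    intro g
    refine ⟨1, ?_⟩
    rw [pow_one]
    apply Subtype.ext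
    simpa using hVr g g.2
  obtain ⟨a, ha⟩ := (IsPGroup.iff_card).mp hVp
  have ha0 : 0 < a := by
    rcases Nat.eq_zero_or_pos a with h | h
    · rw [h, pow_zero] at ha
      exact absurd ha hVcard
    · exact h
  -- a prime `q ≠ r` dividing `|X|`
  have hXcard : Nat.card X ≠ 0 := Nat.card_pos.ne'
  obtain ⟨q, hq, hqX, hqr⟩ : ∃ q : ℕ, q.Prime ∧ q ∣ Nat.card X ∧ q ≠ r := by
    by_contra hcon
    push Not at hcon
    have h1 := Nat.eq_prime_pow_of_unique_prime_dvd hXcard (fun {d} hd hdvd => hcon d hd hdvd)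
    exact hnp r hr (IsPGroup.of_card h1)
  haveI : Fact q.Prime := ⟨hq⟩
  obtain P : Sylow q X := default
  have hP1 : (P : Subgroup X) ≠ ⊥ := P.ne_bot_of_dvd_card hqX
  -- Frattini
  have hVPn : (V ⊔ (P : Subgroup X)).Normal := normal_of_commutator_le le_sup_left
  have hfr : normalizer ((P : Subgroup X) : Set X) ⊔ (V ⊔ (P : Subgroup X)) = ⊤ :=
    Sylow.normalizer_sup_eq_top' P le_sup_right
  set Q : Subgroup X := normalizer ((P : Subgroup X) : Set X) with hQ
  have hPQ : (P : Subgroup X) ≤ Q := le_normalizer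
  have hQV : V ⊔ Q = ⊤ := by
    rw [eq_top_iff, ← hfr]
    refine sup_le le_sup_right (sup_le le_sup_left (hPQ.trans le_sup_right))
  -- every element is `v * n`
  have hdecomp : ∀ g : X, ∃ v ∈ V, ∃ n ∈ Q, g = v * n := by
    intro g
    have hg : g ∈ ((V ⊔ Q : Subgroup X) : Set X) := by rw [hQV]; exact Set.mem_univ g
    rw [normal_mul V Q] at hg
    obtain ⟨v, hv, n, hn, rfl⟩ := Set.mem_mul.mp hg
    exact ⟨v, hv, n, hn, rfl⟩
  -- `V ⊓ Q = ⊥`
  have hVQn : (V ⊓ Q).Normal := by
    refine ⟨fun x hx g => ?_⟩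
    obtain ⟨hxV, hxQ⟩ := mem_inf.mp hx
    obtain ⟨v, hv, n, hn, rfl⟩ := hdecomp g
    have h1 : v * n * x * (v * n)⁻¹ = v * (n * x * n⁻¹) * v⁻¹ := by group
    have hnx : n * x * n⁻¹ ∈ V := hVn.conj_mem x hxV n
    have h2 : v * (n * x * n⁻¹) * v⁻¹ = n * x * n⁻¹ := by
      rw [hVab v hv _ hnx, mul_inv_cancel_right]
    rw [h1, h2]
    exact mem_inf.mpr ⟨hnx, Q.mul_mem (Q.mul_mem hn hxQ) (Q.inv_mem hn)⟩
  have hVQ : V ⊓ Q = ⊥ := by
    by_contra hne
    have hle : V ≤ V ⊓ Q := hmin _ hVQn hne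
    have hVleQ : V ≤ Q := hle.trans inf_le_right
    have hQtop : Q = ⊤ := by
      rw [eq_top_iff, ← hQV]
      exact sup_le hVleQ le_rfl
    have hPn : (P : Subgroup X).Normal := normalizer_eq_top_iff.mp hQtop
    have hVP : V ≤ (P : Subgroup X) := hmin _ hPn hP1
    -- an element of order `r` in the `q`-group `P`
    obtain ⟨x, hx⟩ := exists_prime_orderOf_dvd_card' (G := V) r hrV
    have hxP : (x : X) ∈ (P : Subgroup X) := hVP x.2
    obtain ⟨k, hk⟩ := P.isPGroup' ⟨(x : X), hxP⟩
    have hk' : (x : X) ^ q ^ k = 1 := by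
      have := congrArg Subtype.val hk
      simpa using this
    have hord : orderOf (x : X) = r := by rw [orderOf_coe, hx]
    have hdvd : r ∣ q ^ k := by rw [← hord]; exact orderOf_dvd_of_pow_eq_one hk'
    have : r ∣ q := hr.dvd_of_dvd_pow hdvd
    exact hqr ((Nat.prime_dvd_prime_iff_eq hr hq).mp this).symm
  -- `Q` is abelian
  have hQab : ∀ a ∈ Q, ∀ b ∈ Q, a * b = b * a := by
    intro a ha b hb
    have h1 : ⁅a, b⁆ ∈ V := commutator_mem_commutator (mem_top a) (mem_top b)
    have h2 : ⁅a, b⁆ ∈ Q := by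
      rw [commutatorElement_def]
      exact Q.mul_mem (Q.mul_mem (Q.mul_mem ha hb) (Q.inv_mem ha)) (Q.inv_mem hb)
    have h3 : ⁅a, b⁆ ∈ V ⊓ Q := mem_inf.mpr ⟨h1, h2⟩
    rw [hVQ, mem_bot] at h3
    exact commutatorElement_eq_one_iff_mul_comm.mp h3
  -- an element of `Q` centralising `V` is trivial
  have hfaith : ∀ n ∈ Q, (∀ v ∈ V, n * v = v * n) → n = 1 := by
    intro n hn hcent
    by_contra hn1
    have hcentral : ∀ g : X, g * n = n * g := by
      intro g
      obtain ⟨v, hv, m, hm, rfl⟩ := hdecomp g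
      rw [mul_assoc, hQab m hm n hn, ← mul_assoc, ← hcent v hv, mul_assoc]
    have hZn : (zpowers n).Normal := by
      refine ⟨fun x hx g => ?_⟩
      obtain ⟨k, rfl⟩ := mem_zpowers_iff.mp hx
      have : g * n ^ k * g⁻¹ = n ^ k := by
        have hc : Commute g n := hcentral g
        rw [(hc.zpow_right k).eq, mul_inv_cancel_right]
      rw [this]
      exact zpow_mem (mem_zpowers n) k
    have hZ1 : zpowers n ≠ ⊥ := by
      intro h
      apply hn1
      have := mem_zpowers n
      rwa [h, mem_bot] at this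
    have hle : V ≤ zpowers n := hmin _ hZn hZ1
    have hle2 : V ≤ V ⊓ Q := le_inf le_rfl (hle.trans (zpowers_le.mpr hn))
    rw [hVQ] at hle2
    exact hV1 (le_bot_iff.mp hle2)
  -- fixed-point-freeness
  have hfpf : ∀ n ∈ Q, n ≠ 1 → ∀ v ∈ V, n * v = v * n → v = 1 := by
    intro n hn hn1 v hv hnv
    let F : Subgroup X := V ⊓ centralizer ({n} : Set X)
    have hFmem : ∀ x : X, x ∈ F ↔ x ∈ V ∧ n * x = x * n := by
      intro x
      rw [mem_inf, mem_centralizer_iff]
      constructor
      · rintro ⟨h1, h2⟩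
        exact ⟨h1, h2 n (Set.mem_singleton n)⟩
      · rintro ⟨h1, h2⟩
        refine ⟨h1, fun c hc => ?_⟩
        rw [Set.mem_singleton_iff] at hc
        rw [hc]; exact h2
    have hFn : F.Normal := by
      refine ⟨fun x hx g => ?_⟩
      obtain ⟨hxV, hxn⟩ := (hFmem x).mp hx
      obtain ⟨w, hw, m, hm, rfl⟩ := hdecomp g
      have h1 : w * m * x * (w * m)⁻¹ = w * (m * x * m⁻¹) * w⁻¹ := by group
      have hmx : m * x * m⁻¹ ∈ V := hVn.conj_mem x hxV m
      have h2 : w * (m * x * m⁻¹) * w⁻¹ = m * x * m⁻¹ := by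
        rw [hVab w hw _ hmx, mul_inv_cancel_right]
      rw [h1, h2, hFmem]
      refine ⟨hmx, ?_⟩
      have hnm : n * m = m * n := hQab n hn m hm
      have hnm' : n * m⁻¹ = m⁻¹ * n := by
        have := hQab n hn m⁻¹ (Q.inv_mem hm)
        exact this
      calc n * (m * x * m⁻¹) = (n * m) * x * m⁻¹ := by group
        _ = m * (n * x) * m⁻¹ := by rw [hnm]; group
        _ = m * (x * n) * m⁻¹ := by rw [hxn]
        _ = m * x * (n * m⁻¹) := by group
        _ = m * x * (m⁻¹ * n) := by rw [hnm']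
        _ = m * x * m⁻¹ * n := by group
    by_contra hv1
    have hF1 : F ≠ ⊥ := by
      intro h
      have : v ∈ F := (hFmem v).mpr ⟨hv, hnv⟩
      rw [h, mem_bot] at this
      exact hv1 this
    have hle : V ≤ F := hmin F hFn hF1
    exact hn1 (hfaith n hn (fun w hw => ((hFmem w).mp (hle hw)).2))
  -- coprimality
  have hcop : (Nat.card Q).Coprime r := by
    rw [Nat.coprime_comm, Nat.Prime.coprime_iff_not_dvd hr]
    intro hrQ
    obtain ⟨n, hn⟩ := exists_prime_orderOf_dvd_card' (G := Q) r hrQ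
    have hn1 : (n : X) ≠ 1 := by
      intro h
      have : n = 1 := Subtype.ext h
      rw [this, orderOf_one] at hn
      exact hr.one_lt.ne hn
    -- the group `⟨n⟩` acts on `V` by conjugation
    let φ : zpowers (n : X) →* MulAut V := (MulAut.conjNormal (H := V)).comp (zpowers (n : X)).subtype
    letI : MulAction (zpowers (n : X)) V := MulAction.compHom V φ
    have hZp : IsPGroup r (zpowers (n : X)) := by
      apply IsPGroup.of_card (n := 1)
      rw [pow_one, Nat.card_zpowers, orderOf_coe, hn]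
    have hmod := hZp.card_modEq_card_fixedPoints V
    have hdvd : r ∣ Nat.card (MulAction.fixedPoints (zpowers (n : X)) V) := by
      have h0 : Nat.card V ≡ 0 [MOD r] := (Nat.modEq_zero_iff_dvd).mpr hrV
      exact (Nat.modEq_zero_iff_dvd).mp (hmod.symm.trans h0)
    have hfix : ∀ v : V, v ∈ MulAction.fixedPoints (zpowers (n : X)) V → v = 1 := by
      intro v hvfix
      have h1 := hvfix ⟨(n : X), mem_zpowers _⟩
      have h2 : ((⟨(n : X), mem_zpowers _⟩ : zpowers (n : X)) • v : V) =
          MulAut.conjNormal (H := V) (n : X) v := rfl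
      rw [h2] at h1
      have h3 := congrArg Subtype.val h1
      rw [MulAut.conjNormal_apply] at h3
      have h4 : (n : X) * (v : X) = (v : X) * (n : X) := by
        calc (n : X) * (v : X) = ((n : X) * (v : X) * (n : X)⁻¹) * (n : X) := by group
          _ = (v : X) * (n : X) := by rw [h3]
      exact Subtype.ext (hfpf (n : X) n.2 hn1 (v : X) v.2 h4)
    have hsub : Subsingleton (MulAction.fixedPoints (zpowers (n : X)) V) := by
      refine ⟨fun x y => ?_⟩
      apply Subtype.ext
      rw [hfix x.1 x.2, hfix y.1 y.2]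
    have hle1 : Nat.card (MulAction.fixedPoints (zpowers (n : X)) V) ≤ 1 :=
      Finite.card_le_one_iff_subsingleton.mpr hsub
    have hone : (1 : V) ∈ MulAction.fixedPoints (zpowers (n : X)) V := by
      intro g
      change φ g 1 = 1
      exact map_one _
    have hpos : 0 < Nat.card (MulAction.fixedPoints (zpowers (n : X)) V) :=
      Nat.card_pos_iff.mpr ⟨⟨⟨1, hone⟩⟩, inferInstance⟩
    have := Nat.le_of_dvd hpos hdvd
    have h2 := hr.two_le
    omega
  -- complement
  have hcompl : IsComplement' V Q := by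
    apply isComplement'_of_disjoint_and_mul_eq_univ (disjoint_iff.mpr hVQ)
    rw [← normal_mul V Q, hQV, coe_top]
  have hindex : V.index = Nat.card Q := hcompl.symm.index_eq_card
  have hQcard : 1 < Nat.card Q := by
    have hQ1 : Q ≠ ⊥ := fun h => hP1 (le_bot_iff.mp (h ▸ hPQ))
    have h1 : Nat.card Q ≠ 1 := fun h => hQ1 (card_eq_one.mp h)
    have h0 : 0 < Nat.card Q := Nat.card_pos
    omega
  refine ⟨r, Q, hr, hVp, hVab, hQab, hVQ, hQV, hcop, hfpf, ?_, hindex, hQcard, a, ha0, ha⟩
  -- elements outside `V`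
  intro g hg v hv hgv
  obtain ⟨w, hw, n, hn, rfl⟩ := hdecomp g
  have hn1 : n ≠ 1 := by
    rintro rfl
    apply hg
    rw [mul_one]; exact hw
  apply hfpf n hn hn1 v hv
  -- `w n v = v w n`, `w v = v w`
  have h1 : w * (n * v) = w * (v * n) := by
    calc w * (n * v) = (w * n) * v := by group
      _ = v * (w * n) := hgv
      _ = (v * w) * n := by group
      _ = (w * v) * n := by rw [hVab v hv w hw]
      _ = w * (v * n) := by group
  exact mul_left_cancel h1

end Cfsg.Agent.Lib.Helper12.CD3
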