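import Mathlib
import Cfsg.Prelude
import Cfsg.Agent.Lib.Helper70.CycSylLocal

/-!
# S4016, keystone K-J (`structure_of_three`), core version with the other keystones as hypotheses
-/

set_option autoImplicit false
set_option linter.unusedSectionVars false
set_option linter.unusedVariables false
set_option linter.style.haveILetI false

namespace Cfsg.Agent.Lib.Helper12.CycSyl

open Subgroup
open scoped Pointwise
open Cfsg.Agent.Lib.Helper70.CycSyl

universe u

variable {G : Type u} [Group G] [Finite G] {p : ℕ} [hp : Fact p.Prime]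

/-- counting with a multiplicative map to `ZMod p` whose fibre over `1` is `C` -/
theorem card_le_mul_card_inf (N C A : Subgroup G) (hAN : A ≤ N) (κ : G → ZMod p)
    (hmul : ∀ m ∈ N, ∀ m' ∈ N, κ (m * m') = κ m * κ m')
    (hne : ∀ m ∈ N, κ m ≠ 0)
    (hker : ∀ m ∈ N, κ m = 1 ↔ m ∈ C) :
    Nat.card A ≤ (p - 1) * Nat.card (C ⊓ A : Subgroup G) := by
  classical
  let ψ : ↥A →* (ZMod p)ˣ := MonoidHom.mk' (fun a => Units.mk0 (κ (a : G)) (hne _ (hAN a.2)))
    (by
      intro a b
      apply Units.ext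
      simp only [Units.val_mk0, Units.val_mul, Subgroup.coe_mul]
      exact hmul _ (hAN a.2) _ (hAN b.2))
  have hψ : ∀ a : ↥A, ((ψ a : (ZMod p)ˣ) : ZMod p) = κ (a : G) := fun a => rfl
  have hkerψ : ψ.ker = C.subgroupOf A := by
    ext a
    rw [MonoidHom.mem_ker, Subgroup.mem_subgroupOf]
    constructor
    · intro h
      have h1 : κ (a : G) = 1 := by
        have := congrArg Units.val h
        rw [hψ] at this
        simpa using this
      exact (hker _ (hAN a.2)).mp h1
    · intro h
      apply Units.ext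
      rw [hψ, Units.val_one]
      exact (hker _ (hAN a.2)).mpr h
  have h1 : ψ.ker.index * Nat.card ψ.ker = Nat.card A := Subgroup.index_mul_card _
  have h2 : ψ.ker.index = Nat.card ψ.range := Subgroup.index_ker ψ
  have h3 : Nat.card ψ.range ≤ Nat.card (ZMod p)ˣ := Subgroup.card_le_card_group _
  have h4 : Nat.card (ZMod p)ˣ = p - 1 := by
    rw [Nat.card_eq_fintype_card, ZMod.card_units]
  have h5 : Nat.card ψ.ker = Nat.card (C ⊓ A : Subgroup G) := by
    rw [hkerψ, ← Subgroup.inf_subgroupOf_right]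
    exact Nat.card_congr (Subgroup.subgroupOfEquivOfLe inf_le_right).toEquiv
  calc Nat.card A = ψ.ker.index * Nat.card ψ.ker := h1.symm
    _ ≤ (p - 1) * Nat.card (C ⊓ A : Subgroup G) := by
        rw [h5, h2]
        exact Nat.mul_le_mul_right _ (h3.trans h4.le)

/-- a subgroup with at most `F.card` elements containing the finset `F` consists of the elements of `F` -/
theorem mem_finset_of_card_le (S : Subgroup G) (F : Finset G) (hF : ∀ y ∈ F, y ∈ S)
    (hc : Nat.card S ≤ F.card) : ∀ a ∈ S, a ∈ F := by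
  have hsub : (F : Set G) ⊆ (S : Set G) := fun y hy => hF y hy
  have hn : ((S : Set G)).ncard ≤ ((F : Set G)).ncard := by
    rw [Set.ncard_coe_finset, ← _root_.Nat.card_coe_set_eq]
    exact hc
  have := Set.eq_of_subset_of_ncard_le hsub hn (Set.toFinite _)
  intro a ha
  have : a ∈ (F : Set G) := by rw [this]; exact ha
  exact this

theorem structure_of_three_core (h : SCtx p G) (P : Sylow p G) {x : G}
    (hxC : x ∈ centralizer ((P : Subgroup G) : Set G)) (hx2 : orderOf x = 2) (hp3 : p = 3)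
    (G1 : ∀ (P : Sylow p G) {x : G}, x ∈ centralizer ((P : Subgroup G) : Set G) → x ≠ 1 →
      (orderOf x).Coprime p → centralizer ({x} : Set G) = normalizer ((P : Subgroup G) : Set G))
    (G3 : ∀ (P Q : Sylow p G) {x : G}, x ∈ centralizer ((P : Subgroup G) : Set G) →
      x ∈ centralizer ((Q : Subgroup G) : Set G) → x ≠ 1 → (orderOf x).Coprime p → Q = P)
    (H : ∃ (R : Sylow 2 G) (g : G), x ∈ (R : Subgroup G) ∧
      ¬ p ∣ Nat.card (centralizer ((R : Subgroup G) : Set G)) ∧ orderOf g = p ∧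
      g ∈ normalizer ((centralizer ((R : Subgroup G) : Set G) : Subgroup G) : Set G) ∧
      ∀ y ∈ centralizer ((R : Subgroup G) : Set G), g * y = y * g → y = 1)
    (K : ∃ κ : G → ZMod p,
      (∀ m ∈ normalizer ((P : Subgroup G) : Set G), ∀ m' ∈ normalizer ((P : Subgroup G) : Set G),
        κ (m * m') = κ m * κ m') ∧
      (∀ m ∈ normalizer ((P : Subgroup G) : Set G), κ m ≠ 0) ∧
      (∀ m ∈ normalizer ((P : Subgroup G) : Set G),
        κ m = 1 ↔ m ∈ centralizer ((P : Subgroup G) : Set G))) :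
    (∀ z ∈ centralizer ((P : Subgroup G) : Set G), (orderOf z).Coprime p → z = 1 ∨ z = x) ∧
      Nat.card (normalizer ((P : Subgroup G) : Set G)) ≤ 4 * Nat.card (P : Subgroup G) ∧
      ∀ t : G, orderOf t = 2 → ∃ c : G, t = c * x * c⁻¹ := by
  classical
  subst hp3
  obtain ⟨R, g, hxR, hA3, hg3, hgN, hfpf⟩ := H
  obtain ⟨κ, hκmul, hκne, hκker⟩ := K
  have hx1 : x ≠ 1 := by
    intro h1; rw [h1, orderOf_one] at hx2; omega
  have hcopx : (orderOf x).Coprime 3 := by rw [hx2]; decide
  set A : Subgroup G := centralizer ((R : Subgroup G) : Set G) with hA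
  set N : Subgroup G := normalizer ((P : Subgroup G) : Set G) with hN
  set C : Subgroup G := centralizer ((P : Subgroup G) : Set G) with hC
  have hCx : centralizer ({x} : Set G) = N := G1 P hxC hx1 hcopx
  have hCN : C ≤ N := Subgroup.centralizer_le_normalizer _
  -- R is abelian and contained in A
  have hR3 : ¬ 3 ∣ Nat.card (R : Subgroup G) := by
    obtain ⟨k, hk⟩ := IsPGroup.iff_card.mp R.isPGroup'
    rw [hk]
    intro hd
    have := Nat.Prime.dvd_of_dvd_pow Nat.prime_three hd
    omega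
  have hRcomm : ∀ a ∈ (R : Subgroup G), ∀ b ∈ (R : Subgroup G), a * b = b * a := by
    have hc := h.hyp.2 (R : Subgroup G) hR3
    intro a ha b hb
    exact congrArg Subtype.val (hc.is_comm.comm (⟨a, ha⟩ : (R : Subgroup G)) ⟨b, hb⟩)
  have hRA : (R : Subgroup G) ≤ A := by
    intro a ha
    rw [hA, mem_centralizer_iff]
    intro b hb
    exact hRcomm b hb a ha
  have hxA : x ∈ A := hRA hxR
  have hAN : A ≤ N := by
    rw [← hCx]
    intro a ha
    rw [mem_centralizer_singleton_iff]
    rw [hA, mem_centralizer_iff] at ha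
    exact (ha x hxR).symm
  have hcopA : ∀ z ∈ A, (orderOf z).Coprime 3 := by
    intro z hz
    have hd : orderOf z ∣ Nat.card A := Subgroup.orderOf_dvd_natCard A hz
    have hnd : ¬ 3 ∣ orderOf z := fun hpd => hA3 (hpd.trans hd)
    exact ((Nat.Prime.coprime_iff_not_dvd Nat.prime_three).mpr hnd).symm
  have hgA : ∀ a ∈ A, g * a * g⁻¹ ∈ A := fun a ha => (mem_normalizer_iff.mp hgN a).mp ha
  -- step (1)
  have hstep1 : ∀ z ∈ C ⊓ A, g⁻¹ * z * g ∈ C ⊓ A → z = 1 := by
    intro z hz hz'
    by_contra hz1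
    have hzC : z ∈ C := hz.1
    have hzcop := hcopA z hz.2
    have hzQ : z ∈ centralizer (((g • P : Sylow 3 G) : Subgroup G) : Set G) := by
      rw [mem_centralizer_iff]
      intro v hv
      rw [Sylow.coe_subgroup_smul] at hv
      obtain ⟨u, hu, rfl⟩ := (Subgroup.mem_smul_pointwise_iff_exists _ _ _).mp hv
      rw [MulAut.smul_def, MulAut.conj_apply]
      have hc := mem_centralizer_iff.mp hz'.1 u hu
      calc g * u * g⁻¹ * z = g * (u * (g⁻¹ * z * g)) * g⁻¹ := by group
        _ = g * (g⁻¹ * z * g * u) * g⁻¹ := by rw [hc]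
        _ = z * (g * u * g⁻¹) := by group
    have hQP : g • P = P := G3 P (g • P) hzC hzQ hz1 hzcop
    have hgNP : g ∈ normalizer ((P : Subgroup G) : Set G) := Sylow.smul_eq_iff_mem_normalizer.mp hQP
    have hgP : g ∈ (P : Subgroup G) :=
      mem_sylow_of_mem_normalizer P hgNP (k := 1) (by rw [hg3, pow_one])
    have hgx : g * x = x * g := mem_centralizer_iff.mp hxC g hgP
    exact hx1 (hfpf x hxA hgx)
  -- |A₀|^2 ≤ |A|
  have hsq : Nat.card (C ⊓ A : Subgroup G) * Nat.card (C ⊓ A : Subgroup G) ≤ Nat.card A := by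
    let f : ↥(C ⊓ A) × ↥(C ⊓ A) → ↥A := fun ab =>
      ⟨(ab.1 : G) * (g * (ab.2 : G) * g⁻¹), A.mul_mem ab.1.2.2 (hgA _ ab.2.2.2)⟩
    have hf : Function.Injective f := by
      rintro ⟨a, b⟩ ⟨a', b'⟩ hab
      have hab' : (a : G) * (g * (b : G) * g⁻¹) = (a' : G) * (g * (b' : G) * g⁻¹) :=
        congrArg Subtype.val hab
      have hz : (a' : G)⁻¹ * (a : G) ∈ C ⊓ A := mul_mem (inv_mem a'.2) a.2
      have hzeq : (a' : G)⁻¹ * (a : G) = g * ((b' : G) * (b : G)⁻¹) * g⁻¹ := by
        calc (a' : G)⁻¹ * (a : G)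
            = (a' : G)⁻¹ * ((a : G) * (g * (b : G) * g⁻¹)) * (g * (b : G) * g⁻¹)⁻¹ := by group
          _ = (a' : G)⁻¹ * ((a' : G) * (g * (b' : G) * g⁻¹)) * (g * (b : G) * g⁻¹)⁻¹ := by
              rw [hab']
          _ = g * ((b' : G) * (b : G)⁻¹) * g⁻¹ := by group
      have hz' : g⁻¹ * ((a' : G)⁻¹ * (a : G)) * g = (b' : G) * (b : G)⁻¹ := by
        rw [hzeq]; group
      have hz1 := hstep1 _ hz (by rw [hz']; exact mul_mem b'.2 (inv_mem b.2))
      have haa : (a : G) = a' := by
        have : (a : G) = (a' : G) * ((a' : G)⁻¹ * (a : G)) := by group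
        rw [this, hz1, mul_one]
      have hbb : (b : G) = b' := by
        rw [hz1] at hz'
        have h1 : (b' : G) * (b : G)⁻¹ = 1 := by rw [← hz']; group
        exact (mul_inv_eq_one.mp h1).symm
      exact Prod.ext (Subtype.ext haa) (Subtype.ext hbb)
    have := Nat.card_le_card_of_injective f hf
    rwa [Nat.card_prod] at this
  -- |A| ≤ 2 |A₀|
  have h2 : Nat.card A ≤ 2 * Nat.card (C ⊓ A : Subgroup G) :=
    card_le_mul_card_inf N C A hAN κ hκmul hκne hκker
  have hpos0 : 0 < Nat.card (C ⊓ A : Subgroup G) := Nat.card_pos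
  have hA0le : Nat.card (C ⊓ A : Subgroup G) ≤ 2 :=
    Nat.le_of_mul_le_mul_right (hsq.trans h2) hpos0
  have hAle : Nat.card A ≤ 4 := by omega
  -- A₀ = {1, x}
  have hA0 : ∀ z ∈ C ⊓ A, z = 1 ∨ z = x := by
    intro z hz
    have hF : ∀ y ∈ ({1, x} : Finset G), y ∈ C ⊓ A := by
      intro y hy
      simp only [Finset.mem_insert, Finset.mem_singleton] at hy
      rcases hy with rfl | rfl
      · exact one_mem _
      · exact ⟨hxC, hxA⟩
    have hcard : ({1, x} : Finset G).card = 2 := by
      rw [Finset.card_insert_of_notMem, Finset.card_singleton]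
      simp only [Finset.mem_singleton]
      exact fun h1 => hx1 h1.symm
    have := mem_finset_of_card_le (C ⊓ A) {1, x} hF (by rw [hcard]; exact hA0le) z hz
    simpa using this
  -- first conclusion
  have hconc1 : ∀ z ∈ C, (orderOf z).Coprime 3 → z = 1 ∨ z = x := by
    intro z hzC hzcop
    by_cases hz1 : z = 1
    · exact Or.inl hz1
    · have hCz : centralizer ({z} : Set G) = N := G1 P hzC hz1 hzcop
      have hzA : z ∈ A := by
        rw [hA, mem_centralizer_iff]
        intro b hb
        have hbz : b ∈ centralizer ({z} : Set G) := by rw [hCz]; exact hAN (hRA hb)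
        exact mem_centralizer_singleton_iff.mp hbz
      exact hA0 z ⟨hzC, hzA⟩
  -- second conclusion
  have h4a : Nat.card N ≤ 2 * Nat.card (C ⊓ N : Subgroup G) :=
    card_le_mul_card_inf N C N le_rfl κ hκmul hκne hκker
  have hCNeq : C ⊓ N = C := inf_eq_left.mpr hCN
  rw [hCNeq] at h4a
  have hCle : C ≤ zpowers x ⊔ (P : Subgroup G) := by
    intro c hc
    obtain ⟨a, b, hab, ha, hb, ⟨k, hk⟩, hcop⟩ :=
      Cfsg.Agent.Lib.Helper09.SqF.primary_dec c 3 Nat.prime_three
    have hzc : zpowers c ≤ C := by rw [zpowers_le]; exact hc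
    have haP : a ∈ (P : Subgroup G) := mem_sylow_of_mem_normalizer P (hCN (hzc ha)) hk
    have hbx : b ∈ zpowers x := by
      rcases hconc1 b (hzc hb) hcop with h1 | h1
      · rw [h1]; exact one_mem _
      · rw [h1]; exact mem_zpowers _
    rw [← hab]
    exact mul_mem (mem_sup_right haP) (mem_sup_left hbx)
  have hcard_sup := Cfsg.Agent.Lib.Helper01.card_sup_mul_card_inf_of_le_normalizer
    (P : Subgroup G) (zpowers x) (by rw [zpowers_le]; exact hCN hxC)
  have hzx : Nat.card (zpowers x) = 2 := by rw [Nat.card_zpowers, hx2]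
  have hposI : 0 < Nat.card ((P : Subgroup G) ⊓ zpowers x : Subgroup G) := Nat.card_pos
  have hsup_le : Nat.card (zpowers x ⊔ (P : Subgroup G) : Subgroup G) ≤
      2 * Nat.card (P : Subgroup G) := by
    calc Nat.card (zpowers x ⊔ (P : Subgroup G) : Subgroup G)
        ≤ Nat.card (zpowers x ⊔ (P : Subgroup G) : Subgroup G) *
            Nat.card ((P : Subgroup G) ⊓ zpowers x : Subgroup G) := Nat.le_mul_of_pos_right _ hposI
      _ = Nat.card (P : Subgroup G) * Nat.card (zpowers x) := hcard_sup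
      _ = 2 * Nat.card (P : Subgroup G) := by rw [hzx, mul_comm]
  have hCcard : Nat.card C ≤ 2 * Nat.card (P : Subgroup G) :=
    (Subgroup.card_le_of_le hCle).trans hsup_le
  have hconc2 : Nat.card N ≤ 4 * Nat.card (P : Subgroup G) := by omega
  -- third conclusion
  have hy1 : ∀ v : G, v ≠ 1 → g * v * g⁻¹ ≠ 1 := by
    intro v hv h1
    apply hv
    have : v = g⁻¹ * (g * v * g⁻¹) * g := by group
    rw [this, h1]; group
  have hne_conj : ∀ v ∈ A, v ≠ 1 → v ≠ g * v * g⁻¹ := by
    intro v hvA hv1 he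
    have hgv : g * v = v * g := by
      calc g * v = (g * v * g⁻¹) * g := by group
        _ = v * g := by rw [← he]
    exact hv1 (hfpf v hvA hgv)
  set y : G := g * x * g⁻¹ with hy
  set w : G := g * y * g⁻¹ with hw
  have hyA : y ∈ A := hgA x hxA
  have hwA : w ∈ A := hgA y hyA
  have hyne : y ≠ 1 := hy1 x hx1
  have hwne : w ≠ 1 := hy1 y hyne
  have hxy : x ≠ y := hne_conj x hxA hx1
  have hyw : y ≠ w := hne_conj y hyA hyne
  have hg3' : g ^ 3 = 1 := by rw [← hg3]; exact pow_orderOf_eq_one g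
  have hxw : x ≠ w := by
    intro he
    have hggg : g * (g * g) = 1 := by rw [← hg3', pow_succ, pow_two, mul_assoc]
    have hginv : g⁻¹ * g⁻¹ = g := by
      calc g⁻¹ * g⁻¹ = g⁻¹ * g⁻¹ * (g * (g * g)) := by rw [hggg, mul_one]
        _ = g := by group
    have hgx : g * x = x * g := by
      calc g * x = g * w := by rw [← he]
        _ = (g * (g * g)) * x * (g⁻¹ * g⁻¹) := by rw [hw, hy]; group
        _ = x * g := by rw [hggg, one_mul, hginv]
    exact hx1 (hfpf x hxA hgx)
  have hA4 : ∀ a ∈ A, a = 1 ∨ a = x ∨ a = y ∨ a = w := by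
    intro a ha
    have hF : ∀ v ∈ ({1, x, y, w} : Finset G), v ∈ A := by
      intro v hv
      simp only [Finset.mem_insert, Finset.mem_singleton] at hv
      rcases hv with rfl | rfl | rfl | rfl
      · exact one_mem _
      · exact hxA
      · exact hyA
      · exact hwA
    have hcard : ({1, x, y, w} : Finset G).card = 4 := by
      rw [Finset.card_insert_of_notMem, Finset.card_insert_of_notMem,
        Finset.card_insert_of_notMem, Finset.card_singleton]
      · simp only [Finset.mem_singleton]; exact hyw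
      · simp only [Finset.mem_insert, Finset.mem_singleton, not_or]; exact ⟨hxy, hxw⟩
      · simp only [Finset.mem_insert, Finset.mem_singleton, not_or]
        exact ⟨fun h1 => hx1 h1.symm, fun h1 => hyne h1.symm, fun h1 => hwne h1.symm⟩
    have := mem_finset_of_card_le A {1, x, y, w} hF (by rw [hcard]; exact hAle) a ha
    simpa using this
  refine ⟨hconc1, hconc2, ?_⟩
  intro t ht
  have ht1 : t ≠ 1 := by
    intro h1; rw [h1, orderOf_one] at ht; omega
  have hzt : IsPGroup 2 (zpowers t) := by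
    apply IsPGroup.of_card (n := 1)
    rw [Nat.card_zpowers, ht, pow_one]
  obtain ⟨R', hR'⟩ := hzt.exists_le_sylow
  obtain ⟨c, hc⟩ := MulAction.exists_smul_eq G R R'
  have htR' : t ∈ ((c • R : Sylow 2 G) : Subgroup G) := by
    rw [hc]; exact hR' (mem_zpowers t)
  rw [Sylow.coe_subgroup_smul] at htR'
  obtain ⟨u, hu, hut⟩ := (Subgroup.mem_smul_pointwise_iff_exists _ _ _).mp htR'
  rw [MulAut.smul_def, MulAut.conj_apply] at hut
  have hu1 : u ≠ 1 := by
    intro h1
    apply ht1
    rw [← hut, h1]; group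
  rcases hA4 u (hRA hu) with h1 | h1 | h1 | h1
  · exact absurd h1 hu1
  · exact ⟨c, by rw [← hut, h1]⟩
  · refine ⟨c * g, ?_⟩
    rw [← hut, h1, hy]; group
  · refine ⟨c * g * g, ?_⟩
    rw [← hut, h1, hw, hy]; group

end Cfsg.Agent.Lib.Helper12.CycSyl
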