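import Mathlib
import Cfsg.Prelude
import Cfsg.Agent.Lib.Helper70.CycSylLocal
import Cfsg.Agent.Lib.Helper70.CycSylK
import Cfsg.Agent.Lib.Helper18.CycSylGH
import Cfsg.Agent.Lib.Helper12.CycSylJCore

/-!
# S4016, keystone K-J: `structure_of_three` with the exact signature of `notes/S4016_keystones2.lean.txt`
-/

set_option autoImplicit false
set_option linter.unusedSectionVars false
set_option linter.unusedVariables false

namespace Cfsg.Agent.Lib.Helper12.CycSyl

open Subgroup
open scoped Pointwise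
open Cfsg.Agent.Lib.Helper70.CycSyl

universe u

variable {G : Type u} [Group G] [Finite G] {p : ℕ} [hp : Fact p.Prime]

theorem structure_of_three (h : SCtx p G) (P : Sylow p G) {x : G}
    (hxC : x ∈ centralizer ((P : Subgroup G) : Set G)) (hx2 : orderOf x = 2) (hp3 : p = 3) :
    (∀ z ∈ centralizer ((P : Subgroup G) : Set G), (orderOf z).Coprime p → z = 1 ∨ z = x) ∧
      Nat.card (normalizer ((P : Subgroup G) : Set G)) ≤ 4 * Nat.card (P : Subgroup G) ∧
      ∀ t : G, orderOf t = 2 → ∃ c : G, t = c * x * c⁻¹ := by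
  have hrp : (2 : ℕ) ≠ p := by rw [hp3]; decide
  exact structure_of_three_core h P hxC hx2 hp3
    (fun P x hx h1 hc => Cfsg.Agent.Lib.Helper18.CycSyl.centralizer_eq_normalizer h P hx h1 hc)
    (fun P Q x hP hQ h1 hc =>
      Cfsg.Agent.Lib.Helper18.CycSyl.sylow_eq_of_mem_centralizer h P Q hP hQ h1 hc)
    (Cfsg.Agent.Lib.Helper18.CycSyl.exists_fpf_pelement h P hxC (r := 2) hx2 hrp)
    (Cfsg.Agent.Lib.Helper70.CycSyl.exists_kappa h P)

end Cfsg.Agent.Lib.Helper12.CycSyl
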