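import Mathlib
import Cfsg.Prelude.Def_Local
import Cfsg.Prelude.Def_Balance
import Cfsg.Agent.Lib.Helper12.DLayerB
import Cfsg.Agent.Lib.Helper15.Lifting
import Cfsg.Agent.Lib.Helper76.Fitting

/-!
# A 2-component of `L_{2'}(C_G(x)) ∩ C_G(y)` is a component modulo `O(C_G(y))` (helper12, S1775)
-/

set_option autoImplicit false
set_option linter.style.haveILetI false
set_option maxHeartbeats 1000000
universe u

namespace Cfsg.Agent.Lib.Helper12.DL

open Cfsg Cfsg.Agent.Lib.Helper12.LB Cfsg.Agent.Lib.Helper29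
open scoped commutatorElement

/-- if `F*(G)` is nonabelian simple then no involution is central -/
theorem centralizer_ne_top {G : Type u} [Group G] [Finite G]
    (hF : IsSimpleGroup ↥(generalizedFittingSubgroup G))
    (hF' : ¬ IsMulCommutative ↥(generalizedFittingSubgroup G))
    (y : G) (hy : orderOf y = 2) : Subgroup.centralizer ({y} : Set G) ≠ ⊤ := by
  intro htop
  have hyZ : y ∈ Subgroup.center G := by
    rw [Subgroup.mem_center_iff]
    intro g
    have : g ∈ Subgroup.centralizer ({y} : Set G) := by rw [htop]; trivial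
    exact Subgroup.mem_centralizer_singleton_iff.mp this
  set Fs : Subgroup G := generalizedFittingSubgroup G with hFs
  have hZF : Subgroup.center G ≤ Fs := by
    refine le_trans ?_ (le_sup_right : fittingSubgroup G ≤ layer G ⊔ fittingSubgroup G)
    apply Cfsg.Agent.Lib.Helper76.le_fittingSubgroup (inferInstance : (Subgroup.center G).Normal)
    have hc : ∀ a b : ↥(Subgroup.center G), a * b = b * a := by
      rintro ⟨a, ha⟩ ⟨b, hb⟩
      apply Subtype.ext
      exact (Subgroup.mem_center_iff.mp hb a)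
    letI : CommGroup ↥(Subgroup.center G) :=
      { (inferInstance : Group ↥(Subgroup.center G)) with mul_comm := hc }
    exact CommGroup.isNilpotent
  haveI := hF
  have hn : ((Subgroup.center G).subgroupOf Fs).Normal := inferInstance
  rcases hn.eq_bot_or_eq_top with h | h
  · have h1 : (⟨y, hZF hyZ⟩ : ↥Fs) ∈ (Subgroup.center G).subgroupOf Fs := hyZ
    rw [h, Subgroup.mem_bot] at h1
    have hy1 : y = 1 := congrArg Subtype.val h1
    rw [hy1, orderOf_one] at hy
    omega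
  · apply hF'
    refine ⟨⟨fun a b => ?_⟩⟩
    have ha : a ∈ (Subgroup.center G).subgroupOf Fs := by rw [h]; trivial
    apply Subtype.ext
    have h2 := Subgroup.mem_center_iff.mp (Subgroup.mem_subgroupOf.mp ha) b.1
    exact h2.symm

/-- the main construction of S1775, with the B-property of `C_G(y)/O(C_G(y))` as a hypothesis -/
theorem main {G : Type u} [Group G] [Finite G] (x y : G) (hx : orderOf x = 2)
    (hxy : x * y = y * x)
    (hB : HasBProperty (↥(Subgroup.centralizer ({y} : Set G)) ⧸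
      oddCore ↥(Subgroup.centralizer ({y} : Set G))))
    :
    ∀ (J : Subgroup ↥((Cfsg.pLayer 2 ↥(Subgroup.centralizer ({x} : Set G))).map (Subgroup.centralizer ({x} : Set G)).subtype ⊓ Subgroup.centralizer ({y} : Set G)))
    (_ : Cfsg.IsPComponent 2 J),
    Cfsg.IsComponent
        ((((J.map (Subgroup.subtype _)).subgroupOf (Subgroup.centralizer ({y} : Set G))).map (QuotientGroup.mk' (Cfsg.oddCore ↥(Subgroup.centralizer ({y} : Set G))))).subgroupOf
          (Subgroup.centralizer ({(QuotientGroup.mk' (Cfsg.oddCore ↥(Subgroup.centralizer ({y} : Set G))) ⟨x, Subgroup.mem_centralizer_singleton_iff.mpr hxy⟩ : ↥(Subgroup.centralizer ({y} : Set G)) ⧸ Cfsg.oddCore ↥(Subgroup.centralizer ({y} : Set G)))} : Set _))) ∧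
      ∀ E : Subgroup G, E ≤ Subgroup.centralizer ({x} : Set G) ⊓ Subgroup.centralizer ({y} : Set G) → Odd (Nat.card ↥E) →
        (∀ j ∈ J.map (Subgroup.subtype _), ∀ e ∈ E, j * e * j⁻¹ ∈ E) →
          ⁅J.map (Subgroup.subtype _), E⁆ ≤ (Cfsg.oddCore ↥(Subgroup.centralizer ({y} : Set G))).map (Subgroup.centralizer ({y} : Set G)).subtype := by
  classical
  haveI : Fact (Nat.Prime 2) := ⟨Nat.prime_two⟩
  set Cx : Subgroup G := Subgroup.centralizer ({x} : Set G) with hCx
  set Cy : Subgroup G := Subgroup.centralizer ({y} : Set G) with hCy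
  set L : Subgroup G := (pLayer 2 ↥Cx).map Cx.subtype with hL
  set D : Subgroup G := L ⊓ Cy with hD
  set O : Subgroup ↥Cy := oddCore ↥Cy with hO
  set π := QuotientGroup.mk' O with hπ
  set x' : ↥Cy := ⟨x, Subgroup.mem_centralizer_singleton_iff.mpr hxy⟩ with hx'
  set xb : ↥Cy ⧸ O := π x' with hxb
  set Yq : Subgroup (↥Cy ⧸ O) := Subgroup.centralizer ({xb} : Set (↥Cy ⧸ O)) with hYq
  set R : Subgroup G := Cx ⊓ Cy with hR
  intro J hJ
  set Jt : Subgroup G := J.map D.subtype with hJt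
  have hOc : (Nat.card O).Coprime 2 := pPrimeCore_coprime 2
  have hox' : orderOf x' = 2 := by rw [hx', Subgroup.orderOf_mk]; exact hx
  -- the order of `xb`
  have hxb2 : orderOf xb = 2 := by
    apply orderOf_eq_prime
    · rw [hxb, ← map_pow]
      have h1 : x' ^ 2 = 1 := by rw [← hox']; exact pow_orderOf_eq_one x'
      rw [h1, map_one]
    · intro h
      have h2 : x' ∈ O := (QuotientGroup.eq_one_iff _).mp h
      have h3 : orderOf x' ∣ Nat.card O := orderOf_dvd_of_pow_eq_one (pow_card_eq_one_of_mem h2)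
      rw [hox'] at h3
      have h4 := Nat.Coprime.eq_one_of_dvd hOc.symm h3
      omega
  -- `Jt` looks like a 2-component of `R`
  have hQC : QC D Jt := Cfsg.Agent.Lib.Helper28.LB.qc_of_pcomp D J hJ
  have hLCx : L ≤ Cx := Subgroup.map_subtype_le _
  have hDR : D ≤ R := inf_le_inf_right Cy hLCx
  have hLn : ∀ r ∈ Cx, ∀ d ∈ L, r * d * r⁻¹ ∈ L := by
    intro r hr d hd
    obtain ⟨d', hd', rfl⟩ := hd
    have h1 : (⟨r, hr⟩ : ↥Cx) * d' * (⟨r, hr⟩ : ↥Cx)⁻¹ ∈ pLayer 2 ↥Cx :=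
      (Cfsg.Agent.Lib.Helper30.pLayer_normal 2).conj_mem d' hd' _
    exact ⟨_, h1, rfl⟩
  have hn : (D.subgroupOf R).Normal := by
    constructor
    rintro ⟨d, hdR⟩ hd ⟨r, hr⟩
    rw [Subgroup.mem_subgroupOf] at hd ⊢
    exact ⟨hLn r hr.1 d hd.1, Cy.mul_mem (Cy.mul_mem hr.2 hd.2) (Cy.inv_mem hr.2)⟩
  have hCL : CompLike R Jt :=
    Cfsg.Agent.Lib.Helper70.LB.compLike_of_normal R D Jt hDR hn hQC.comp
  have hJtR : Jt ≤ R := hQC.comp.1.trans hDR
  -- the map `ψ : R → C_Q(xb)`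
  have hmemY : ∀ r : ↥R, (π.comp (Subgroup.inclusion (inf_le_right : R ≤ Cy))) r ∈ Yq := by
    intro r
    rw [hYq, Subgroup.mem_centralizer_singleton_iff]
    rw [hxb, MonoidHom.comp_apply, ← map_mul, ← map_mul]
    congr 1
    apply Subtype.ext
    exact Subgroup.mem_centralizer_singleton_iff.mp r.2.1
  set ψ : ↥R →* ↥Yq :=
    (π.comp (Subgroup.inclusion (inf_le_right : R ≤ Cy))).codRestrict Yq hmemY with hψ
  have hψval : ∀ r : ↥R, ((ψ r : ↥Yq) : ↥Cy ⧸ O) = π ⟨r.1, r.2.2⟩ := fun r => rfl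
  have hψs : Function.Surjective ψ := by
    rintro ⟨q, hq⟩
    have hX : IsPGroup 2 (Subgroup.zpowers x') :=
      IsPGroup.of_card (n := 1) (by rw [Nat.card_zpowers, hox', pow_one])
    have hlift := Cfsg.Agent.Lib.Helper15.centralizer_map_mk_of_coprime O hOc
      (Subgroup.zpowers x') hX
    have hq' : q ∈ Subgroup.centralizer
        (((Subgroup.zpowers x').map (QuotientGroup.mk' O) : Subgroup (↥Cy ⧸ O)) : Set (↥Cy ⧸ O)) := by
      rw [Subgroup.mem_centralizer_iff]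
      rintro z ⟨w, hw, rfl⟩
      obtain ⟨k, rfl⟩ := Subgroup.mem_zpowers_iff.mp hw
      rw [map_zpow]
      have hc : Commute xb q := (Subgroup.mem_centralizer_singleton_iff.mp hq).symm
      exact (hc.zpow_left k).eq
    rw [hlift] at hq'
    obtain ⟨c, hc, rfl⟩ := hq'
    have hcx : c.1 ∈ Cx := by
      rw [hCx, Subgroup.mem_centralizer_singleton_iff]
      have h1 := Subgroup.mem_centralizer_iff.mp hc x' (Subgroup.mem_zpowers x')
      exact (congrArg Subtype.val h1).symm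
    exact ⟨⟨c.1, hcx, c.2⟩, Subtype.ext rfl⟩
  have hker : (Nat.card ψ.ker).Coprime 2 := by
    apply card_coprime_of_forall_orderOf
    rintro ⟨r, hr⟩
    rw [Subgroup.orderOf_mk]
    have h1 : π ⟨r.1, r.2.2⟩ = 1 := congrArg Subtype.val (MonoidHom.mem_ker.mp hr)
    have h2 : (⟨r.1, r.2.2⟩ : ↥Cy) ∈ O := (QuotientGroup.eq_one_iff _).mp h1
    have h3 : (⟨r.1, r.2.2⟩ : ↥Cy) ^ Nat.card O = 1 := pow_card_eq_one_of_mem h2
    have h4 : r ^ Nat.card O = 1 := by
      apply Subtype.ext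
      have h5 := congrArg Subtype.val h3
      simpa using h5
    exact Nat.Coprime.coprime_dvd_left (orderOf_dvd_of_pow_eq_one h4) hOc
  -- the image of `Jt`
  set K : Subgroup ↥R := Jt.subgroupOf R with hK
  have hcomp : IsComponent ((K.map ψ).map (QuotientGroup.mk' (pPrimeCore 2 ↥Yq))) :=
    comp_mod_core_map ψ hψs hker K hCL.2
  have hKq : K.map ψ = (((Jt.subgroupOf Cy).map π).subgroupOf Yq) := by
    ext ⟨q, hq⟩
    constructor
    · rintro ⟨r, hr, hrq⟩
      rw [Subgroup.mem_subgroupOf]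
      have h1 : q = π ⟨r.1, r.2.2⟩ := (congrArg Subtype.val hrq).symm
      show q ∈ (Jt.subgroupOf Cy).map π
      rw [h1]
      exact Subgroup.mem_map_of_mem π (Subgroup.mem_subgroupOf.mpr hr)
    · intro hq'
      rw [Subgroup.mem_subgroupOf] at hq'
      obtain ⟨c, hc, hcq⟩ := hq'
      have hcJ : c.1 ∈ Jt := Subgroup.mem_subgroupOf.mp hc
      refine ⟨⟨c.1, hJtR hcJ⟩, Subgroup.mem_subgroupOf.mpr hcJ, ?_⟩
      apply Subtype.ext
      exact hcq
  -- a surjection `Jt → K.map ψ`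
  set θ : ↥Jt →* ↥(K.map ψ) :=
    (ψ.subgroupMap K).comp (Subgroup.subgroupOfEquivOfLe hJtR).symm.toMonoidHom with hθ
  have hθs : Function.Surjective θ :=
    (MonoidHom.subgroupMap_surjective ψ K).comp (Subgroup.subgroupOfEquivOfLe hJtR).symm.surjective
  have hperfK : commutator ↥(K.map ψ) = ⊤ :=
    commutator_eq_top_of_surj θ hθs (commutator_eq_top_of_perf hQC.perf)
  have hnciK : NoCoprimeIndexNormal 2 ↥(K.map ψ) :=
    Cfsg.Agent.Lib.Helper91.LB.noCoprimeIndexNormal_of_surjective 2 θ hθs hQC.nci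
  have hKlayer : K.map ψ ≤ pLayer 2 ↥Yq := le_pLayer_of_comp_mod_core (K.map ψ) hcomp hnciK
  -- the B-property
  have hB0 := hB xb hxb2
  have hbot : oddCore (↥Cy ⧸ O) = ⊥ := pPrimeCore_quotient_eq_bot 2
  rw [hbot, le_bot_iff, Subgroup.map_eq_bot_iff_of_injective _ (Subgroup.subtype_injective _)] at hB0
  have hcK : ⁅K.map ψ, pPrimeCore 2 ↥Yq⁆ = ⊥ :=
    le_bot_iff.mp ((Subgroup.commutator_mono hKlayer le_rfl).trans (le_of_eq hB0))
  have hcompK : IsComponent (K.map ψ) := isComponent_of_comp_mod_core _ hcomp hperfK hcK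
  refine ⟨hKq ▸ hcompK, ?_⟩
  -- part (ii)
  intro E hER hEodd hJE
  set Eq : Subgroup ↥Yq := (E.subgroupOf R).map ψ with hEq
  have hEq2 : (Nat.card Eq).Coprime 2 := by
    have h1 : Nat.card Eq ∣ Nat.card (E.subgroupOf R) := Subgroup.card_map_dvd _ ψ
    have h2 : Nat.card (E.subgroupOf R) = Nat.card E :=
      Nat.card_congr (Subgroup.subgroupOfEquivOfLe hER).toEquiv
    rw [h2] at h1
    exact Nat.Coprime.coprime_dvd_left h1 (Nat.coprime_two_right.mpr hEodd)
  have hnorm : ∀ k ∈ K.map ψ, ∀ e ∈ Eq, k * e * k⁻¹ ∈ Eq := by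
    rintro _ ⟨r, hr, rfl⟩ _ ⟨s, hs, rfl⟩
    rw [← map_inv, ← map_mul, ← map_mul]
    refine Subgroup.mem_map_of_mem ψ ?_
    rw [Subgroup.mem_subgroupOf]
    exact hJE r.1 (Subgroup.mem_subgroupOf.mp hr) s.1 (Subgroup.mem_subgroupOf.mp hs)
  have hcomm : ⁅K.map ψ, Eq⁆ = ⊥ :=
    component_centralizes_odd (K.map ψ) Eq hcompK hnciK hEq2 hnorm
  rw [Subgroup.commutator_le]
  intro j hj e he
  have hjK : (⟨j, hJtR hj⟩ : ↥R) ∈ K := Subgroup.mem_subgroupOf.mpr hj
  have heE : (⟨e, hER he⟩ : ↥R) ∈ E.subgroupOf R := Subgroup.mem_subgroupOf.mpr he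
  have h1 : ⁅ψ ⟨j, hJtR hj⟩, ψ ⟨e, hER he⟩⁆ ∈ ⁅K.map ψ, Eq⁆ :=
    Subgroup.commutator_mem_commutator (Subgroup.mem_map_of_mem ψ hjK)
      (Subgroup.mem_map_of_mem ψ heE)
  rw [hcomm, Subgroup.mem_bot, ← map_commutatorElement] at h1
  have hmem : ⁅j, e⁆ ∈ Cy := by
    rw [commutatorElement_def]
    exact Cy.mul_mem (Cy.mul_mem (Cy.mul_mem (hJtR hj).2 (hER he).2) (Cy.inv_mem (hJtR hj).2))
      (Cy.inv_mem (hER he).2)
  have h2 : π ⟨⁅j, e⁆, hmem⟩ = 1 :=
    congrArg Subtype.val h1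
  have h3 := (QuotientGroup.eq_one_iff _).mp h2
  exact ⟨_, h3, rfl⟩

end Cfsg.Agent.Lib.Helper12.DL
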