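import Mathlib

set_option autoImplicit false

namespace Cfsg.Agent.Lib.Helper12

variable {G : Type*} [Group G]

theorem commute_of_sq_commute {g x : G} (hg : Odd (orderOf g)) (h : Commute (g ^ 2) x) :
    Commute g x := by
  obtain ⟨k, hk⟩ := hg
  have : g = (g ^ 2) ^ (k + 1) := by
    rw [← pow_mul, show 2 * (k + 1) = orderOf g + 1 by omega, pow_succ, pow_orderOf_eq_one, one_mul]
  rw [this]
  exact h.pow_left _

theorem conj_pow_mul_inv (g f u : G) (hfu : g * f * g⁻¹ = f * u) (hgu : g * u = u * g) (i : ℕ) :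
    g ^ i * f * (g ^ i)⁻¹ = f * u ^ i := by
  induction i with
  | zero => simp
  | succ i ih =>
    have hgui : g * u ^ i = u ^ i * g := ((show Commute g u from hgu).pow_right i).eq
    calc g ^ (i + 1) * f * (g ^ (i + 1))⁻¹
        = g * (g ^ i * f * (g ^ i)⁻¹) * g⁻¹ := by rw [pow_succ']; group
      _ = g * (f * u ^ i) * g⁻¹ := by rw [ih]
      _ = (g * f * g⁻¹) * (g * u ^ i * g⁻¹) := by group
      _ = (f * u) * u ^ i := by rw [hfu, hgui]; group
      _ = f * u ^ (i + 1) := by rw [pow_succ']; group

/-- An element of odd order normalizing a cyclic `2`-subgroup centralizes it. -/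
theorem centralizes_cyclic_two_group [Finite G] {R : Subgroup G} (hcyc : IsCyclic R)
    (hR : IsPGroup 2 R) {g : G} (hg : g ∈ Subgroup.normalizer (R : Set G))
    (hgo : Odd (orderOf g)) : g ∈ Subgroup.centralizer (R : Set G) := by
  set φ := R.normalizerMonoidHom with hφ
  have h1 : orderOf (φ ⟨g, hg⟩) ∣ orderOf g := by
    have := orderOf_map_dvd φ (⟨g, hg⟩ : Subgroup.normalizer (R : Set G))
    rwa [Subgroup.orderOf_mk] at this
  have h2 : orderOf (φ ⟨g, hg⟩) ∣ Nat.card (MulAut R) := orderOf_dvd_natCard _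
  rw [IsCyclic.card_mulAut] at h2
  obtain ⟨k, hk⟩ := IsPGroup.iff_card.mp hR
  rw [hk] at h2
  have h3 : ∃ j, (2 ^ k).totient = 2 ^ j := by
    rcases k with _ | k
    · exact ⟨0, by simp⟩
    · exact ⟨k, by rw [Nat.totient_prime_pow Nat.prime_two (Nat.succ_pos k)]; simp⟩
  obtain ⟨j, hj⟩ := h3
  rw [hj] at h2
  have h4 : orderOf (φ ⟨g, hg⟩) = 1 := by
    have hodd : Odd (orderOf (φ ⟨g, hg⟩)) := hgo.of_dvd_nat h1
    obtain ⟨i, -, hi⟩ := (Nat.dvd_prime_pow Nat.prime_two).mp h2
    rw [hi] at hodd ⊢
    rcases i with _ | i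
    · rfl
    · exfalso
      rw [pow_succ] at hodd
      exact (Nat.not_even_iff_odd.mpr hodd) (even_two.mul_left _)
  have h5 : φ ⟨g, hg⟩ = 1 := orderOf_eq_one_iff.mp h4
  have h6 : (⟨g, hg⟩ : Subgroup.normalizer (R : Set G)) ∈ φ.ker := h5
  rw [Subgroup.normalizerMonoidHom_ker] at h6
  exact h6

/-- In a `2`-group `H` with a cyclic subgroup `R₀` such that all elements outside `R₀` are involutions
and products of two of them lie in `R₀` (e.g. a subgroup of a dihedral group), an element of odd
order normalizing `H` and centralizing a nonidentity element `t ∈ H` centralizes `H`. -/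
theorem centralizes_of_dihedral_like [Finite G] (H R₀ : Subgroup G) (g t : G) (hR₀H : R₀ ≤ H)
    (hcyc : IsCyclic R₀) (hH2 : IsPGroup 2 H) (h2 : ∀ x ∈ H, x ∉ R₀ → x * x = 1)
    (h3 : ∀ x ∈ H, x ∉ R₀ → ∀ y ∈ H, y ∉ R₀ → x * y ∈ R₀)
    (hg : g ∈ Subgroup.normalizer (H : Set G)) (hgo : Odd (orderOf g)) (ht : t ∈ H) (ht1 : t ≠ 1)
    (hgt : g * t = t * g) : g ∈ Subgroup.centralizer (H : Set G) := by
  classical
  obtain ⟨c, hc⟩ := hcyc.exists_generator
  have hcH : (c : G) ∈ H := hR₀H c.2
  have hR₀c : ∀ x ∈ R₀, ∃ i : ℤ, (c : G) ^ i = x := by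
    intro x hx
    obtain ⟨i, hi⟩ := Subgroup.mem_zpowers_iff.mp (hc ⟨x, hx⟩)
    exact ⟨i, by simpa using congrArg Subtype.val hi⟩
  have hconjH : ∀ g' ∈ Subgroup.normalizer (H : Set G), ∀ x ∈ H, g' * x * g'⁻¹ ∈ H :=
    fun g' hg' x hx => (Subgroup.mem_normalizer_iff.mp hg' x).mp hx
  have hginv : g⁻¹ ∈ Subgroup.normalizer (H : Set G) := Subgroup.inv_mem _ hg
  rw [Subgroup.mem_centralizer_iff]
  by_cases hc2 : (c : G) ^ 2 = 1
  · -- small case: exponent 2, order at most 4
    have hR₀sq : ∀ x ∈ R₀, x * x = 1 := by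
      intro x hx
      obtain ⟨i, rfl⟩ := hR₀c x hx
      rw [← pow_two, ← zpow_natCast, ← zpow_mul, mul_comm, zpow_mul, zpow_natCast, hc2, one_zpow]
    have hsq : ∀ x ∈ H, x * x = 1 := by
      intro x hx
      by_cases hxR : x ∈ R₀
      · exact hR₀sq x hxR
      · exact h2 x hx hxR
    have hcardR : Nat.card R₀ ≤ 2 := by
      have h1 : orderOf c = Nat.card R₀ := orderOf_eq_card_of_forall_mem_zpowers hc
      have h2' : orderOf c ∣ 2 := by
        apply orderOf_dvd_of_pow_eq_one
        apply Subtype.ext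
        simpa using hc2
      rw [← h1]
      exact Nat.le_of_dvd (by norm_num) h2'
    have hcardH : Nat.card H ≤ 4 := by
      by_cases hHR : H ≤ R₀
      · have : H = R₀ := le_antisymm hHR hR₀H
        rw [this]; omega
      · obtain ⟨f, hfH, hfR⟩ := SetLike.not_le_iff_exists.mp hHR
        have hidx : (R₀.subgroupOf H).index = 2 := by
          rw [Subgroup.index_eq_two_iff]
          refine ⟨⟨f, hfH⟩, fun b => ?_⟩
          by_cases hb : (b : G) ∈ R₀
          · refine Or.inr ⟨Subgroup.mem_subgroupOf.mpr hb, fun h => hfR ?_⟩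
            have h' : (b : G) * f ∈ R₀ := Subgroup.mem_subgroupOf.mp h
            have : f = (b : G)⁻¹ * ((b : G) * f) := by group
            rw [this]
            exact R₀.mul_mem (R₀.inv_mem hb) h'
          · refine Or.inl ⟨Subgroup.mem_subgroupOf.mpr (h3 b b.2 hb f hfH hfR), fun h => hb ?_⟩
            exact Subgroup.mem_subgroupOf.mp h
        have h1 := Subgroup.index_mul_card (R₀.subgroupOf H)
        have h2' : Nat.card (R₀.subgroupOf H) = Nat.card R₀ :=
          Nat.card_congr (Subgroup.subgroupOfEquivOfLe hR₀H).toEquiv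
        rw [hidx, h2'] at h1
        omega
    intro x hx
    by_cases hx1 : x = 1
    · rw [hx1, mul_one, one_mul]
    by_cases hxt : x = t
    · rw [hxt]; exact hgt.symm
    -- conjugation preserves H minus {1, t}
    have hA : ∀ a ∈ H, a ≠ 1 → a ≠ t → (g * a * g⁻¹ ∈ H ∧ g * a * g⁻¹ ≠ 1 ∧ g * a * g⁻¹ ≠ t) := by
      intro a ha ha1 hat
      refine ⟨hconjH g hg a ha, ?_, ?_⟩
      · intro h
        apply ha1
        have : a = g⁻¹ * (g * a * g⁻¹) * g := by group
        rw [this, h]; group
      · intro h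
        apply hat
        have : a = g⁻¹ * (g * a * g⁻¹) * g := by group
        rw [this, h]
        have : g⁻¹ * t * g = g⁻¹ * (t * g) := by group
        rw [this, ← hgt]; group
    set y := g * x * g⁻¹ with hy
    obtain ⟨hyH, hy1, hyt⟩ := hA x hx hx1 hxt
    set z := g * y * g⁻¹ with hz
    obtain ⟨hzH, hz1, hzt⟩ := hA y hyH hy1 hyt
    have hzx : z = x := by
      by_cases hyx : y = x
      · rw [hz, hyx, ← hy, hyx]
      · by_contra hzx
        have hzy : z ≠ y := by
          intro h
          apply hyx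
          have h' : g * y * g⁻¹ = g * x * g⁻¹ := h
          exact mul_left_cancel (mul_right_cancel h')
        have hsub : (({1, t, x, y, z} : Finset G) : Set G) ⊆ (H : Set G) := by
          intro w hw
          simp only [Finset.coe_insert, Finset.coe_singleton, Set.mem_insert_iff,
            Set.mem_singleton_iff] at hw
          rcases hw with rfl | rfl | rfl | rfl | rfl
          · exact H.one_mem
          · exact ht
          · exact hx
          · exact hyH
          · exact hzH
        have hc5 : ({1, t, x, y, z} : Finset G).card = 5 := by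
          rw [Finset.card_insert_of_notMem, Finset.card_insert_of_notMem,
            Finset.card_insert_of_notMem, Finset.card_insert_of_notMem, Finset.card_singleton]
          · simp only [Finset.mem_singleton]; exact fun h => hzy h.symm
          · simp only [Finset.mem_insert, Finset.mem_singleton, not_or]
            exact ⟨fun h => hyx h.symm, fun h => hzx h.symm⟩
          · simp only [Finset.mem_insert, Finset.mem_singleton, not_or]
            exact ⟨fun h => hxt h.symm, fun h => hyt h.symm, fun h => hzt h.symm⟩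
          · simp only [Finset.mem_insert, Finset.mem_singleton, not_or]
            exact ⟨fun h => ht1 h.symm, fun h => hx1 h.symm, fun h => hy1 h.symm,
              fun h => hz1 h.symm⟩
        have h5 : 5 ≤ Nat.card H := by
          rw [← hc5, ← Set.ncard_coe_finset]
          have h6 : (H : Set G).ncard = Nat.card H := by
            rw [← Nat.card_coe_set_eq]; rfl
          rw [← h6]
          exact Set.ncard_le_ncard hsub (Set.toFinite _)
        omega
    have hcomm : Commute (g ^ 2) x := by
      have : g ^ 2 * x * (g ^ 2)⁻¹ = x := by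
        have : g ^ 2 * x * (g ^ 2)⁻¹ = g * (g * x * g⁻¹) * g⁻¹ := by rw [pow_two]; group
        rw [this, ← hy, ← hz, hzx]
      have h' : g ^ 2 * x = x * g ^ 2 := by
        calc g ^ 2 * x = (g ^ 2 * x * (g ^ 2)⁻¹) * g ^ 2 := by group
          _ = x * g ^ 2 := by rw [this]
      exact h'
    exact (commute_of_sq_commute hgo hcomm).eq.symm
  · -- large case
    have hR₀mem : ∀ g' ∈ Subgroup.normalizer (H : Set G), ∀ x ∈ R₀, g' * x * g'⁻¹ ∈ R₀ := by
      intro g' hg' x hx
      obtain ⟨i, rfl⟩ := hR₀c x hx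
      have hconj : g' * (c : G) ^ i * g'⁻¹ = (g' * (c : G) * g'⁻¹) ^ i := by
        rw [conj_zpow]
      rw [hconj]
      apply R₀.zpow_mem
      by_contra hnot
      have h1 := h2 _ (hconjH g' hg' c hcH) hnot
      apply hc2
      have : (c : G) ^ 2 = g'⁻¹ * ((g' * (c : G) * g'⁻¹) * (g' * (c : G) * g'⁻¹)) * g' := by
        rw [pow_two]; group
      rw [this, h1]; group
    have hgR₀ : g ∈ Subgroup.normalizer (R₀ : Set G) := by
      rw [Subgroup.mem_normalizer_iff]
      intro x
      constructor
      · exact hR₀mem g hg x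
      · intro hx
        have := hR₀mem g⁻¹ hginv _ hx
        have h' : g⁻¹ * (g * x * g⁻¹) * g⁻¹⁻¹ = x := by group
        rwa [h'] at this
    have hgC := centralizes_cyclic_two_group hcyc (hH2.to_le hR₀H) hgR₀ hgo
    rw [Subgroup.mem_centralizer_iff] at hgC
    intro x hx
    by_cases hxR : x ∈ R₀
    · exact hgC x hxR
    · set y := g * x * g⁻¹ with hy
      have hyH : y ∈ H := hconjH g hg x hx
      have hyR : y ∉ R₀ := by
        intro h
        apply hxR
        have := hR₀mem g⁻¹ hginv _ h
        have h' : g⁻¹ * (g * x * g⁻¹) * g⁻¹⁻¹ = x := by group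
        rwa [hy, h'] at this
      set u := x * y with hu
      have huR : u ∈ R₀ := h3 x hx hxR y hyH hyR
      have hxx : x * x = 1 := h2 x hx hxR
      have hfu : g * x * g⁻¹ = x * u := by
        rw [hu, ← mul_assoc, hxx, one_mul]
      have hgu : g * u = u * g := (hgC u huR).symm
      have hpow := conj_pow_mul_inv g x u hfu hgu (orderOf g)
      rw [pow_orderOf_eq_one, one_mul, inv_one, mul_one] at hpow
      have hum : u ^ orderOf g = 1 := by
        have : x * u ^ orderOf g = x * 1 := by rw [mul_one]; exact hpow.symm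
        exact mul_left_cancel this
      obtain ⟨k, hk⟩ := (hH2.to_le hR₀H) ⟨u, huR⟩
      have huk : u ^ 2 ^ k = 1 := by simpa using congrArg Subtype.val hk
      have hu1 : u = 1 := by
        have h4 : orderOf u ∣ Nat.gcd (orderOf g) (2 ^ k) :=
          Nat.dvd_gcd (orderOf_dvd_of_pow_eq_one hum) (orderOf_dvd_of_pow_eq_one huk)
        have hcop : Nat.Coprime (orderOf g) (2 ^ k) :=
          Nat.Coprime.pow_right k (Nat.coprime_two_right.mpr hgo)
        rw [hcop] at h4
        exact orderOf_eq_one_iff.mp (Nat.dvd_one.mp h4)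
      rw [hu1, mul_one] at hfu
      calc x * g = (g * x * g⁻¹)⁻¹⁻¹ * g := by rw [hfu, inv_inv]
        _ = g * x := by group

end Cfsg.Agent.Lib.Helper12
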