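import Mathlib
import Cfsg.Prelude.Def_CaseTheorems
import Cfsg.Agent.Lib.Helper12.FourGroup

set_option autoImplicit false

namespace Cfsg.Agent.Lib.Helper12

open Subgroup
open scoped Pointwise

variable {G : Type*} [Group G]

theorem isKleinFour_of_mulEquiv {A B : Type*} [Group A] [Group B] (e : A ≃* B)
    (h : IsKleinFour A) : IsKleinFour B :=
  ⟨by rw [← Nat.card_congr e.toEquiv]; exact h.card_four,
   by rw [← Monoid.exponent_eq_of_mulEquiv e]; exact h.exponent_two⟩

/-- The commuting relation on Klein four-subgroups. -/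
def FRel (A B : Subgroup G) : Prop :=
  IsKleinFour A ∧ IsKleinFour B ∧ ∀ a ∈ A, ∀ b ∈ B, a * b = b * a

theorem isFourConnected_iff : Cfsg.IsFourConnected G ↔
    ∀ U V : Subgroup G, IsKleinFour U → IsKleinFour V → Relation.ReflTransGen FRel U V :=
  Iff.rfl

theorem FRel.symm {A B : Subgroup G} (h : FRel A B) : FRel B A :=
  ⟨h.2.1, h.1, fun b hb a ha => (h.2.2 a ha b hb).symm⟩

theorem freach_symm {A B : Subgroup G} (h : Relation.ReflTransGen FRel A B) :
    Relation.ReflTransGen FRel B A := by
  induction h with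
  | refl => exact Relation.ReflTransGen.refl
  | tail _ hbc ih => exact Relation.ReflTransGen.head hbc.symm ih

theorem isKleinFour_smul (g : G) {V : Subgroup G} (h : IsKleinFour V) :
    IsKleinFour (MulAut.conj g • V : Subgroup G) :=
  isKleinFour_of_mulEquiv (Subgroup.equivSMul (MulAut.conj g) V) h

theorem FRel.smul (g : G) {A B : Subgroup G} (h : FRel A B) :
    FRel (MulAut.conj g • A) (MulAut.conj g • B) := by
  refine ⟨isKleinFour_smul g h.1, isKleinFour_smul g h.2.1, ?_⟩
  intro a ha b hb
  rw [Subgroup.mem_pointwise_smul_iff_inv_smul_mem] at ha hb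
  have := h.2.2 _ ha _ hb
  rw [← smul_mul', ← smul_mul'] at this
  exact smul_left_cancel _ this

theorem freach_smul (g : G) {A B : Subgroup G} (h : Relation.ReflTransGen FRel A B) :
    Relation.ReflTransGen FRel (MulAut.conj g • A) (MulAut.conj g • B) :=
  Relation.ReflTransGen.lift (r := FRel) (p := FRel) (fun A : Subgroup G => MulAut.conj g • A)
    (fun _ _ h => h.smul g) _ _ h

/-- A subgroup with at least 3 elements has a non-identity element different from `e`. -/
theorem exists_ne_of_three_le_card (C : Subgroup G) (h : 3 ≤ Nat.card C) (e : G) :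
    ∃ f ∈ C, f ≠ 1 ∧ f ≠ e := by
  by_contra hcon
  push Not at hcon
  have hsub : (C : Set G) ⊆ {1, e} := by
    intro x hx
    by_cases hx1 : x = 1
    · left; exact hx1
    · right; exact hcon x hx hx1
  have h1 : (C : Set G).ncard ≤ ({1, e} : Set G).ncard := Set.ncard_le_ncard hsub (Set.toFinite _)
  have h2 : ({1, e} : Set G).ncard ≤ 2 :=
    (Set.ncard_insert_le _ _).trans (by rw [Set.ncard_singleton])
  have h3 : (C : Set G).ncard = Nat.card C := by
    rw [← Nat.card_coe_set_eq]; rfl
  omega

/-- `2`-rank at least `2` means there is a Klein four-subgroup. -/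
theorem not_pRankLE_iff (X : Type*) [Group X] :
    ¬ Cfsg.PRankLE 2 1 X ↔ ∃ U : Subgroup X, IsKleinFour U := by
  constructor
  · intro h
    unfold Cfsg.PRankLE at h
    push Not at h
    obtain ⟨A, hcomm, hexp, hcard⟩ := h
    have hcard' : 3 ≤ Nat.card A := by
      have : 2 < Nat.card A := by simpa using hcard
      omega
    obtain ⟨a, haA, ha1, -⟩ := exists_ne_of_three_le_card A hcard' 1
    obtain ⟨b, hbA, hb1, hba⟩ := exists_ne_of_three_le_card A hcard' a
    have haa : a * a = 1 := by rw [← pow_two]; exact hexp a haA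
    have hbb : b * b = 1 := by rw [← pow_two]; exact hexp b hbA
    have hab : a * b = b * a := congrArg Subtype.val (hcomm.is_comm.comm ⟨a, haA⟩ ⟨b, hbA⟩)
    exact ⟨fourSub a b haa hbb hab, isKleinFour_fourSub haa hbb hab ha1 hb1 (Ne.symm hba)⟩
  · rintro ⟨U, hU⟩ h
    have := h U IsKleinFour.isMulCommutative
      (fun a ha => by rw [pow_two]; exact mul_self_of_mem_kleinFour U ha)
    rw [hU.card_four] at this
    norm_num at this

theorem not_pRankLE_subgroup_iff (Q : Subgroup G) :
    ¬ Cfsg.PRankLE 2 1 Q ↔ ∃ V : Subgroup G, V ≤ Q ∧ IsKleinFour V := by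
  rw [not_pRankLE_iff]
  constructor
  · rintro ⟨U, hU⟩
    refine ⟨U.map Q.subtype, ?_, ?_⟩
    · rintro _ ⟨x, _, rfl⟩; exact x.2
    · exact isKleinFour_of_mulEquiv (U.equivMapOfInjective Q.subtype Q.subtype_injective) hU
  · rintro ⟨V, hVQ, hV⟩
    exact ⟨V.subgroupOf Q, isKleinFour_of_mulEquiv (Subgroup.subgroupOfEquivOfLe hVQ).symm hV⟩

/-- Four-subgroups inside a four-connected subgroup are joined inside the big group. -/
theorem freach_of_le_of_connected (S : Subgroup G) (hS : Cfsg.IsFourConnected S)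
    {U V : Subgroup G} (hU : U ≤ S) (hV : V ≤ S) (hU4 : IsKleinFour U) (hV4 : IsKleinFour V) :
    Relation.ReflTransGen FRel U V := by
  have h1 := hS (U.subgroupOf S) (V.subgroupOf S)
    (isKleinFour_of_mulEquiv (Subgroup.subgroupOfEquivOfLe hU).symm hU4)
    (isKleinFour_of_mulEquiv (Subgroup.subgroupOfEquivOfLe hV).symm hV4)
  have hstep : ∀ A B : Subgroup S, FRel A B → FRel (A.map S.subtype) (B.map S.subtype) := by
    intro A B h
    refine ⟨isKleinFour_of_mulEquiv (A.equivMapOfInjective S.subtype S.subtype_injective) h.1,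
      isKleinFour_of_mulEquiv (B.equivMapOfInjective S.subtype S.subtype_injective) h.2.1, ?_⟩
    rintro _ ⟨a, ha, rfl⟩ _ ⟨b, hb, rfl⟩
    exact congrArg Subtype.val (h.2.2 a ha b hb)
  have h2 : Relation.ReflTransGen FRel ((U.subgroupOf S).map S.subtype)
      ((V.subgroupOf S).map S.subtype) :=
    Relation.ReflTransGen.lift (r := FRel) (p := FRel)
      (fun A : Subgroup S => A.map S.subtype) hstep _ _ h1
  rw [Subgroup.map_subgroupOf_eq_of_le hU, Subgroup.map_subgroupOf_eq_of_le hV] at h2
  exact h2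

end Cfsg.Agent.Lib.Helper12
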