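import Mathlib
import Cfsg.Prelude.Def_Solvable
import Cfsg.Agent.S0035

/-!
# Groups acting with constant fixed points are Frobenius complements (helper12)

`G = K ⋊ H` with `(|K|, |H|) = 1`, `H ≠ 1`, every non-identity element of `H` has the same centralizer
`C_K(H)` in `K`, and `H` does not centralize `K`.  Then `H` is (isomorphic to) a Frobenius complement
of some finite Frobenius group.  No solvability hypothesis is needed: the proof is a minimal
counterexample argument that only uses Frobenius' theorem (`S0035.result`).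
-/

set_option autoImplicit false
set_option linter.style.haveILetI false
set_option linter.unusedSectionVars false

namespace Cfsg.Agent.Lib.Helper12.FrobAction

open Cfsg
open scoped Pointwise

universe u

/-- the standing hypotheses -/
structure PA {G : Type u} [Group G] (K H : Subgroup G) : Prop where
  normal : K.Normal
  sup : K ⊔ H = ⊤
  cop : (Nat.card K).Coprime (Nat.card H)
  hne : H ≠ ⊥
  const : ∀ h ∈ H, h ≠ 1 → ∀ k ∈ K, h * k = k * h → ∀ h' ∈ H, h' * k = k * h'
  nontriv : ∃ k ∈ K, ∃ h ∈ H, h * k ≠ k * h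

section Basic

variable {G : Type u} [Group G] {K H : Subgroup G}

theorem PA.inf_eq_bot (P : PA K H) : K ⊓ H = ⊥ :=
  (Subgroup.disjoint_of_coprime_natCard P.cop).eq_bot

theorem PA.decomp (P : PA K H) (g : G) : ∃ k ∈ K, ∃ h ∈ H, g = k * h := by
  haveI := P.normal
  have hg : g ∈ K ⊔ H := by rw [P.sup]; exact Subgroup.mem_top g
  obtain ⟨k, hk, h, hh, rfl⟩ := Subgroup.mem_sup_of_normal_left.mp hg
  exact ⟨k, hk, h, hh, rfl⟩

theorem PA.isComplement' (P : PA K H) : K.IsComplement' H := by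
  haveI := P.normal
  apply Subgroup.isComplement'_of_disjoint_and_mul_eq_univ (disjoint_iff.mpr P.inf_eq_bot)
  rw [← Subgroup.normal_mul, P.sup]
  rfl

theorem PA.card_mul (P : PA K H) : Nat.card K * Nat.card H = Nat.card G :=
  P.isComplement'.card_mul_card

/-- the coprime lifting step: if the "commutator" `d = (k h)⁻¹ (h k)` commutes with `h` then it is trivial. -/
theorem commute_of_comm [Finite G] (hcop : (Nat.card K).Coprime (Nat.card H)) [hKn : K.Normal]
    {k h : G} (hk : k ∈ K) (hh : h ∈ H)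
    (hd : h * ((k * h)⁻¹ * (h * k)) = ((k * h)⁻¹ * (h * k)) * h) : h * k = k * h := by
  set d : G := (k * h)⁻¹ * (h * k) with hdef
  have hdK : d ∈ K := by
    have : d = (h⁻¹ * k⁻¹ * h⁻¹⁻¹) * k := by rw [hdef]; group
    rw [this]
    exact K.mul_mem (hKn.conj_mem _ (K.inv_mem hk) _) hk
  have hkd : h * k = k * h * d := by rw [hdef]; group
  have hconj : h * k * h⁻¹ = k * d := by
    have : h * k * h⁻¹ = k * (h * d * h⁻¹) := by rw [hkd]; group
    rw [this, hd]
    group
  have hdpow : ∀ j : ℕ, h * d ^ j * h⁻¹ = d ^ j := by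
    intro j
    have : Commute h (d ^ j) := (show Commute h d from hd).pow_right j
    rw [this.eq]
    group
  have key : ∀ j : ℕ, h ^ j * k * (h ^ j)⁻¹ = k * d ^ j := by
    intro j
    induction j with
    | zero => simp
    | succ j ih =>
      have : h ^ (j + 1) * k * (h ^ (j + 1))⁻¹ = h * (h ^ j * k * (h ^ j)⁻¹) * h⁻¹ := by
        rw [pow_succ']
        group
      rw [this, ih]
      have : h * (k * d ^ j) * h⁻¹ = (h * k * h⁻¹) * (h * d ^ j * h⁻¹) := by group
      rw [this, hconj, hdpow, pow_succ']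
      group
  have h1 := key (orderOf h)
  rw [pow_orderOf_eq_one] at h1
  have h2 : d ^ orderOf h = 1 := by
    have : k * d ^ orderOf h = k * 1 := by rw [← h1]; group
    exact mul_left_cancel this
  have h3 : orderOf d ∣ Nat.gcd (Nat.card K) (Nat.card H) :=
    Nat.dvd_gcd (Subgroup.orderOf_dvd_natCard K hdK)
      ((orderOf_dvd_of_pow_eq_one h2).trans (Subgroup.orderOf_dvd_natCard H hh))
  rw [hcop] at h3
  have h4 : d = 1 := orderOf_eq_one_iff.mp (Nat.dvd_one.mp h3)
  rw [hkd, h4, mul_one]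

/-- fixed-point-free case: `H` itself is a Frobenius complement. -/
theorem isFrobeniusComplement_of_fpf (P : PA K H)
    (hfpf : ∀ h ∈ H, h ≠ 1 → ∀ k ∈ K, h * k = k * h → k = 1) : IsFrobeniusComplement H := by
  haveI := P.normal
  refine ⟨P.hne, ?_, ?_⟩
  · intro htop
    obtain ⟨k, hk, h, hh, hne⟩ := P.nontriv
    have : k ∈ K ⊓ H := ⟨hk, by rw [htop]; exact Subgroup.mem_top k⟩
    rw [P.inf_eq_bot, Subgroup.mem_bot] at this
    apply hne
    rw [this]
    group
  · intro g hg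
    obtain ⟨k, hk, h₀, hh₀, rfl⟩ := P.decomp g
    have hk1 : k ≠ 1 := by
      rintro rfl
      apply hg
      simpa using hh₀
    rw [eq_bot_iff]
    intro x hx
    obtain ⟨hxH, hxc⟩ := hx
    rw [Subgroup.mem_bot]
    obtain ⟨y, hy, hyx⟩ := (Subgroup.mem_smul_pointwise_iff_exists x _ H).mp hxc
    rw [MulAut.smul_def, MulAut.conj_apply] at hyx
    set y' : G := h₀ * y * h₀⁻¹ with hy'
    have hy'H : y' ∈ H := H.mul_mem (H.mul_mem hh₀ hy) (H.inv_mem hh₀)
    have hx' : x = k * y' * k⁻¹ := by rw [← hyx, hy']; group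
    have hmemK : x * y'⁻¹ ∈ K := by
      have : x * y'⁻¹ = k * (y' * k⁻¹ * y'⁻¹) := by rw [hx']; group
      rw [this]
      exact K.mul_mem hk (P.normal.conj_mem _ (K.inv_mem hk) _)
    have hmemH : x * y'⁻¹ ∈ H := H.mul_mem hxH (H.inv_mem hy'H)
    have h1 : x * y'⁻¹ ∈ K ⊓ H := ⟨hmemK, hmemH⟩
    rw [P.inf_eq_bot, Subgroup.mem_bot] at h1
    have hxy : x = y' := by
      have := mul_inv_eq_one.mp h1
      exact this
    by_contra hx1
    have hy'1 : y' ≠ 1 := by rw [← hxy]; exact hx1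
    have hcomm : y' * k = k * y' := by
      have : y' = k * y' * k⁻¹ := by rw [← hx', hxy]
      calc y' * k = (k * y' * k⁻¹) * k := by rw [← this]
        _ = k * y' := by group
    exact hk1 (hfpf y' hy'H hy'1 k hk hcomm)

end Basic

section Main

/-- Case (a) of the induction: pass to `H ⊔ K'` for a proper `H`-invariant subgroup `K'` of `K` on which
`H` acts nontrivially. -/
theorem PA.restrict {G : Type u} [Group G] [Finite G] {K H : Subgroup G} (P : PA K H)
    (K' : Subgroup G) (hK'K : K' ≤ K) (hinv : ∀ h ∈ H, ∀ x ∈ K', h * x * h⁻¹ ∈ K')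
    (hnt : ∃ k ∈ K', ∃ h ∈ H, h * k ≠ k * h) :
    PA (K'.subgroupOf (H ⊔ K')) (H.subgroupOf (H ⊔ K')) := by
  have hHnorm : H ≤ Subgroup.normalizer (K' : Set G) := fun h hh =>
    Subgroup.mem_normalizer_fintype (fun x hx => hinv h hh x hx)
  have c1 : Nat.card (K'.subgroupOf (H ⊔ K')) = Nat.card K' :=
    Nat.card_congr (Subgroup.subgroupOfEquivOfLe le_sup_right).toEquiv
  have c2 : Nat.card (H.subgroupOf (H ⊔ K')) = Nat.card H :=
    Nat.card_congr (Subgroup.subgroupOfEquivOfLe le_sup_left).toEquiv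
  refine ⟨Subgroup.normal_subgroupOf_sup_of_le_normalizer hHnorm, ?_, ?_, ?_, ?_, ?_⟩
  · exact codisjoint_iff.mp (Subgroup.codisjoint_subgroupOf_sup H K').symm
  · rw [c1, c2]
    exact Nat.Coprime.coprime_dvd_left (Subgroup.card_dvd_of_le hK'K) P.cop
  · intro h
    apply P.hne
    exact (Subgroup.subgroupOf_eq_bot.mp h).eq_bot_of_le le_sup_left
  · intro h hh h1 k hk hc h' hh'
    rw [Subgroup.mem_subgroupOf] at hh hk hh'
    apply Subtype.ext
    simp only [Subgroup.coe_mul]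
    apply P.const (h : G) hh (fun h0 => h1 (Subtype.ext h0)) (k : G) (hK'K hk) _ (h' : G) hh'
    have := congrArg Subtype.val hc
    simpa using this
  · obtain ⟨k, hk, h, hh, hne⟩ := hnt
    refine ⟨⟨k, le_sup_right (a := H) hk⟩, Subgroup.mem_subgroupOf.mpr hk,
      ⟨h, le_sup_left (b := K') hh⟩, Subgroup.mem_subgroupOf.mpr hh, ?_⟩
    intro hc
    apply hne
    have := congrArg Subtype.val hc
    simpa using this

/-- Case (b) of the induction: pass to `G ⧸ D` for a normal subgroup `D` of `G` inside `C_K(H)`. -/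
theorem PA.quotient {G : Type u} [Group G] [Finite G] {K H : Subgroup G} (P : PA K H)
    (D : Subgroup G) [hDn : D.Normal] (hDK : D ≤ K) (hDc : ∀ d ∈ D, ∀ h ∈ H, h * d = d * h) :
    PA (K.map (QuotientGroup.mk' D)) (((QuotientGroup.mk' D).comp H.subtype).range) ∧
      Function.Injective ((QuotientGroup.mk' D).comp H.subtype) := by
  haveI := P.normal
  have hlift : ∀ h ∈ H, ∀ k ∈ K, (QuotientGroup.mk' D h) * (QuotientGroup.mk' D k) =
      (QuotientGroup.mk' D k) * (QuotientGroup.mk' D h) → h * k = k * h := by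
    intro h hh k hk hc
    have hmem : (k * h)⁻¹ * (h * k) ∈ D := by
      rw [← QuotientGroup.eq]
      have := hc.symm
      simpa using this
    exact commute_of_comm P.cop hk hh (hDc _ hmem h hh)
  have hinj : Function.Injective ((QuotientGroup.mk' D).comp H.subtype) := by
    rw [injective_iff_map_eq_one]
    intro x hx
    have hxD : (x : G) ∈ D := by
      have : (QuotientGroup.mk' D) (x : G) = 1 := hx
      exact (QuotientGroup.eq_one_iff _).mp this
    have : (x : G) ∈ K ⊓ H := ⟨hDK hxD, x.2⟩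
    rw [P.inf_eq_bot, Subgroup.mem_bot] at this
    exact Subtype.ext this
  refine ⟨⟨?_, ?_, ?_, ?_, ?_, ?_⟩, hinj⟩
  · exact Subgroup.Normal.map P.normal _ (QuotientGroup.mk'_surjective D)
  · have h1 : ((QuotientGroup.mk' D).comp H.subtype).range = H.map (QuotientGroup.mk' D) := by
      rw [MonoidHom.range_comp, Subgroup.range_subtype]
    rw [h1, ← Subgroup.map_sup, P.sup, ← MonoidHom.range_eq_map,
      MonoidHom.range_eq_top.mpr (QuotientGroup.mk'_surjective D)]
  · have h1 : Nat.card (((QuotientGroup.mk' D).comp H.subtype).range) = Nat.card H :=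
      (Nat.card_congr (MonoidHom.ofInjective hinj).toEquiv).symm
    rw [h1]
    exact Nat.Coprime.coprime_dvd_left (Subgroup.card_map_dvd _ _) P.cop
  · intro h
    apply P.hne
    rw [eq_bot_iff]
    intro x hx
    have : (QuotientGroup.mk' D).comp H.subtype ⟨x, hx⟩ ∈
        ((QuotientGroup.mk' D).comp H.subtype).range := ⟨_, rfl⟩
    rw [h, Subgroup.mem_bot] at this
    have h2 := hinj (this.trans (map_one _).symm)
    exact Subgroup.mem_bot.mpr (congrArg Subtype.val h2)
  · rintro _ ⟨h, rfl⟩ h1 _ ⟨k, hk, rfl⟩ hc _ ⟨h', rfl⟩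
    have hne : (h : G) ≠ 1 := by
      intro h0
      apply h1
      have : h = 1 := Subtype.ext h0
      rw [this, map_one]
    have hcomm := hlift (h : G) h.2 k hk hc
    have := P.const (h : G) h.2 hne k hk hcomm (h' : G) h'.2
    simp only [MonoidHom.comp_apply, Subgroup.coe_subtype]
    rw [← map_mul, ← map_mul, this]
  · obtain ⟨k, hk, h, hh, hne⟩ := P.nontriv
    refine ⟨QuotientGroup.mk' D k, ⟨k, hk, rfl⟩, QuotientGroup.mk' D h, ⟨⟨h, hh⟩, rfl⟩, ?_⟩
    intro hc
    exact hne (hlift h hh k hk hc)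

/-- In a minimal configuration `C_K(H) = 1`. -/
theorem PA.centralizer_eq_bot_of_minimal {G : Type u} [Group G] [Finite G] {K H : Subgroup G} (P : PA K H)
    (hA : ∀ K' : Subgroup G, K' ≤ K → K' ≠ K → (∀ h ∈ H, ∀ x ∈ K', h * x * h⁻¹ ∈ K') →
      ∀ k ∈ K', ∀ h ∈ H, h * k = k * h)
    (hB : ∀ D : Subgroup G, D ≤ K ⊓ Subgroup.centralizer (H : Set G) → D.Normal → D = ⊥) :
    K ⊓ Subgroup.centralizer (H : Set G) = ⊥ := by
  classical
  haveI := P.normal
  set M : Subgroup G := K ⊓ Subgroup.centralizer (H : Set G) with hM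
  by_contra hMne
  have hM1 : ∀ h ∈ H, h ≠ 1 → ∀ k ∈ K, h * k = k * h → k ∈ M := by
    intro h hh h1 k hk hc
    exact ⟨hk, Subgroup.mem_centralizer_iff.mpr (fun h' hh' => P.const h hh h1 k hk hc h' hh')⟩
  have hMc : ∀ m ∈ M, ∀ h ∈ H, h * m = m * h := fun m hm h hh =>
    (Subgroup.mem_centralizer_iff.mp hm.2) h hh
  obtain ⟨k₁, hk₁, h₁, hh₁, hne₁⟩ := P.nontriv
  have hk₁M : k₁ ∉ M := fun hm => hne₁ (hMc k₁ hm h₁ hh₁)
  obtain ⟨h₂, hh₂⟩ := (Subgroup.ne_bot_iff_exists_ne_one.mp P.hne)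
  have hh₂' : (h₂ : G) ∈ H := h₂.2
  have h₂ne' : (h₂ : G) ≠ 1 := fun h0 => hh₂ (Subtype.ext h0)
  -- the centre of `K`
  set ZK : Subgroup G := K ⊓ Subgroup.centralizer (K : Set G) with hZK
  have hZKinvG : ∀ g : G, ∀ x ∈ ZK, g * x * g⁻¹ ∈ ZK := by
    intro g x hx
    refine ⟨P.normal.conj_mem x hx.1 g, Subgroup.mem_centralizer_iff.mpr (fun k hk => ?_)⟩
    have h1 : g⁻¹ * k * g ∈ K := by
      have := P.normal.conj_mem k hk g⁻¹
      simpa using this
    have h2 := (Subgroup.mem_centralizer_iff.mp hx.2) _ h1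
    calc k * (g * x * g⁻¹) = g * ((g⁻¹ * k * g) * x) * g⁻¹ := by group
      _ = g * (x * (g⁻¹ * k * g)) * g⁻¹ := by rw [h2]
      _ = g * x * g⁻¹ * k := by group
  have hZKnormal : ZK.Normal := ⟨fun x hx g => hZKinvG g x hx⟩
  have hZKne : ZK ≠ K := by
    intro hZ
    have hab : ∀ a ∈ K, ∀ b ∈ K, a * b = b * a := by
      intro a ha b hb
      have : b ∈ ZK := by rw [hZ]; exact hb
      exact (Subgroup.mem_centralizer_iff.mp this.2) a ha
    have hMnormal : M.Normal := by
      constructor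
      intro m hm g
      obtain ⟨k, hk, h, hh, rfl⟩ := P.decomp g
      have h1 : h * m * h⁻¹ = m := by rw [hMc m hm h hh]; group
      have h2 : k * m * k⁻¹ = m := by rw [hab k hk m hm.1]; group
      have : k * h * m * (k * h)⁻¹ = k * (h * m * h⁻¹) * k⁻¹ := by group
      rw [this, h1, h2]
      exact hm
    exact hMne (hB M le_rfl hMnormal)
  have hZKle : ZK ≤ M := by
    intro z hz
    exact ⟨hz.1, Subgroup.mem_centralizer_iff.mpr (fun h hh =>
      hA ZK inf_le_left hZKne (fun h hh x hx => hZKinvG h x hx) z hz h hh)⟩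
  have hZKbot : ZK = ⊥ := hB ZK hZKle hZKnormal
  -- `M` is a TI-subgroup of `K`
  have hTI : ∀ k ∈ K, k ∉ M → ∀ m ∈ M, k * m * k⁻¹ ∈ M → m = 1 := by
    intro k hk hkM m hm hm'
    set m' : G := k * m * k⁻¹ with hm'def
    set CK : Subgroup G := K ⊓ Subgroup.centralizer ({m'} : Set G) with hCK
    have hCKinv : ∀ h ∈ H, ∀ x ∈ CK, h * x * h⁻¹ ∈ CK := by
      intro h hh x hx
      refine ⟨P.normal.conj_mem x hx.1 h, Subgroup.mem_centralizer_singleton_iff.mpr ?_⟩
      have h1 : x * m' = m' * x := (Subgroup.mem_centralizer_singleton_iff.mp hx.2)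
      have h2 : h * m' = m' * h := hMc m' hm' h hh
      have h3 : h⁻¹ * m' = m' * h⁻¹ := by
        have : h⁻¹ * m' = h⁻¹ * (m' * h) * h⁻¹ := by group
        rw [this, ← h2]; group
      calc h * x * h⁻¹ * m' = h * x * (h⁻¹ * m') := by group
        _ = h * x * (m' * h⁻¹) := by rw [h3]
        _ = h * (x * m') * h⁻¹ := by group
        _ = h * (m' * x) * h⁻¹ := by rw [h1]
        _ = (h * m') * x * h⁻¹ := by group
        _ = (m' * h) * x * h⁻¹ := by rw [h2]
        _ = m' * (h * x * h⁻¹) := by group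
    have hCKK : CK = K := by
      by_contra hne
      set y : G := k * h₂ * k⁻¹ * (h₂ : G)⁻¹ with hy
      have hyK : y ∈ K := by
        have : y = k * ((h₂ : G) * k⁻¹ * (h₂ : G)⁻¹) := by rw [hy]; group
        rw [this]
        exact K.mul_mem hk (P.normal.conj_mem _ (K.inv_mem hk) _)
      have hycent : y * m' = m' * y := by
        have h1 : (h₂ : G) * m = m * h₂ := hMc m hm h₂ hh₂'
        have h2 : (h₂ : G) * m' = m' * h₂ := hMc m' hm' h₂ hh₂'
        have h3 : (h₂ : G)⁻¹ * m' = m' * (h₂ : G)⁻¹ := by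
          have : (h₂ : G)⁻¹ * m' = (h₂ : G)⁻¹ * (m' * h₂) * (h₂ : G)⁻¹ := by group
          rw [this, ← h2]; group
        calc y * m' = k * h₂ * k⁻¹ * ((h₂ : G)⁻¹ * m') := by rw [hy]; group
          _ = k * h₂ * k⁻¹ * (m' * (h₂ : G)⁻¹) := by rw [h3]
          _ = k * ((h₂ : G) * m) * k⁻¹ * (h₂ : G)⁻¹ := by rw [hm'def]; group
          _ = k * (m * (h₂ : G)) * k⁻¹ * (h₂ : G)⁻¹ := by rw [h1]
          _ = m' * y := by rw [hm'def, hy]; group
      have hyCK : y ∈ CK := ⟨hyK, Subgroup.mem_centralizer_singleton_iff.mpr hycent⟩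
      have hyc : (h₂ : G) * y = y * h₂ := hA CK inf_le_left hne hCKinv y hyCK h₂ hh₂'
      -- apply the lifting lemma to `k⁻¹`, `h₂⁻¹`
      have hd : (h₂ : G)⁻¹ * ((k⁻¹ * (h₂ : G)⁻¹)⁻¹ * ((h₂ : G)⁻¹ * k⁻¹)) =
          ((k⁻¹ * (h₂ : G)⁻¹)⁻¹ * ((h₂ : G)⁻¹ * k⁻¹)) * (h₂ : G)⁻¹ := by
        have e : (k⁻¹ * (h₂ : G)⁻¹)⁻¹ * ((h₂ : G)⁻¹ * k⁻¹) = y⁻¹ := by rw [hy]; group
        rw [e]
        have : (h₂ : G)⁻¹ * y⁻¹ = (y * h₂)⁻¹ := by group
        rw [this, ← hyc]
        group
      have hc := commute_of_comm P.cop (K.inv_mem hk) (H.inv_mem hh₂') hd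
      have hc' : (h₂ : G) * k = k * h₂ := by
        have : (h₂ : G) * k = ((k⁻¹ * (h₂ : G)⁻¹))⁻¹ := by group
        rw [this, ← hc]
        group
      exact hkM (hM1 h₂ hh₂' h₂ne' k hk hc')
    have hm'Z : m' ∈ ZK := by
      refine ⟨hm'.1, Subgroup.mem_centralizer_iff.mpr (fun x hx => ?_)⟩
      have : x ∈ CK := by rw [hCKK]; exact hx
      exact (Subgroup.mem_centralizer_singleton_iff.mp this.2)
    rw [hZKbot, Subgroup.mem_bot] at hm'Z
    have : m = k⁻¹ * m' * k := by rw [hm'def]; group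
    rw [this, hm'Z]
    group
  -- Frobenius' theorem inside `K`
  set M' : Subgroup K := M.subgroupOf K with hM'
  have hM'bot : M' ≠ ⊥ := by
    intro h
    exact hMne ((Subgroup.subgroupOf_eq_bot.mp h).eq_bot_of_le inf_le_left)
  have hM'top : M' ≠ ⊤ := by
    intro h
    exact hk₁M ((Subgroup.subgroupOf_eq_top.mp h) hk₁)
  have hF : IsFrobeniusComplement M' := by
    refine ⟨hM'bot, hM'top, ?_⟩
    intro g hg
    rw [eq_bot_iff]
    intro x hx
    obtain ⟨hxM, hxc⟩ := hx
    rw [Subgroup.mem_bot]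
    obtain ⟨y, hy, hyx⟩ := (Subgroup.mem_smul_pointwise_iff_exists x _ M').mp hxc
    rw [MulAut.smul_def, MulAut.conj_apply] at hyx
    have h1 : (g : G) * (y : G) * (g : G)⁻¹ ∈ M := by
      have : ((g * y * g⁻¹ : K) : G) ∈ M := by rw [hyx]; exact Subgroup.mem_subgroupOf.mp hxM
      simpa using this
    have h2 := hTI (g : G) g.2 (fun hgM => hg (Subgroup.mem_subgroupOf.mpr hgM)) (y : G)
      (Subgroup.mem_subgroupOf.mp hy) h1
    have h3 : y = 1 := Subtype.ext h2
    rw [← hyx, h3]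
    group
  obtain ⟨K0', hK0set, hK0n, hK0c⟩ := Cfsg.Agent.S0035.result M' hF
  have hK0mem : ∀ x : K, x ∈ K0' ↔ (x = 1 ∨ ∀ g : K, x ∉ MulAut.conj g • M') := by
    intro x
    rw [← SetLike.mem_coe, hK0set]
    rfl
  set K0 : Subgroup G := K0'.map K.subtype with hK0
  have hK0le : K0 ≤ K := Subgroup.map_subtype_le K0'
  have hK0inv : ∀ h ∈ H, ∀ x ∈ K0, h * x * h⁻¹ ∈ K0 := by
    intro h hh x hx
    obtain ⟨x', hx', rfl⟩ := hx
    have hconjK : h * (x' : G) * h⁻¹ ∈ K := P.normal.conj_mem _ x'.2 h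
    refine ⟨⟨h * (x' : G) * h⁻¹, hconjK⟩, ?_, rfl⟩
    rw [SetLike.mem_coe, hK0mem]
    rcases (hK0mem x').mp hx' with h1 | h1
    · left
      apply Subtype.ext
      simp [h1]
    · right
      intro g hmem
      obtain ⟨y, hy, hyx⟩ := (Subgroup.mem_smul_pointwise_iff_exists _ _ M').mp hmem
      rw [MulAut.smul_def, MulAut.conj_apply] at hyx
      have hyG : (g : G) * (y : G) * (g : G)⁻¹ = h * (x' : G) * h⁻¹ := by
        have := congrArg Subtype.val hyx
        simpa using this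
      have hg'K : h⁻¹ * (g : G) * h ∈ K := by
        have := P.normal.conj_mem _ g.2 h⁻¹
        simpa using this
      have hyM : (y : G) ∈ M := Subgroup.mem_subgroupOf.mp hy
      have hyc : h * (y : G) = (y : G) * h := hMc _ hyM h hh
      apply h1 ⟨h⁻¹ * (g : G) * h, hg'K⟩
      rw [Subgroup.mem_smul_pointwise_iff_exists]
      refine ⟨y, hy, ?_⟩
      rw [MulAut.smul_def, MulAut.conj_apply]
      apply Subtype.ext
      simp only [Subgroup.coe_mul, Subgroup.coe_inv]
      have : (x' : G) = h⁻¹ * ((g : G) * (y : G) * (g : G)⁻¹) * h := by rw [hyG]; group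
      rw [this]
      have e : h⁻¹ * (g : G) * h * (y : G) * (h⁻¹ * (g : G) * h)⁻¹ =
          h⁻¹ * ((g : G) * (h * (y : G) * h⁻¹) * (g : G)⁻¹) * h := by group
      rw [e, hyc]
      group
  have hK0ne : K0 ≠ K := by
    intro h
    have htop : K0' = ⊤ := by
      rw [eq_top_iff]
      intro x _
      have hx : (x : G) ∈ K0 := by rw [h]; exact x.2
      obtain ⟨x', hx', hxx⟩ := hx
      have : x' = x := Subtype.ext hxx
      rw [← this]
      exact hx'
    have hd := hK0c.disjoint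
    rw [htop] at hd
    exact hM'bot (hd.eq_bot_of_ge le_top)
  have hK0M : K0 ≤ M := by
    intro x hx
    exact ⟨hK0le hx, Subgroup.mem_centralizer_iff.mpr (fun h hh =>
      hA K0 hK0le hK0ne hK0inv x hx h hh)⟩
  have hK0'bot : K0' = ⊥ := by
    rw [eq_bot_iff]
    intro x hx
    have h1 : (x : G) ∈ M := hK0M ⟨x, hx, rfl⟩
    have h2 : x ∈ K0' ⊓ M' := ⟨hx, Subgroup.mem_subgroupOf.mpr h1⟩
    rwa [hK0c.disjoint.eq_bot] at h2
  have := hK0c.sup_eq_top
  rw [hK0'bot, bot_sup_eq] at this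
  exact hM'top this

/-- **Main theorem**: a group acting coprimely with constant fixed points is a Frobenius complement. -/
theorem main_aux : ∀ n : ℕ, ∀ (G : Type u) [Group G] [Finite G], Nat.card G = n →
    ∀ K H : Subgroup G, PA K H →
    ∃ (F : Type u) (_ : Group F) (_ : Finite F) (C : Subgroup F),
      IsFrobeniusComplement C ∧ Nonempty (H ≃* C) := by
  intro n
  induction n using Nat.strong_induction_on with
  | _ n ih =>
  intro G _ _ hn K H P
  classical
  haveI := P.normal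
  by_cases hA : ∃ K' : Subgroup G, K' ≤ K ∧ K' ≠ K ∧ (∀ h ∈ H, ∀ x ∈ K', h * x * h⁻¹ ∈ K') ∧
      ∃ k ∈ K', ∃ h ∈ H, h * k ≠ k * h
  · obtain ⟨K', hK'K, hK'ne, hinv, hnt⟩ := hA
    have P' := P.restrict K' hK'K hinv hnt
    have hlt : Nat.card (H ⊔ K' : Subgroup G) < n := by
      have c1 : Nat.card (K'.subgroupOf (H ⊔ K')) = Nat.card K' :=
        Nat.card_congr (Subgroup.subgroupOfEquivOfLe le_sup_right).toEquiv
      have c2 : Nat.card (H.subgroupOf (H ⊔ K')) = Nat.card H :=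
        Nat.card_congr (Subgroup.subgroupOfEquivOfLe le_sup_left).toEquiv
      have h1 := P'.card_mul
      rw [c1, c2] at h1
      have h2 := P.card_mul
      have h3 : Nat.card K' < Nat.card K := by
        apply lt_of_le_of_ne (Subgroup.card_le_of_le hK'K)
        intro h
        exact hK'ne (Subgroup.eq_of_le_of_card_ge hK'K h.ge)
      have hHpos : 0 < Nat.card H := Nat.card_pos
      rw [← hn, ← h2, ← h1]
      exact Nat.mul_lt_mul_of_pos_right h3 hHpos
    obtain ⟨F, iF, fF, C, hC, ⟨e⟩⟩ := ih _ hlt (↥(H ⊔ K')) rfl _ _ P'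
    exact ⟨F, iF, fF, C, hC, ⟨(Subgroup.subgroupOfEquivOfLe le_sup_left).symm.trans e⟩⟩
  by_cases hB : ∃ D : Subgroup G, D ≤ K ⊓ Subgroup.centralizer (H : Set G) ∧ D.Normal ∧ D ≠ ⊥
  · obtain ⟨D, hDM, hDn, hDne⟩ := hB
    haveI := hDn
    obtain ⟨P', hinj⟩ := P.quotient D (hDM.trans inf_le_left)
      (fun d hd h hh => (Subgroup.mem_centralizer_iff.mp (hDM hd).2) h hh)
    have hlt : Nat.card (G ⧸ D) < n := by
      have h1 := Subgroup.card_eq_card_quotient_mul_card_subgroup D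
      have h2 : 1 < Nat.card D := by
        rw [Subgroup.one_lt_card_iff_ne_bot]
        exact hDne
      have h3 : 0 < Nat.card (G ⧸ D) := Nat.card_pos
      rw [← hn, h1]
      nlinarith
    obtain ⟨F, iF, fF, C, hC, ⟨e⟩⟩ := ih _ hlt (G ⧸ D) rfl _ _ P'
    exact ⟨F, iF, fF, C, hC, ⟨(MonoidHom.ofInjective hinj).trans e⟩⟩
  push Not at hA hB
  have hMbot := P.centralizer_eq_bot_of_minimal
    (fun K' h1 h2 h3 k hk h hh => hA K' h1 h2 h3 k hk h hh)
    (fun D h1 h2 => hB D h1 h2)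
  refine ⟨G, inferInstance, inferInstance, H, isFrobeniusComplement_of_fpf P ?_, ⟨MulEquiv.refl _⟩⟩
  intro h hh h1 k hk hc
  have : k ∈ K ⊓ Subgroup.centralizer (H : Set G) :=
    ⟨hk, Subgroup.mem_centralizer_iff.mpr (fun h' hh' => P.const h hh h1 k hk hc h' hh')⟩
  rw [hMbot] at this
  exact Subgroup.mem_bot.mp this

end Main

end Cfsg.Agent.Lib.Helper12.FrobAction
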