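import Mathlib
import Cfsg.Agent.Lib.Helper62.Rewrite
import Cfsg.Agent.Lib.Helper36.GL23

/-!
# A presentation of `GL(2,3)` on four generators (helper12)

Generators `x y t s` (`x, y` generate the quaternion group, `t` has order three, `s` is an involution
inverting `t`).  The bound `|P| ≤ 48` is a Knuth-Bendix certificate checked by
`Cfsg.Agent.Lib.Helper62.Rewrite`.
-/

set_option autoImplicit false

namespace Cfsg.Agent.Lib.Helper12.GL23Pres

open Cfsg.Agent.Lib.Helper62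

def R0 : Rules := [([0, 0, 0, 0], []), ([1, 1], [0, 0]), ([0, 0, 0, 1], [1, 0]), ([2, 2, 2], []), ([0, 0, 1, 2], [2, 0]), ([0, 0, 0, 1, 2], [2, 1]), ([3, 3], []), ([2, 2, 3], [3, 2]), ([0, 0, 0, 3], [3, 0]), ([0, 1, 3], [3, 1])]
def certs : List Cert := [
  ⟨[], [0, 0, 1], 0, [0, 0, 0], [], 2, true⟩,
  ⟨[], [0, 1], 0, [0, 0], [], 2, true⟩,
  ⟨[], [1], 0, [0], [], 2, true⟩,
  ⟨[], [0, 1, 2], 0, [0, 0, 0], [], 4, true⟩,
  ⟨[], [1, 2], 0, [0, 0], [], 4, true⟩,
  ⟨[], [0, 0, 1, 2], 0, [0, 0, 0], [], 5, true⟩,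
  ⟨[], [0, 1, 2], 0, [0, 0], [], 5, true⟩,
  ⟨[], [1, 2], 0, [0], [], 5, true⟩,
  ⟨[], [0, 0, 3], 0, [0, 0, 0], [], 8, true⟩,
  ⟨[], [0, 3], 0, [0, 0], [], 8, true⟩,
  ⟨[], [3], 0, [0], [], 8, true⟩,
  ⟨[], [1, 3], 0, [0, 0, 0], [], 9, true⟩,
  ⟨[], [1], 2, [0, 0, 0], [], 1, false⟩,
  ⟨[], [2], 2, [0], [], 4, false⟩,
  ⟨[], [3], 2, [0, 0], [], 9, true⟩,
  ⟨[], [2, 3], 3, [2, 2], [], 7, true⟩,
  ⟨[], [3], 3, [2], [], 7, true⟩,
  ⟨[], [2, 2], 4, [0, 0, 1], [], 3, false⟩,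
  ⟨[], [2, 3], 4, [0, 0, 1], [], 7, false⟩,
  ⟨[], [], 5, [], [2], 2, true⟩,
  ⟨[], [2, 2], 5, [0, 0, 0, 1], [], 3, false⟩,
  ⟨[], [2, 3], 5, [0, 0, 0, 1], [], 7, false⟩,
  ⟨[], [3], 7, [2, 2], [], 6, false⟩,
  ⟨[], [3], 8, [0, 0, 0], [], 6, false⟩,
  ⟨[], [3], 9, [0, 1], [], 6, false⟩,
  ⟨[], [0, 2], 1, [1], [], 23, false⟩,
  ⟨[], [0, 2, 2], 3, [2, 2], [], 27, true⟩,
  ⟨[], [0, 2, 3], 3, [2, 2], [], 28, true⟩,
  ⟨[], [1, 2, 2], 3, [2, 2], [], 30, true⟩,
  ⟨[], [3, 2], 4, [0, 0, 1], [], 26, false⟩,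
  ⟨[], [0, 2, 2], 4, [0, 0, 1], [], 27, false⟩,
  ⟨[], [0, 2, 3], 4, [0, 0, 1], [], 28, false⟩,
  ⟨[], [1, 2, 2], 4, [0, 0, 1], [], 30, false⟩,
  ⟨[], [1, 2, 3], 4, [0, 0, 1], [], 31, false⟩,
  ⟨[], [3, 2], 5, [0, 0, 0, 1], [], 26, false⟩,
  ⟨[], [0, 2, 2], 5, [0, 0, 0, 1], [], 27, false⟩,
  ⟨[], [0, 2, 3], 5, [0, 0, 0, 1], [], 28, false⟩,
  ⟨[], [0, 0], 7, [2, 2], [], 18, true⟩,
  ⟨[], [0, 1], 7, [2, 2], [], 21, false⟩,
  ⟨[], [0, 3], 7, [2, 2], [], 33, true⟩,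
  ⟨[], [1, 3], 7, [2, 2], [], 34, false⟩,
  ⟨[], [2, 2], 8, [0, 0, 0], [], 25, false⟩,
  ⟨[], [2, 3], 8, [0, 0, 0], [], 32, false⟩,
  ⟨[], [2, 2], 9, [0, 1], [], 25, false⟩,
  ⟨[], [2, 3], 9, [0, 1], [], 32, false⟩,
  ⟨[], [0, 3], 9, [0, 1], [], 33, false⟩,
  ⟨[], [1, 2], 10, [1], [], 4, true⟩,
  ⟨[], [0, 0, 1, 2], 10, [1, 0], [], 5, true⟩,
  ⟨[], [0, 1, 2], 10, [1], [], 5, false⟩,
  ⟨[], [0, 3], 10, [1], [], 8, true⟩,
  ⟨[], [1, 3], 10, [1, 0], [], 9, true⟩,
  ⟨[], [0, 2, 1], 10, [1], [], 15, false⟩,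
  ⟨[], [2, 1], 10, [1], [], 16, false⟩,
  ⟨[], [0, 3, 0], 10, [1, 0], [], 19, false⟩,
  ⟨[], [0, 3, 1], 11, [0, 0, 1], [], 24, false⟩,
  ⟨[], [0, 0, 1, 2], 13, [0, 0, 0, 2], [], 5, true⟩,
  ⟨[], [0, 0, 3], 13, [0, 0, 0, 2], [], 8, true⟩,
  ⟨[], [0, 2, 0], 13, [0, 0, 0, 2], [], 14, false⟩,
  ⟨[], [0, 0, 2, 1], 13, [0, 0, 0, 2], [], 15, false⟩,
  ⟨[], [0, 2, 1], 13, [0, 0, 0, 2], [], 16, false⟩,
  ⟨[], [2, 1], 13, [0, 0, 0, 2], [], 17, false⟩,
  ⟨[], [0, 3, 0], 13, [0, 0, 0, 2], [], 19, false⟩,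
  ⟨[], [3, 0], 13, [0, 0, 0, 2], [], 20, false⟩,
  ⟨[], [0, 3, 1], 13, [0, 0, 0, 2], [], 24, false⟩,
  ⟨[], [2, 0], 13, [0, 0, 0, 2], [], 29, false⟩,
  ⟨[], [0, 0, 2, 0], 14, [0, 0, 2], [], 13, true⟩,
  ⟨[], [0, 2, 0], 14, [0, 0, 2], [], 14, true⟩,
  ⟨[], [2, 1], 14, [0, 0, 2], [], 17, false⟩,
  ⟨[], [0, 3, 0], 14, [0, 0, 2], [], 19, false⟩,
  ⟨[], [0, 3, 1], 14, [0, 0, 2], [], 24, false⟩,
  ⟨[], [2, 0], 14, [0, 0, 2], [], 29, false⟩,
  ⟨[], [2, 2], 16, [0, 0], [], 30, false⟩,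
  ⟨[], [2, 3], 16, [0, 0], [], 31, false⟩,
  ⟨[], [0, 1, 2], 18, [3, 0], [], 4, false⟩,
  ⟨[], [1, 2], 18, [3], [], 4, false⟩,
  ⟨[], [0, 2, 0], 18, [3], [], 13, false⟩,
  ⟨[], [0, 2, 1], 18, [3], [], 15, false⟩,
  ⟨[], [1, 2, 2], 25, [3, 2], [], 30, true⟩,
  ⟨[], [2, 3], 27, [2, 0, 2], [], 7, true⟩,
  ⟨[], [2, 3], 30, [2, 1, 2], [], 7, true⟩,
  ⟨[], [3], 31, [2, 1, 2], [], 6, false⟩,
  ⟨[], [0, 3, 2], 1, [1], [], 84, true⟩,
  ⟨[], [3, 1], 4, [0, 0], [], 66, false⟩,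
  ⟨[], [1, 2, 1], 8, [0, 0, 0], [], 87, false⟩
]
def NF : List Word := [
  [],
  [0],
  [1],
  [2],
  [3],
  [0, 0],
  [1, 0],
  [2, 0],
  [3, 0],
  [0, 1],
  [2, 1],
  [3, 1],
  [0, 2],
  [1, 2],
  [2, 2],
  [3, 2],
  [0, 3],
  [1, 3],
  [2, 3],
  [0, 0, 0],
  [2, 2, 0],
  [3, 2, 0],
  [0, 0, 1],
  [1, 2, 1],
  [2, 2, 1],
  [3, 2, 1],
  [0, 3, 1],
  [0, 0, 2],
  [2, 0, 2],
  [3, 0, 2],
  [0, 1, 2],
  [2, 1, 2],
  [3, 1, 2],
  [0, 2, 2],
  [1, 2, 2],
  [0, 3, 2],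
  [1, 3, 2],
  [0, 0, 3],
  [1, 0, 3],
  [2, 0, 3],
  [2, 1, 3],
  [0, 2, 3],
  [1, 2, 3],
  [0, 0, 2, 2],
  [0, 0, 3, 2],
  [1, 2, 1, 3],
  [0, 0, 2, 3],
  [0, 1, 2, 3]
]


theorem check : checkAll 16 4 R0 certs NF = true := by decide +kernel

theorem NF_length : NF.length = 48 := by decide

/-- the ten defining relations, as equations between positive words -/
structure GLRel {H : Type*} [Group H] (x y t s : H) : Prop where
  r1 : x * x * x * x = 1
  r2 : y * y = x * x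
  r3 : x * x * x * y = y * x
  r4 : t * t * t = 1
  r5 : x * x * y * t = t * x
  r6 : x * x * x * y * t = t * y
  r7 : s * s = 1
  r8 : t * t * s = s * t
  r9 : x * x * x * s = s * x
  r10 : x * y * s = s * y

abbrev fx : FreeGroup (Fin 4) := FreeGroup.of 0
abbrev fy : FreeGroup (Fin 4) := FreeGroup.of 1
abbrev ft : FreeGroup (Fin 4) := FreeGroup.of 2
abbrev fs : FreeGroup (Fin 4) := FreeGroup.of 3

abbrev rels : Set (FreeGroup (Fin 4)) :=
  {fx * fx * fx * fx,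
   fy * fy * (fx * fx)⁻¹,
   fx * fx * fx * fy * (fy * fx)⁻¹,
   ft * ft * ft,
   fx * fx * fy * ft * (ft * fx)⁻¹,
   fx * fx * fx * fy * ft * (ft * fy)⁻¹,
   fs * fs,
   ft * ft * fs * (fs * ft)⁻¹,
   fx * fx * fx * fs * (fs * fx)⁻¹,
   fx * fy * fs * (fs * fy)⁻¹}

abbrev P := PresentedGroup rels

abbrev px : P := PresentedGroup.of 0
abbrev py : P := PresentedGroup.of 1
abbrev pt : P := PresentedGroup.of 2
abbrev ps : P := PresentedGroup.of 3

theorem P_rel : GLRel px py pt ps := by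
  have key : ∀ r ∈ rels, PresentedGroup.mk rels r = 1 := fun r hr => PresentedGroup.one_of_mem hr
  refine ⟨?_, ?_, ?_, ?_, ?_, ?_, ?_, ?_, ?_, ?_⟩
  · have := key (fx * fx * fx * fx) (by simp [rels])
    simpa [PresentedGroup.of] using this
  · have := key (fy * fy * (fx * fx)⁻¹) (by simp [rels])
    rw [← mul_inv_eq_one]
    simpa [PresentedGroup.of] using this
  · have := key (fx * fx * fx * fy * (fy * fx)⁻¹) (by simp [rels])
    rw [← mul_inv_eq_one]
    simpa [PresentedGroup.of] using this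
  · have := key (ft * ft * ft) (by simp [rels])
    simpa [PresentedGroup.of] using this
  · have := key (fx * fx * fy * ft * (ft * fx)⁻¹) (by simp [rels])
    rw [← mul_inv_eq_one]
    simpa [PresentedGroup.of] using this
  · have := key (fx * fx * fx * fy * ft * (ft * fy)⁻¹) (by simp [rels])
    rw [← mul_inv_eq_one]
    simpa [PresentedGroup.of] using this
  · have := key (fs * fs) (by simp [rels])
    simpa [PresentedGroup.of] using this
  · have := key (ft * ft * fs * (fs * ft)⁻¹) (by simp [rels])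
    rw [← mul_inv_eq_one]
    simpa [PresentedGroup.of] using this
  · have := key (fx * fx * fx * fs * (fs * fx)⁻¹) (by simp [rels])
    rw [← mul_inv_eq_one]
    simpa [PresentedGroup.of] using this
  · have := key (fx * fy * fs * (fs * fy)⁻¹) (by simp [rels])
    rw [← mul_inv_eq_one]
    simpa [PresentedGroup.of] using this

/-- the generator map indexed by `ℕ` -/
def gen {H : Type*} [Group H] (x y t s : H) : ℕ → H := fun i =>
  if i = 0 then x else if i = 1 then y else if i = 2 then t else if i = 3 then s else 1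

theorem valid_R0 {H : Type*} [Group H] {x y t s : H} (h : GLRel x y t s) :
    Valid (gen x y t s) R0 := by
  intro p hp
  simp only [R0, List.mem_cons, List.not_mem_nil, or_false] at hp
  rcases hp with rfl | rfl | rfl | rfl | rfl | rfl | rfl | rfl | rfl | rfl
  · simp only [ev_cons, ev_nil, gen, if_true, mul_one]
    rw [← h.r1]; simp [mul_assoc]
  · simp only [ev_cons, ev_nil, gen, if_true, mul_one]
    simpa [mul_assoc] using h.r2
  · simp only [ev_cons, ev_nil, gen, if_true, mul_one]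
    simpa [mul_assoc] using h.r3
  · simp only [ev_cons, ev_nil, gen, if_true, mul_one]
    rw [← h.r4]; simp [mul_assoc]
  · simp only [ev_cons, ev_nil, gen, if_true, mul_one]
    simpa [mul_assoc] using h.r5
  · simp only [ev_cons, ev_nil, gen, if_true, mul_one]
    simpa [mul_assoc] using h.r6
  · simp only [ev_cons, ev_nil, gen, if_true, mul_one]
    simpa [mul_assoc] using h.r7
  · simp only [ev_cons, ev_nil, gen, if_true, mul_one]
    simpa [mul_assoc] using h.r8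
  · simp only [ev_cons, ev_nil, gen, if_true, mul_one]
    simpa [mul_assoc] using h.r9
  · simp only [ev_cons, ev_nil, gen, if_true, mul_one]
    simpa [mul_assoc] using h.r10

/-- a group generated by four elements satisfying the relations has order at most 48 -/
theorem card_le {H : Type*} [Group H] {x y t s : H} (h : GLRel x y t s)
    (hgen : Subgroup.closure ({x, y, t, s} : Set H) = ⊤) : Finite H ∧ Nat.card H ≤ 48 := by
  have hcl : Subgroup.closure (gen x y t s '' {i | i < 4}) = ⊤ := by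
    rw [eq_top_iff, ← hgen]
    apply Subgroup.closure_mono
    intro g hg
    simp only [Set.mem_insert_iff, Set.mem_singleton_iff] at hg
    rcases hg with rfl | rfl | rfl | rfl
    · exact ⟨0, by simp, by simp [gen]⟩
    · exact ⟨1, by simp, by simp [gen]⟩
    · exact ⟨2, by simp, by simp [gen]⟩
    · exact ⟨3, by simp, by simp [gen]⟩
  have := card_le_of_checkAll (gen x y t s) 16 4 R0 certs NF (valid_R0 h) check hcl
  rwa [NF_length] at this

theorem P_gen : Subgroup.closure ({px, py, pt, ps} : Set P) = ⊤ := by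
  rw [eq_top_iff, ← PresentedGroup.closure_range_of rels]
  apply Subgroup.closure_mono
  rintro _ ⟨i, rfl⟩
  fin_cases i <;> simp

theorem P_card : Finite P ∧ Nat.card P ≤ 48 := card_le P_rel P_gen

/-- the homomorphism out of the presented group -/
def lift {H : Type*} [Group H] {x y t s : H} (h : GLRel x y t s) : P →* H :=
  PresentedGroup.toGroup (f := ![x, y, t, s]) (by
    intro r hr
    simp only [rels, Set.mem_insert_iff, Set.mem_singleton_iff] at hr
    rcases hr with rfl | rfl | rfl | rfl | rfl | rfl | rfl | rfl | rfl | rfl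
    · simpa using h.r1
    · simp only [map_mul, map_inv, FreeGroup.lift_apply_of, mul_inv_eq_one]
      simpa using h.r2
    · simp only [map_mul, map_inv, FreeGroup.lift_apply_of, mul_inv_eq_one]
      simpa using h.r3
    · simpa using h.r4
    · simp only [map_mul, map_inv, FreeGroup.lift_apply_of, mul_inv_eq_one]
      simpa using h.r5
    · simp only [map_mul, map_inv, FreeGroup.lift_apply_of, mul_inv_eq_one]
      simpa using h.r6
    · simpa using h.r7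
    · simp only [map_mul, map_inv, FreeGroup.lift_apply_of, mul_inv_eq_one]
      simpa using h.r8
    · simp only [map_mul, map_inv, FreeGroup.lift_apply_of, mul_inv_eq_one]
      simpa using h.r9
    · simp only [map_mul, map_inv, FreeGroup.lift_apply_of, mul_inv_eq_one]
      simpa using h.r10)

variable {H : Type*} [Group H] {x y t s : H} (h : GLRel x y t s)

@[simp] theorem lift_px : lift h px = x := by simp [lift]
@[simp] theorem lift_py : lift h py = y := by simp [lift]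
@[simp] theorem lift_pt : lift h pt = t := by simp [lift]
@[simp] theorem lift_ps : lift h ps = s := by simp [lift]

theorem lift_surjective (hgen : Subgroup.closure ({x, y, t, s} : Set H) = ⊤) :
    Function.Surjective (lift h) := by
  rw [← MonoidHom.range_eq_top, eq_top_iff, ← hgen, Subgroup.closure_le]
  intro g hg
  simp only [Set.mem_insert_iff, Set.mem_singleton_iff] at hg
  rcases hg with rfl | rfl | rfl | rfl
  · exact ⟨px, lift_px h⟩
  · exact ⟨py, lift_py h⟩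
  · exact ⟨pt, lift_pt h⟩
  · exact ⟨ps, lift_ps h⟩

/-! ### The model `GL(2,3)` -/

def mX : GL (Fin 2) (ZMod 3) := ⟨!![0,1;2,0], !![0,2;1,0], by decide, by decide⟩
def mY : GL (Fin 2) (ZMod 3) := ⟨!![1,1;1,2], !![2,2;2,1], by decide, by decide⟩
def mT : GL (Fin 2) (ZMod 3) := ⟨!![1,1;0,1], !![1,2;0,1], by decide, by decide⟩
def mS : GL (Fin 2) (ZMod 3) := ⟨!![1,0;0,2], !![1,0;0,2], by decide, by decide⟩

theorem gl_rel : GLRel mX mY mT mS := by
  refine ⟨?_, ?_, ?_, ?_, ?_, ?_, ?_, ?_, ?_, ?_⟩ <;> (apply Units.ext; decide)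

theorem mX_sq_ne : mX * mX ≠ 1 := by
  intro h
  have := congrArg Units.val h
  revert this
  decide

/-- **Recognition of `GL(2,3)`**: a group of order 48 generated by `x y t s` satisfying the relations,
in which every nontrivial normal subgroup contains `x²`, is isomorphic to `GL(2,3)`. -/
theorem iso_GL23 {K : Type*} [Group K] [Finite K] (hK : Nat.card K = 48) {x y t s : K}
    (h : GLRel x y t s) (hgen : Subgroup.closure ({x, y, t, s} : Set K) = ⊤)
    (hmin : ∀ N : Subgroup K, N.Normal → N ≠ ⊥ → x * x ∈ N) :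
    Nonempty (K ≃* GL (Fin 2) (ZMod 3)) := by
  obtain ⟨hfin, hcard⟩ := P_card
  have := hfin
  have hψs : Function.Surjective (lift h) := lift_surjective h hgen
  have hψ : Function.Bijective (lift h) :=
    Function.Surjective.bijective_of_nat_card_le hψs (by rw [hK]; exact hcard)
  have hP : Nat.card P = 48 := by
    rw [Nat.card_congr (Equiv.ofBijective _ hψ), hK]
  have hχi : Function.Injective (lift gl_rel) := by
    rw [← MonoidHom.ker_eq_bot_iff]
    by_contra hne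
    have hN : ((lift gl_rel).ker.map (lift h)).Normal :=
      Subgroup.Normal.map inferInstance _ hψs
    have hNb : (lift gl_rel).ker.map (lift h) ≠ ⊥ := by
      rw [Ne, Subgroup.map_eq_bot_iff_of_injective _ hψ.1]
      exact hne
    obtain ⟨γ, hγ, hγx⟩ := hmin _ hN hNb
    have : γ = px * px := hψ.1 (by rw [hγx, map_mul, lift_px])
    rw [this, SetLike.mem_coe, MonoidHom.mem_ker, map_mul, lift_px] at hγ
    exact mX_sq_ne hγ
  have hχ : Function.Bijective (lift gl_rel) :=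
    Function.Injective.bijective_of_nat_card_le hχi
      (by rw [Cfsg.Agent.Lib.Helper36.card_GL23, hP])
  exact ⟨(MulEquiv.ofBijective _ hψ).symm.trans (MulEquiv.ofBijective _ hχ)⟩

end Cfsg.Agent.Lib.Helper12.GL23Pres
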