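import Mathlib
import Cfsg.Prelude.Def_Local

/-!
# Shared definitions for the Glauberman automorphism theorem (K-S1301-GL pack)

`SPair S R b`: `R` is a 2-group of automorphisms of `X`, `b` an automorphism of odd order
normalizing `R` with `[R, b] = R`, and `R`, `b` fix the Sylow 2-subgroup `S` pointwise.
`GLStmt X`: for every such pair, `R` acts trivially on `X / O(X)`.
Also: restriction of automorphisms to invariant subgroups (`stab`, `restr`) and the
"local subgroup" `locSub Q V = N_X(Q × V)` computed inside `X`.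
-/

set_option autoImplicit false

namespace Cfsg.Agent.Lib.Helper12.GL

universe u

section defs

variable {X : Type u} [Group X]

/-- A "Schmidt pair" of automorphisms fixing a Sylow 2-subgroup pointwise. -/
structure SPair (S : Sylow 2 X) (R : Subgroup (MulAut X)) (b : MulAut X) : Prop where
  isP : IsPGroup 2 R
  odd : Odd (orderOf b)
  norm : b ∈ Subgroup.normalizer (R : Set (MulAut X))
  comm : ⁅R, Subgroup.zpowers b⁆ = R
  fixR : ∀ r ∈ R, ∀ s ∈ S, r s = s
  fixb : ∀ s ∈ S, b s = s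

/-- automorphisms stabilizing the subgroup `Y` -/
def stab (Y : Subgroup X) : Subgroup (MulAut X) where
  carrier := {a | ∀ y, a y ∈ Y ↔ y ∈ Y}
  one_mem' := fun _ => Iff.rfl
  mul_mem' := by
    intro a b ha hb y
    show a (b y) ∈ Y ↔ y ∈ Y
    rw [ha, hb]
  inv_mem' := by
    intro a ha y
    have := ha (a⁻¹ y)
    rw [MulAut.apply_inv_self] at this
    exact this.symm

theorem mem_stab {Y : Subgroup X} {a : MulAut X} :
    a ∈ stab Y ↔ ∀ y, a y ∈ Y ↔ y ∈ Y := Iff.rfl

/-- restriction of a stabilizing automorphism to `Y` -/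
def restr (Y : Subgroup X) : ↥(stab Y) →* MulAut ↥Y where
  toFun a :=
    { toFun := fun y => ⟨(a : MulAut X) y, ((a.2 y).mpr y.2)⟩
      invFun := fun y => ⟨(a : MulAut X)⁻¹ y, ((stab Y).inv_mem a.2 y).mpr y.2⟩
      left_inv := fun y => by ext; simp
      right_inv := fun y => by ext; simp
      map_mul' := fun y z => by ext; simp }
  map_one' := by ext; simp
  map_mul' := fun a b => by ext; simp

@[simp] theorem restr_apply (Y : Subgroup X) (a : ↥(stab Y)) (y : ↥Y) :
    ((restr Y a y : ↥Y) : X) = (a : MulAut X) y := rfl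

/-- `locSub Q V`: the elements `y` of `X` that normalize `Q` and satisfy `y * (v y)⁻¹ ∈ Q` for all
`v ∈ V`. In the semidirect product `X ⋊ V` this is `N_X(Q × V)`. -/
def locSub (Q : Subgroup X) (V : Subgroup (MulAut X)) : Subgroup X where
  carrier := {y | y ∈ Subgroup.normalizer (Q : Set X) ∧ ∀ v ∈ V, y * (v y)⁻¹ ∈ Q}
  one_mem' := ⟨Subgroup.one_mem _, fun v _ => by simp⟩
  mul_mem' := by
    rintro y z ⟨hy, hy'⟩ ⟨hz, hz'⟩
    refine ⟨Subgroup.mul_mem _ hy hz, fun v hv => ?_⟩
    have h1 : y * z * (v (y * z))⁻¹ = y * (z * (v z)⁻¹) * y⁻¹ * (y * (v y)⁻¹) := by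
      rw [map_mul]; group
    rw [h1]
    exact Subgroup.mul_mem _ ((Subgroup.mem_normalizer_iff.mp hy _).mp (hz' v hv)) (hy' v hv)
  inv_mem' := by
    rintro y ⟨hy, hy'⟩
    refine ⟨Subgroup.inv_mem _ hy, fun v hv => ?_⟩
    have h1 : y⁻¹ * (v y⁻¹)⁻¹ = y⁻¹ * (y * (v y)⁻¹)⁻¹ * y⁻¹⁻¹ := by
      rw [map_inv]; group
    rw [h1]
    exact (Subgroup.mem_normalizer_iff.mp (Subgroup.inv_mem _ hy) _).mp
      (Subgroup.inv_mem _ (hy' v hv))

theorem mem_locSub {Q : Subgroup X} {V : Subgroup (MulAut X)} {y : X} :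
    y ∈ locSub Q V ↔ y ∈ Subgroup.normalizer (Q : Set X) ∧ ∀ v ∈ V, y * (v y)⁻¹ ∈ Q := Iff.rfl

end defs

/-- Glauberman's theorem for `X` (elementwise form): every Schmidt pair fixing a Sylow
2-subgroup pointwise has `R` acting trivially modulo `O(X)`. -/
def GLStmt (X : Type u) [Group X] [Finite X] : Prop :=
  ∀ (S : Sylow 2 X) (R : Subgroup (MulAut X)) (b : MulAut X), SPair S R b →
    ∀ r ∈ R, ∀ x : X, x⁻¹ * r x ∈ Cfsg.pPrimeCore 2 X

/-- The induction hypothesis: `GLStmt` for all groups (in the same universe) of smaller order. -/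
def GLBelow (X : Type u) [Group X] [Finite X] : Prop :=
  ∀ (Y : Type u) [Group Y] [Finite Y], Nat.card Y < Nat.card X → GLStmt Y

end Cfsg.Agent.Lib.Helper12.GL
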