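import Mathlib
import Cfsg.Prelude.Def_Local
import Cfsg.Agent.Lib.Helper12.GLDefs
import Cfsg.Agent.Lib.Helper53.GLQuot
import Cfsg.Agent.Lib.Helper93.GL2bFinal
import Cfsg.Agent.Lib.Helper99.GL3a
import Cfsg.Agent.Lib.Helper20.GLZStar
import Cfsg.Agent.Lib.Helper97.GL3c
import Cfsg.Agent.Lib.Helper66.GL5

/-!
# Glauberman's automorphism theorem (assembly of the K-S1301-GL pack)

`glauberman X : GLStmt X`: if `S` is a Sylow 2-subgroup of the finite group `X`, `R` a 2-group of
automorphisms and `b` an automorphism of odd order normalizing `R` with `[R, b] = R`, both fixing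
`S` pointwise, then `R` acts trivially on `X / O(X)`.  Consequence (`odd_card_of_perfect_fix`): when
`O(X) = 1`, a perfect group of automorphisms of `X` fixing `S` pointwise has odd order.
-/

set_option autoImplicit false
universe u

namespace Cfsg.Agent.Lib.Helper12.GL

/-- the central case -/
theorem gl_central (X : Type u) [Group X] [Finite X] (hIH : GLBelow X)
    (hO : Cfsg.pPrimeCore 2 X = ⊥) (hP : Cfsg.pCore 2 X ≤ Subgroup.center X) : GLStmt X := by
  intro S R b hSP r hr x
  by_cases hR1 : R = ⊥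
  · rw [hR1, Subgroup.mem_bot] at hr
    subst hr
    simp
  · exfalso
    obtain ⟨V, hVR, hV1, hVc, hV2, hVn⟩ :=
      Cfsg.Agent.Lib.Helper97.GL.exists_central_elementary R hSP.isP hR1
    apply hV1
    apply Cfsg.Agent.Lib.Helper20.GL.eq_bot_of_local_fix X hO S V hV2
      (fun v hv s hs => hSP.fixR v (hVR hv) s hs)
    intro Q hQS hSyl
    exact Cfsg.Agent.Lib.Helper99.GL.local_fix X hIH hO hP S R b hSP V hVR hVc (hVn b hSP.norm) Q
      hQS hSyl

/-- Glauberman's theorem, by induction on the order -/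
theorem gl_all : ∀ (n : ℕ) (X : Type u) [Group X] [Finite X], Nat.card X = n → GLStmt X := by
  intro n
  induction n using Nat.strong_induction_on with
  | _ n ih =>
    intro X _ _ hn
    have hIH : GLBelow X := by
      intro Y _ _ hY
      exact ih (Nat.card Y) (hn ▸ hY) Y rfl
    by_cases hO : Cfsg.pPrimeCore 2 X = ⊥
    · by_cases hP : Cfsg.pCore 2 X ≤ Subgroup.center X
      · exact gl_central X hIH hO hP
      · exact Cfsg.Agent.Lib.Helper93.GL.gl_noncentral X hIH hO hP
    · exact Cfsg.Agent.Lib.Helper53.GL.gl_of_quot X hIH hO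

/-- **Glauberman's theorem.** -/
theorem glauberman (X : Type u) [Group X] [Finite X] : GLStmt X := gl_all _ X rfl

/-- A perfect group of automorphisms fixing a Sylow 2-subgroup pointwise has odd order (`O(X) = 1`). -/
theorem odd_card_of_perfect_fix (X : Type u) [Group X] [Finite X]
    (hO : Cfsg.pPrimeCore 2 X = ⊥) (S : Sylow 2 X) (B : Subgroup (MulAut X))
    (hBS : ∀ β ∈ B, ∀ s ∈ S, β s = s) (hB : ⁅B, B⁆ = B) : Odd (Nat.card B) :=
  Cfsg.Agent.Lib.Helper66.GL.odd_card_of_perfect_fix_of_glStmt X (glauberman X) hO S B hBS hB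

end Cfsg.Agent.Lib.Helper12.GL
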