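import Cfsg.Agent.Lib.Helper76.J1Tools

/-!
# S4274 keystone K-S4274-35112: no simple group of order 35112 with 77 Sylow 19-subgroups
-/

set_option autoImplicit false
set_option linter.style.haveILetI false

namespace Cfsg.Agent.Lib.Helper12.J1

open Cfsg.Agent.Lib.Helper76.J1 Subgroup

theorem no_simple_35112 {G : Type*} [Group G] [Finite G] [IsSimpleGroup G]
    (hcard : Nat.card G = 35112) (h19 : Nat.card (Sylow 19 G) = 77) (hmin : HMin G) : False := by
  haveI : Fact (Nat.Prime 7) := ⟨by norm_num⟩
  haveI : Fact (Nat.Prime 11) := ⟨by norm_num⟩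
  haveI : Fact (Nat.Prime 19) := ⟨by norm_num⟩
  obtain ⟨P⟩ : Nonempty (Sylow 19 G) := inferInstance
  obtain ⟨S7⟩ : Nonempty (Sylow 7 G) := inferInstance
  obtain ⟨S11⟩ : Nonempty (Sylow 11 G) := inferInstance
  have hS7 : ∀ S : Sylow 7 G, Nat.card ↥(S : Subgroup G) = 7 := fun S =>
    card_sylow_eq_prime hcard (by norm_num) (by norm_num) S
  have hS11 : ∀ S : Sylow 11 G, Nat.card ↥(S : Subgroup G) = 11 := fun S =>
    card_sylow_eq_prime hcard (by norm_num) (by norm_num) S
  have hS19 : ∀ S : Sylow 19 G, Nat.card ↥(S : Subgroup G) = 19 := fun S =>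
    card_sylow_eq_prime hcard (by norm_num) (by norm_num) S
  -- N_19 and C_19
  have hN19 : Nat.card ↥(normalizer ((P : Subgroup G) : Set G)) = 456 := by
    rw [card_normalizer_eq_div hcard P, h19]
  obtain ⟨e19, c19, he19, he19', hC19, hce19⟩ :=
    exists_relIndex hcard (by norm_num : 19 ∣ 35112) (by norm_num) (by norm_num) P
  rw [h19] at hce19
  norm_num at hce19
  have hc19 : 4 ≤ c19 := by
    have hle : e19 ≤ 18 := Nat.le_of_dvd (by norm_num) he19
    interval_cases e19 <;> omega
  -- n_7
  have h7mem := card_sylow_mem_validList (G := G) (p := 7) hcard (by norm_num) (by norm_num)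
    (by norm_num) (by norm_num)
  have hv7 : validList 35112 7 = [22, 57, 1254] := by decide +kernel
  rw [hv7] at h7mem
  have h7dvd : 19 ∣ Nat.card (Sylow 7 G) :=
    dvd_card_sylow_of_hmin hmin P (r := 7) (by rw [hcard]; norm_num) (by rw [hN19]; norm_num)
  -- n_11
  have h11mem := card_sylow_mem_validList (G := G) (p := 11) hcard (by norm_num) (by norm_num)
    (by norm_num) (by norm_num)
  have hv11 : validList 35112 11 = [133, 1596] := by decide +kernel
  rw [hv11] at h11mem
  have hn7 : Nat.card (Sylow 7 G) = 1254 := by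
    simp only [List.mem_cons, List.not_mem_nil, or_false] at h7mem
    rcases h7mem with h | h | h
    · rw [h] at h7dvd; omega
    · exfalso
      have hx := cross_num (G := G) (n := 35112) (p := 7) (q := 11) hcard (by norm_num)
        (by norm_num) (by norm_num) (by norm_num) (by rw [h]; norm_num) (by norm_num)
      simp only [List.mem_cons, List.not_mem_nil, or_false] at h11mem
      rcases h11mem with h' | h' <;> rw [h'] at hx <;> omega
    · exact h
  -- C_7
  obtain ⟨e7, c7, he7, he7', hC7, hce7⟩ :=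
    exists_relIndex hcard (by norm_num : 7 ∣ 35112) (by norm_num) (by norm_num) S7
  rw [hn7] at hce7
  norm_num at hce7
  have hc7 : c7 = 2 := by
    have hle : e7 ≤ 6 := Nat.le_of_dvd (by norm_num) he7
    interval_cases e7 <;> omega
  subst hc7
  have hC7all : ∀ S : Sylow 7 G,
      Nat.card ↥(centralizer ((S : Subgroup G) : Set G)) = 7 * 2 := fun S => by
    rw [card_centralizer_sylow_eq S S7, hC7]
  have hA7 := card_dvd_orderOf_ge (G := G) (p := 7) (c := 2) hS7 hC7all
  rw [hn7] at hA7
  -- C_19 count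
  have hC19all : ∀ S : Sylow 19 G,
      Nat.card ↥(centralizer ((S : Subgroup G) : Set G)) = 19 * c19 := fun S => by
    rw [card_centralizer_sylow_eq S P, hC19]
  have hA19 := card_dvd_orderOf_ge (G := G) (p := 19) (c := c19) hS19 hC19all
  rw [h19] at hA19
  -- C_11
  obtain ⟨e11, c11, he11, he11', hC11, hce11⟩ :=
    exists_relIndex hcard (by norm_num : 11 ∣ 35112) (by norm_num) (by norm_num) S11
  have hC11all : ∀ S : Sylow 11 G,
      Nat.card ↥(centralizer ((S : Subgroup G) : Set G)) = 11 * c11 := fun S => by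
    rw [card_centralizer_sylow_eq S S11, hC11]
  have hA11 := card_dvd_orderOf_ge (G := G) (p := 11) (c := c11) hS11 hC11all
  have hle11 : e11 ≤ 10 := Nat.le_of_dvd (by norm_num) he11
  have hA11' : 15960 ≤ Nat.card {x : G // 11 ∣ orderOf x} ∧ (c11 = 12 ∨ c11 = 1) := by
    simp only [List.mem_cons, List.not_mem_nil, or_false] at h11mem
    rcases h11mem with h | h
    · rw [h] at hce11 hA11
      norm_num at hce11
      have hc : c11 = 12 := by
        interval_cases e11 <;> omega
      subst hc
      exact ⟨by omega, Or.inl rfl⟩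
    · rw [h] at hce11 hA11
      norm_num at hce11
      have hc : c11 = 1 := by
        interval_cases e11 <;> omega
      subst hc
      exact ⟨by omega, Or.inr rfl⟩
  obtain ⟨hA11'', hc11⟩ := hA11'
  -- disjointness
  have hd7_11 : ∀ x : G, 7 ∣ orderOf x → ¬ 11 ∣ orderOf x := fun x hx =>
    not_dvd_orderOf_of_not_dvd_card_centralizer (p := 7) (q := 11) (by norm_num) hS7 S7
      (by rw [hC7]; norm_num) x hx
  have hd7_19 : ∀ x : G, 7 ∣ orderOf x → ¬ 19 ∣ orderOf x := fun x hx =>
    not_dvd_orderOf_of_not_dvd_card_centralizer (p := 7) (q := 19) (by norm_num) hS7 S7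
      (by rw [hC7]; norm_num) x hx
  have hd11_19 : ∀ x : G, 11 ∣ orderOf x → ¬ 19 ∣ orderOf x := fun x hx =>
    not_dvd_orderOf_of_not_dvd_card_centralizer (p := 11) (q := 19) (by norm_num) hS11 S11
      (by rw [hC11]; rcases hc11 with h | h <;> rw [h] <;> norm_num) x hx
  have htot := card_add3_le_of_disjoint (G := G) (fun x => 7 ∣ orderOf x)
    (fun x => 11 ∣ orderOf x) (fun x => 19 ∣ orderOf x) hd7_11 hd7_19 hd11_19
  rw [hcard] at htot
  have h5544 : 5544 ≤ 77 * ((19 - 1) * c19) := by
    have : 77 * ((19 - 1) * c19) = 1386 * c19 := by ring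
    omega
  omega

end Cfsg.Agent.Lib.Helper12.J1
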