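import Cfsg.Prelude.Def_OddOrderChar
import Cfsg.Prelude.Def_OddOrderLocal
import Cfsg.Agent.S1535
import Cfsg.Agent.S0161

/-!
# K-1542 leaves A, C1, C2, D (helper12)

Small facts for the glue of `S1542`: the Frobenius hypothesis in centraliser form inside `↥L`,
non-emptiness / conjugation-closedness / non-reality of the set of induced characters, and the
Frobenius property of quotients (centraliser formulation of `S1521`).
-/

set_option autoImplicit false
open Cfsg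

namespace Cfsg.Agent.Lib.Helper12.K1542

/-- **Leaf A**: the Frobenius hypothesis in centraliser form inside `↥L`. -/
theorem hC_of_hfrob {G : Type*} [Group G] (L : Subgroup G)
    (hfrob : ∀ x ∈ Cfsg.fittingHallOf L, x ≠ 1 →
      L ⊓ Subgroup.centralizer ({x} : Set G) ≤ Cfsg.fittingHallOf L) :
    ∀ k ∈ Cfsg.fittingHall ↥L, k ≠ 1 →
      Subgroup.centralizer ({k} : Set ↥L) ≤ Cfsg.fittingHall ↥L := by
  intro k hk hk1 x hx
  have hkG : (k : G) ∈ Cfsg.fittingHallOf L := ⟨k, hk, rfl⟩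
  have hk1G : (k : G) ≠ 1 := fun h => hk1 (Subtype.ext h)
  have hxc : (x : G) ∈ L ⊓ Subgroup.centralizer ({(k : G)} : Set G) := by
    refine Subgroup.mem_inf.mpr ⟨x.2, ?_⟩
    rw [Subgroup.mem_centralizer_iff]
    intro c hc
    rw [Set.mem_singleton_iff] at hc
    subst hc
    have h1 := (Subgroup.mem_centralizer_iff.mp hx) k (Set.mem_singleton k)
    exact congrArg Subtype.val h1
  obtain ⟨y, hy, hyx⟩ := hfrob (k : G) hkG hk1G hxc
  have : y = x := Subtype.ext hyx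
  rw [← this]
  exact hy

/-- **Leaf C1**: the set of induced characters is nonempty. -/
theorem nonempty_S {N : Type*} [Group N] [Fintype N] (K : Subgroup N) [K.Normal]
    (hsolv : Group.IsSolvable K) (hK1 : K ≠ ⊥) : (Cfsg.inducedIrrAbove K ⊥).Nonempty := by
  haveI : ((⊥ : Subgroup N).subgroupOf K).Normal := by
    rw [Subgroup.bot_subgroupOf]; infer_instance
  obtain ⟨lam, hirr, -, hne, hker⟩ :=
    Cfsg.Agent.Lib.Helper34.exists_linear_above K hsolv ⊥ (bot_lt_iff_ne_bot.mpr hK1)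
  exact ⟨Cfsg.indFun K lam, lam, hirr, hne, hker, rfl⟩

/-- **Leaf C2**: the set of induced characters is closed under conjugation and has no real member
(Burnside, `S0161`). -/
theorem conj_S {N : Type*} [Group N] [Fintype N] (K : Subgroup N) [K.Normal]
    (hodd : Odd (Nat.card N))
    (hC : ∀ k ∈ K, k ≠ 1 → Subgroup.centralizer ({k} : Set N) ≤ K) :
    ∀ χ ∈ Cfsg.inducedIrrAbove K ⊥,
      Cfsg.conjFun χ ∈ Cfsg.inducedIrrAbove K ⊥ ∧ Cfsg.conjFun χ ≠ χ := by
  intro χ hχ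
  refine ⟨Cfsg.Agent.Lib.Helper34.inducedIrrAbove_conj_mem K ⊥ hχ, ?_⟩
  intro hreal
  obtain ⟨θ, hθ, hne, -, rfl⟩ := hχ
  obtain ⟨hirr, k, hk, hkne⟩ := Cfsg.Agent.Lib.Helper34.ind_frobRel K hC hθ hne
  have h1 := Cfsg.Agent.S0161.result hodd ⟨Cfsg.indFun K θ, hirr⟩ (fun g => by
    have h2 := congrFun hreal g
    simp only [Cfsg.conjFun] at h2
    exact Complex.conj_eq_iff_im.mp h2)
  apply hkne
  have h3 : Cfsg.indFun K θ = fun _ => 1 := h1
  rw [h3]

/-- **Leaf D**: a quotient of a Frobenius group by a normal subgroup inside the kernel is Frobenius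
(centraliser formulation used by `S1521`). -/
theorem frob_quot {N : Type*} [Group N] [Finite N] (K : Subgroup N) [K.Normal]
    (H₁ : Subgroup N) [hH₁ : H₁.Normal] (hH₁K : H₁ ≤ K)
    (hC : ∀ k ∈ K, k ≠ 1 → Subgroup.centralizer ({k} : Set N) ≤ K) :
    ∀ k ∈ K, k ∉ H₁ → ∀ x : N, x * k * x⁻¹ * k⁻¹ ∈ H₁ → x ∈ K := by
  intro k hk hkH x hx
  by_contra hxK
  -- `f n = [x, n]` is injective on `K`
  have hinj : ∀ a ∈ K, ∀ b ∈ K, x * a * x⁻¹ * a⁻¹ = x * b * x⁻¹ * b⁻¹ → a = b := by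
    intro a ha b hb hab
    by_contra hne
    have hc1 : b⁻¹ * a ≠ 1 := by
      intro h
      apply hne
      have h' : b * (b⁻¹ * a) = b * 1 := by rw [h]
      rw [mul_inv_cancel_left, mul_one] at h'
      exact h'
    have hcK : b⁻¹ * a ∈ K := K.mul_mem (K.inv_mem hb) ha
    apply hxK
    apply hC (b⁻¹ * a) hcK hc1
    rw [Subgroup.mem_centralizer_iff]
    intro c hc
    rw [Set.mem_singleton_iff] at hc
    subst hc
    -- from `x a x⁻¹ a⁻¹ = x b x⁻¹ b⁻¹`: `x⁻¹ (b⁻¹ a) = (b⁻¹ a) x⁻¹`, hence commute with `x`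
    have h1 : a * x⁻¹ * a⁻¹ = b * x⁻¹ * b⁻¹ := by
      have := congrArg (fun z => x⁻¹ * z) hab
      simpa [mul_assoc] using this
    have h2 : (b⁻¹ * a) * x⁻¹ = x⁻¹ * (b⁻¹ * a) := by
      calc (b⁻¹ * a) * x⁻¹ = b⁻¹ * (a * x⁻¹ * a⁻¹) * a := by group
        _ = b⁻¹ * (b * x⁻¹ * b⁻¹) * a := by rw [h1]
        _ = x⁻¹ * (b⁻¹ * a) := by group
    calc (b⁻¹ * a) * x = x * (x⁻¹ * (b⁻¹ * a)) * x := by group
      _ = x * ((b⁻¹ * a) * x⁻¹) * x := by rw [h2]
      _ = x * (b⁻¹ * a) := by group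
  -- restricted to `H₁` it is a bijection of `H₁`
  let f : H₁ → H₁ := fun n => ⟨x * n * x⁻¹ * (n : N)⁻¹,
    H₁.mul_mem (hH₁.conj_mem n n.2 x) (H₁.inv_mem n.2)⟩
  have hfinj : Function.Injective f := by
    intro a b hab
    apply Subtype.ext
    exact hinj a (hH₁K a.2) b (hH₁K b.2) (congrArg Subtype.val hab)
  have hfsurj : Function.Surjective f := Finite.surjective_of_injective hfinj
  obtain ⟨n, hn⟩ := hfsurj ⟨x * k * x⁻¹ * k⁻¹, hx⟩
  have hnk : (n : N) = k := hinj n (hH₁K n.2) k hk (congrArg Subtype.val hn)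
  exact hkH (hnk ▸ n.2)

end Cfsg.Agent.Lib.Helper12.K1542
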