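import Cfsg.Agent.S1524
import Cfsg.Agent.S1535
import Cfsg.Agent.Lib.Helper12.K1542A
import Cfsg.Agent.Lib.Helper31.FittingHall
import Cfsg.Agent.Lib.Helper59.BenderMain

/-!
# K-1542 leaf F1 (helper12, parallel hand)

The TI case of `S1542` for ordinary induction, by Sibley's theorem `S1524`.
-/

set_option autoImplicit false
open Cfsg

namespace Cfsg.Agent.Lib.Helper12.K1542

/-- **Leaf F1**: the TI case, via Sibley (`S1524`), for induction. -/
theorem coherent_ind_of_TI {G : Type*} [Group G] [Fintype G] (hG : Cfsg.IsMinSimpleOddOrder G)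
    (L : Subgroup G) [Fintype L] (hL : IsCoatom L) (hF : Cfsg.IsOfTypeF ↥L)
    (hfrob : ∀ x ∈ Cfsg.fittingHallOf L, x ≠ 1 →
      L ⊓ Subgroup.centralizer ({x} : Set G) ≤ Cfsg.fittingHallOf L)
    (hTI : Cfsg.IsTISubset (Cfsg.fittingHallOf L : Set G)) :
    Cfsg.IsCoherent (Cfsg.inducedIrrAbove (Cfsg.fittingHall L) ⊥) {1}ᶜ
      (fun α : L → ℂ => Cfsg.indFun L α) := by
  classical
  obtain ⟨-, hoddL, hK1, hK2, U, hU1, hcompl, -, -⟩ := hF
  have hsimple : IsSimpleGroup G := hG.2.1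
  have hC := hC_of_hfrob L hfrob
  have hHL : Cfsg.fittingHallOf L ≤ L := Cfsg.Agent.Lib.Helper31.fittingHallOf_le L
  have hH1 : Cfsg.fittingHallOf L ≠ ⊥ := by
    intro h
    apply hK1
    rw [Cfsg.fittingHallOf, Subgroup.map_eq_bot_iff_of_injective _ L.subtype_injective] at h
    exact h
  have hN : Subgroup.normalizer (Cfsg.fittingHallOf L : Set G) = L :=
    Cfsg.Agent.Lib.Helper59.Bender.normalizer_eq_of_coatom hL hHL hH1
      (Cfsg.Agent.Lib.Helper31.le_normalizer_fittingHallOf L)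
  have hnilK : Group.IsNilpotent (Cfsg.fittingHall ↥L) :=
    Cfsg.Agent.S1535.kernel_nilpotent (Cfsg.fittingHall ↥L) hC hK2
  have hnil : Group.IsNilpotent (Cfsg.fittingHallOf L) :=
    Group.nilpotent_of_mulEquiv
      (Subgroup.equivMapOfInjective (Cfsg.fittingHall ↥L) L.subtype L.subtype_injective)
  have hW₁L : U.map L.subtype ≤ L := Subgroup.map_subtype_le U
  have hW1 : U.map L.subtype ≠ ⊥ := by
    intro h
    apply hU1
    rw [Subgroup.map_eq_bot_iff_of_injective _ L.subtype_injective] at h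
    exact h
  have hHn : ∀ x ∈ L, ∀ h ∈ Cfsg.fittingHallOf L, x * h * x⁻¹ ∈ Cfsg.fittingHallOf L := by
    rintro x hx _ ⟨k, hk, rfl⟩
    exact ⟨(⟨x, hx⟩ : L) * k * (⟨x, hx⟩ : L)⁻¹,
      (Cfsg.fittingHall_normal ↥L).conj_mem k hk _, rfl⟩
  have hinf : Cfsg.fittingHallOf L ⊓ U.map L.subtype = ⊥ := by
    rw [Cfsg.fittingHallOf, ← Subgroup.map_inf _ _ _ L.subtype_injective,
      hcompl.disjoint.eq_bot, Subgroup.map_bot]
  have hsup : Cfsg.fittingHallOf L ⊔ U.map L.subtype = L := by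
    rw [Cfsg.fittingHallOf, ← Subgroup.map_sup, hcompl.sup_eq_top, ← MonoidHom.range_eq_map,
      Subgroup.range_subtype]
  have hfpf : ∀ w ∈ U.map L.subtype, w ≠ 1 → ∀ h ∈ Cfsg.fittingHallOf L, w * h = h * w →
      h = 1 := by
    intro w hw hw1 h hh hwh
    by_contra hh1
    apply hw1
    have hwH : w ∈ Cfsg.fittingHallOf L := by
      apply hfrob h hh hh1
      refine Subgroup.mem_inf.mpr ⟨hW₁L hw, ?_⟩
      rw [Subgroup.mem_centralizer_iff]
      intro c hc
      rw [Set.mem_singleton_iff] at hc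
      subst hc
      exact hwh.symm
    have : w ∈ Cfsg.fittingHallOf L ⊓ U.map L.subtype := Subgroup.mem_inf.mpr ⟨hwH, hw⟩
    rw [hinf, Subgroup.mem_bot] at this
    exact this
  have key := Cfsg.Agent.S1524.result (Cfsg.fittingHallOf L) L (U.map L.subtype) hoddL hHL hW₁L
    hH1 hW1 hnil hHn hinf hsup hfpf hTI hN
  have hsub : (Cfsg.fittingHallOf L).subgroupOf L = Cfsg.fittingHall ↥L := by
    rw [Cfsg.fittingHallOf, Subgroup.subgroupOf,
      Subgroup.comap_map_eq_self_of_injective L.subtype_injective]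
  rw [hsub] at key
  exact key

end Cfsg.Agent.Lib.Helper12.K1542
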