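import Cfsg.Prelude.Def_OddOrderChar
import Cfsg.Prelude.Def_OddOrderLocal
import Cfsg.Agent.S1537
import Cfsg.Agent.S1500
import Cfsg.Agent.S1501
import Cfsg.Agent.Lib.Helper34.Induction
import Cfsg.Agent.Lib.Helper34.GenChar
import Cfsg.Agent.Lib.Helper34.Coherence
import Cfsg.Agent.Lib.Helper34.IndAbove
import Cfsg.Agent.Lib.Helper34.FrobTI
import Cfsg.Agent.Lib.Helper31.BG147D2
import Cfsg.Agent.Lib.Helper31.FittingHall
import Cfsg.Agent.Lib.Helper59.BenderMain

/-!
# K-1542 leaf F2 (helper12, parallel hand)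

In the TI case the Dade map of `(A(L), L, R)` is ordinary induction on `ℤ[S]°`.
-/

set_option autoImplicit false
open Cfsg

namespace Cfsg.Agent.Lib.Helper12.K1542

open Cfsg.Agent.Lib.Helper34

/-- members of `ℤ[S]` are generalized characters vanishing off `K` -/
theorem zspan_facts {N : Type*} [Group N] [Fintype N] (K : Subgroup N) [K.Normal] {α : N → ℂ}
    (hα : α ∈ Cfsg.zspan (Cfsg.inducedIrrAbove K ⊥)) :
    Cfsg.IsGeneralizedCharacter N α ∧ ∀ x : N, x ∉ K → α x = 0 := by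
  refine zspan_induction (p := fun α => Cfsg.IsGeneralizedCharacter N α ∧ ∀ x : N, x ∉ K → α x = 0)
    hα ?_ ?_ ?_ ?_
  · intro φ hφ
    refine ⟨IsCharacter.isGeneralizedCharacter (inducedIrrAbove_isCharacter K ⊥ hφ), ?_⟩
    obtain ⟨θ, -, -, -, rfl⟩ := hφ
    intro x hx
    exact indFun_normal_apply_not_mem K θ hx
  · exact ⟨isGeneralizedCharacter_zero, fun _ _ => rfl⟩
  · rintro x y ⟨hx1, hx2⟩ ⟨hy1, hy2⟩
    refine ⟨isGeneralizedCharacter_add hx1 hy1, fun z hz => ?_⟩
    rw [Pi.add_apply, hx2 z hz, hy2 z hz, add_zero]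
  · rintro x ⟨hx1, hx2⟩
    refine ⟨isGeneralizedCharacter_neg hx1, fun z hz => ?_⟩
    rw [Pi.neg_apply, hx2 z hz, neg_zero]

/-- the non-identity elements of `M_F` lie in `A(M)` for `M` of Type I -/
theorem mem_typeA_of_mem {G : Type*} [Group G] {L : Subgroup G} (hI : Cfsg.IsOfTypeI L)
    {a : G} (ha : a ∈ Cfsg.fittingHallOf L) (ha1 : a ≠ 1) : a ∈ Cfsg.typeA L := by
  classical
  unfold Cfsg.typeA
  rw [if_pos hI]
  exact ⟨Cfsg.Agent.Lib.Helper31.fittingHallOf_le L ha, ha1, a, ha, ha1, rfl⟩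

/-- members of `ℤ[S]°` vanish off `A(L)` -/
theorem zspanOn_vanish {G : Type*} [Group G] {L : Subgroup G} [Fintype L]
    (hI : Cfsg.IsOfTypeI L) {α : L → ℂ}
    (hα : α ∈ Cfsg.zspanOn (Cfsg.inducedIrrAbove (Cfsg.fittingHall L) ⊥) {1}ᶜ) :
    ∀ x : L, (x : G) ∉ Cfsg.typeA L → α x = 0 := by
  intro x hx
  by_cases hx1 : x = 1
  · exact hα.2 x (by simp [hx1])
  · by_cases hxK : x ∈ Cfsg.fittingHall ↥L
    · exfalso
      apply hx
      exact mem_typeA_of_mem hI ⟨x, hxK, rfl⟩ (fun h => hx1 (Subtype.ext h))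
    · exact (zspan_facts (Cfsg.fittingHall ↥L) hα.1).2 x hxK

/-- **Leaf F2**: in the TI case the Dade map is induction on `ℤ[S]°`. -/
theorem dade_eq_ind_of_TI {G : Type*} [Group G] [Fintype G] (hG : Cfsg.IsMinSimpleOddOrder G)
    (L : Subgroup G) [Fintype L] (hL : IsCoatom L) (hI : Cfsg.IsOfTypeI L)
    (hfrob : ∀ x ∈ Cfsg.fittingHallOf L, x ≠ 1 →
      L ⊓ Subgroup.centralizer ({x} : Set G) ≤ Cfsg.fittingHallOf L)
    (hTI : Cfsg.IsTISubset (Cfsg.fittingHallOf L : Set G)) :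
    ∀ α ∈ Cfsg.zspanOn (Cfsg.inducedIrrAbove (Cfsg.fittingHall L) ⊥) {1}ᶜ,
      Cfsg.dadeIsometry (Cfsg.typeA L) L (Cfsg.supportR L) α = Cfsg.indFun L α := by
  classical
  intro α hα
  have hD : Cfsg.DadeHypothesis (Cfsg.typeA L) L (Cfsg.supportR L) :=
    (Cfsg.Agent.S1537.result hG L hL (Cfsg.typeA L) (Or.inr (Or.inl rfl))).2
  have hαg : Cfsg.IsGeneralizedCharacter L α := (zspan_facts (Cfsg.fittingHall ↥L) hα.1).1
  have hαc : Cfsg.IsClassFunction L α := isGeneralizedCharacter_isClassFunction hαg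
  have hαA := zspanOn_vanish hI hα
  -- the normaliser of `H = L_F` is `L`
  have hsimple : IsSimpleGroup G := hG.2.1
  have hK1 : Cfsg.fittingHallOf L ≠ ⊥ := by
    intro h
    apply hI.1.2.2.1
    rw [Cfsg.fittingHallOf, Subgroup.map_eq_bot_iff_of_injective _ L.subtype_injective] at h
    exact h
  have hN : Subgroup.normalizer (Cfsg.fittingHallOf L : Set G) = L :=
    Cfsg.Agent.Lib.Helper59.Bender.normalizer_eq_of_coatom hL (Cfsg.Agent.Lib.Helper31.fittingHallOf_le L) hK1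
      (Cfsg.Agent.Lib.Helper31.le_normalizer_fittingHallOf L)
  -- `R(a) = 1` on `A(L)`
  have hR : ∀ a ∈ Cfsg.typeA L, Cfsg.supportR L a = ⊥ := by
    intro a ha
    apply Cfsg.Agent.Lib.Helper31.BG147.supportR_eq_bot_of_le
    have ha' := ha
    unfold Cfsg.typeA at ha'
    rw [if_pos hI] at ha'
    obtain ⟨haL, ha1, x, hx, hx1, hax⟩ := ha'
    have haH : a ∈ Cfsg.fittingHallOf L := by
      apply hfrob x hx hx1
      refine Subgroup.mem_inf.mpr ⟨haL, ?_⟩
      rw [Subgroup.mem_centralizer_iff]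
      intro c hc
      rw [Set.mem_singleton_iff] at hc
      subst hc
      exact hax.symm
    intro c hc
    rw [← hN]
    by_contra hcN
    apply ha1
    apply hTI c hcN a haH
    have hca : c * a = a * c := by
      have := (Subgroup.mem_centralizer_iff.mp hc) a (Set.mem_singleton a)
      exact this.symm
    rw [hca, mul_inv_cancel_right]
    exact haH
  -- inner products with every class function agree
  have hinner : ∀ χ : G → ℂ, Cfsg.IsClassFunction G χ →
      Cfsg.classInner (Cfsg.dadeIsometry (Cfsg.typeA L) L (Cfsg.supportR L) α) χ =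
        Cfsg.classInner (Cfsg.indFun L α) χ := by
    intro χ hχ
    rw [classInner_indFun_left L α χ hχ]
    apply (Cfsg.Agent.S1500.result (Cfsg.typeA L) L (Cfsg.supportR L) hD α hαc hαA).2 χ
      (fun l : L => χ l) hχ
    intro a ha
    rw [hR a ha, Subgroup.card_bot, Nat.cast_one, inv_one, one_mul, Subgroup.coe_bot,
      finsum_mem_singleton, mul_one]
  -- hence the difference has norm zero
  have hτc : Cfsg.IsClassFunction G
      (Cfsg.dadeIsometry (Cfsg.typeA L) L (Cfsg.supportR L) α) :=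
    isGeneralizedCharacter_isClassFunction
      (Cfsg.Agent.S1501.result (Cfsg.typeA L) L (Cfsg.supportR L) hD α hαg hαA)
  have hic : Cfsg.IsClassFunction G (Cfsg.indFun L α) := indFun_isClassFunction L α
  have hδc : Cfsg.IsClassFunction G
      (Cfsg.dadeIsometry (Cfsg.typeA L) L (Cfsg.supportR L) α - Cfsg.indFun L α) := by
    intro g h
    rw [Pi.sub_apply, Pi.sub_apply, hτc g h, hic g h]
  have h0 : Cfsg.classInner
      (Cfsg.dadeIsometry (Cfsg.typeA L) L (Cfsg.supportR L) α - Cfsg.indFun L α)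
      (Cfsg.dadeIsometry (Cfsg.typeA L) L (Cfsg.supportR L) α - Cfsg.indFun L α) = 0 := by
    rw [classInner_sub_left, hinner _ hδc, sub_self]
  exact sub_eq_zero.mp ((classInner_self_eq_zero _).mp h0)

end Cfsg.Agent.Lib.Helper12.K1542
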