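import Mathlib
import Cfsg.Agent.Lib.Helper12.KKDefs

/-!
# S3779: basic lemmas on `brk`, `derFrom`, `lcsFrom` and graded families
-/

set_option autoImplicit false
set_option linter.unusedSectionVars false
set_option linter.unusedVariables false

namespace Cfsg.Agent.Lib.Helper12.KK

universe u

variable {L : Type u} [LieRing L]

theorem lie_mem_brk {A B : AddSubgroup L} {a b : L} (ha : a ∈ A) (hb : b ∈ B) :
    ⁅a, b⁆ ∈ brk A B :=
  AddSubgroup.subset_closure ⟨a, ha, b, hb, rfl⟩

theorem brk_le {A B C : AddSubgroup L} (h : ∀ a ∈ A, ∀ b ∈ B, ⁅a, b⁆ ∈ C) : brk A B ≤ C := by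
  unfold brk
  rw [AddSubgroup.closure_le]
  rintro z ⟨a, ha, b, hb, rfl⟩
  exact h a ha b hb

theorem brk_mono {A A' B B' : AddSubgroup L} (hA : A ≤ A') (hB : B ≤ B') :
    brk A B ≤ brk A' B' :=
  brk_le fun a ha b hb => lie_mem_brk (hA ha) (hB hb)

theorem brk_bot_left (B : AddSubgroup L) : brk ⊥ B = ⊥ := by
  rw [eq_bot_iff]
  apply brk_le
  intro a ha b hb
  rw [AddSubgroup.mem_bot] at ha
  subst ha
  simp

theorem brk_bot_right (A : AddSubgroup L) : brk A ⊥ = ⊥ := by
  rw [eq_bot_iff]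
  apply brk_le
  intro a ha b hb
  rw [AddSubgroup.mem_bot] at hb
  subst hb
  simp

theorem brk_comm (A B : AddSubgroup L) : brk A B = brk B A := by
  apply le_antisymm
  · apply brk_le
    intro a ha b hb
    rw [← lie_skew]
    exact neg_mem (lie_mem_brk hb ha)
  · apply brk_le
    intro a ha b hb
    rw [← lie_skew]
    exact neg_mem (lie_mem_brk hb ha)

/-- bilinearity: to bound `brk (⨆ S) (⨆ S')` it suffices to bound the `brk (S i) (S' j)` -/
theorem brk_iSup_le {ι κ : Sort*} {S : ι → AddSubgroup L} {S' : κ → AddSubgroup L}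
    {C : AddSubgroup L} (h : ∀ i j, brk (S i) (S' j) ≤ C) :
    brk (⨆ i, S i) (⨆ j, S' j) ≤ C := by
  apply brk_le
  intro a ha b hb
  refine AddSubgroup.iSup_induction S (C := fun a => ⁅a, b⁆ ∈ C) ha ?_ ?_ ?_
  · intro i x hx
    refine AddSubgroup.iSup_induction S' (C := fun b => ⁅x, b⁆ ∈ C) hb ?_ ?_ ?_
    · intro j y hy
      exact h i j (lie_mem_brk hx hy)
    · rw [lie_zero]; exact zero_mem _
    · intro y y' hy hy'
      rw [lie_add]; exact add_mem hy hy'
  · rw [zero_lie]; exact zero_mem _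
  · intro x x' hx hx'
    rw [add_lie]; exact add_mem hx hx'

/-- bilinearity in the first argument only -/
theorem brk_iSup_left_le {ι : Sort*} {S : ι → AddSubgroup L} {B C : AddSubgroup L}
    (h : ∀ i, brk (S i) B ≤ C) : brk (⨆ i, S i) B ≤ C := by
  apply brk_le
  intro a ha b hb
  refine AddSubgroup.iSup_induction S (C := fun a => ⁅a, b⁆ ∈ C) ha ?_ ?_ ?_
  · intro i x hx
    exact h i (lie_mem_brk hx hb)
  · rw [zero_lie]; exact zero_mem _
  · intro x x' hx hx'
    rw [add_lie]; exact add_mem hx hx'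

/-- bilinearity, closure version in the first argument -/
theorem brk_closure_left_le {S : Set L} {B C : AddSubgroup L}
    (h : ∀ x ∈ S, ∀ b ∈ B, ⁅x, b⁆ ∈ C) : brk (AddSubgroup.closure S) B ≤ C := by
  apply brk_le
  intro a ha b hb
  induction ha using AddSubgroup.closure_induction with
  | mem x hx => exact h x hx b hb
  | zero => rw [zero_lie]; exact zero_mem _
  | add x y _ _ hx hy => rw [add_lie]; exact add_mem hx hy
  | neg x _ hx => rw [neg_lie]; exact neg_mem hx

theorem derFrom_zero (A : AddSubgroup L) : derFrom A 0 = A := rfl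

theorem derFrom_succ (A : AddSubgroup L) (t : ℕ) :
    derFrom A (t + 1) = brk (derFrom A t) (derFrom A t) := rfl

theorem lcsFrom_zero (A : AddSubgroup L) : lcsFrom A 0 = A := rfl

theorem lcsFrom_succ (A : AddSubgroup L) (t : ℕ) :
    lcsFrom A (t + 1) = brk (lcsFrom A t) A := rfl

theorem derFrom_mono {A B : AddSubgroup L} (h : A ≤ B) : ∀ t, derFrom A t ≤ derFrom B t
  | 0 => h
  | t + 1 => brk_mono (derFrom_mono h t) (derFrom_mono h t)

theorem derFrom_succ' (A : AddSubgroup L) : ∀ t, derFrom A (t + 1) = derFrom (brk A A) t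
  | 0 => rfl
  | t + 1 => by
    rw [derFrom_succ, derFrom_succ' A t, derFrom_succ]

theorem derFrom_add (A : AddSubgroup L) (s : ℕ) :
    ∀ t, derFrom A (s + t) = derFrom (derFrom A s) t
  | 0 => rfl
  | t + 1 => by
    rw [← add_assoc, derFrom_succ, derFrom_add A s t, derFrom_succ]

theorem derFrom_bot : ∀ t, derFrom (⊥ : AddSubgroup L) t = ⊥
  | 0 => rfl
  | t + 1 => by rw [derFrom_succ, derFrom_bot t, brk_bot_left]

theorem lcsFrom_mono {A B : AddSubgroup L} (h : A ≤ B) : ∀ t, lcsFrom A t ≤ lcsFrom B t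
  | 0 => h
  | t + 1 => brk_mono (lcsFrom_mono h t) h

theorem lcsFrom_add (A : AddSubgroup L) (s : ℕ) :
    ∀ t, lcsFrom A (s + t) = (fun X => brk X A)^[t] (lcsFrom A s)
  | 0 => rfl
  | t + 1 => by
    rw [← add_assoc, lcsFrom_succ, lcsFrom_add A s t, Function.iterate_succ_apply']

theorem lcsFrom_bot : ∀ t, lcsFrom (⊥ : AddSubgroup L) t = ⊥
  | 0 => rfl
  | t + 1 => by rw [lcsFrom_succ, brk_bot_right]

theorem lcsFrom_eq_bot_of_le {A : AddSubgroup L} {s t : ℕ} (h : lcsFrom A s = ⊥) (hst : s ≤ t) :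
    lcsFrom A t = ⊥ := by
  obtain ⟨r, rfl⟩ := Nat.exists_eq_add_of_le hst
  induction r with
  | zero => exact h
  | succ r ih => rw [← add_assoc, lcsFrom_succ, ih (Nat.le_add_right _ _), brk_bot_left]

/-! ## graded families -/

variable {n : ℕ}

theorem GFam.T_le_tot (F : GFam n L) (i : ZMod n) : F.T i ≤ F.tot := le_iSup F.T i

theorem GFam.brk_T_le (F : GFam n L) (i j : ZMod n) : brk (F.T i) (F.T j) ≤ F.T (i + j) :=
  brk_le fun a ha b hb => F.lie_mem i j a b ha hb

/-- the derived family: `T' i = Σ_a ⁅T a, T (i - a)⁆` -/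
def GFam.derived (F : GFam n L) : GFam n L where
  T i := ⨆ a, brk (F.T a) (F.T (i - a))
  lie_mem := by
    have hle : ∀ i, (⨆ a, brk (F.T a) (F.T (i - a))) ≤ F.T i := by
      intro i
      apply iSup_le
      intro a
      have := F.brk_T_le a (i - a)
      rwa [add_sub_cancel] at this
    intro i j x y hx hy
    have h1 : ⁅x, y⁆ ∈ brk (F.T i) (F.T (i + j - i)) := by
      rw [add_sub_cancel_left]
      exact lie_mem_brk (hle i hx) (hle j hy)
    exact (le_iSup (fun a => brk (F.T a) (F.T (i + j - a))) i) h1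
  zero := by
    rw [eq_bot_iff, ← F.zero]
    apply iSup_le
    intro a
    have := F.brk_T_le a (0 - a)
    rwa [add_sub_cancel] at this

theorem GFam.derived_T (F : GFam n L) (i : ZMod n) :
    F.derived.T i = ⨆ a, brk (F.T a) (F.T (i - a)) := rfl

theorem GFam.derived_T_le (F : GFam n L) (i : ZMod n) : F.derived.T i ≤ F.T i := by
  rw [GFam.derived_T]
  apply iSup_le
  intro a
  have := F.brk_T_le a (i - a)
  rwa [add_sub_cancel] at this

theorem GFam.brk_T_le_derived (F : GFam n L) (i j : ZMod n) :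
    brk (F.T i) (F.T j) ≤ F.derived.T (i + j) := by
  rw [GFam.derived_T]
  have h : brk (F.T i) (F.T j) = brk (F.T i) (F.T (i + j - i)) := by rw [add_sub_cancel_left]
  rw [h]
  exact le_iSup (fun a => brk (F.T a) (F.T (i + j - a))) i

theorem GFam.derived_tot (F : GFam n L) : F.derived.tot = brk F.tot F.tot := by
  apply le_antisymm
  · apply iSup_le
    intro i
    rw [GFam.derived_T]
    apply iSup_le
    intro a
    exact brk_mono (F.T_le_tot _) (F.T_le_tot _)
  · apply brk_iSup_le
    intro i j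
    exact (F.brk_T_le_derived i j).trans (F.derived.T_le_tot _)

theorem GFam.derived_tot_le (F : GFam n L) : F.derived.tot ≤ F.tot := by
  apply iSup_le
  intro i
  exact (F.derived_T_le i).trans (F.T_le_tot i)

end Cfsg.Agent.Lib.Helper12.KK
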