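import Mathlib
import Cfsg.Agent.Lib.Helper12.KKBasic

/-!
# S3779: Kreknin's theorem for graded families

A `ℤ/n`-graded family `F` without `0`-component satisfies `derFrom F.tot (2^(n-1) - 1) = ⊥`.
-/

set_option autoImplicit false
set_option linter.unusedSectionVars false
set_option linter.unusedVariables false

namespace Cfsg.Agent.Lib.Helper12.KK

universe u

variable {L : Type u} [LieRing L] {n : ℕ}

/-- homogeneous elements of the Lie subring generated by the components `T j`, `k < j.val` -/
inductive Hom (F : GFam n L) (k : ℕ) : ZMod n → L → Prop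
  | gen {j : ZMod n} {x : L} : k < j.val → x ∈ F.T j → Hom F k j x
  | zero (j : ZMod n) : Hom F k j 0
  | add {j : ZMod n} {x y : L} : Hom F k j x → Hom F k j y → Hom F k j (x + y)
  | neg {j : ZMod n} {x : L} : Hom F k j x → Hom F k j (-x)
  | lie {a b : ZMod n} {x y : L} : Hom F k a x → Hom F k b y → Hom F k (a + b) ⁅x, y⁆

theorem Hom.mem {F : GFam n L} {k : ℕ} {j : ZMod n} {x : L} (h : Hom F k j x) : x ∈ F.T j := by
  induction h with
  | gen _ hx => exact hx
  | zero j => exact zero_mem _
  | add _ _ ih1 ih2 => exact add_mem ih1 ih2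
  | neg _ ih => exact neg_mem ih
  | lie _ _ ih1 ih2 => exact F.lie_mem _ _ _ _ ih1 ih2

/-- the graded family of homogeneous components of the subring generated by `T j`, `k < j.val` -/
def GFam.sub (F : GFam n L) (k : ℕ) : GFam n L where
  T i :=
    { carrier := {x | Hom F k i x}
      zero_mem' := Hom.zero i
      add_mem' := fun hx hy => Hom.add hx hy
      neg_mem' := fun hx => Hom.neg hx }
  lie_mem := fun i j x y hx hy => Hom.lie hx hy
  zero := by
    rw [eq_bot_iff, ← F.zero]
    intro x hx
    exact Hom.mem hx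

theorem GFam.mem_sub {F : GFam n L} {k : ℕ} {i : ZMod n} {x : L} :
    x ∈ (F.sub k).T i ↔ Hom F k i x := Iff.rfl

theorem GFam.sub_T_le (F : GFam n L) (k : ℕ) (i : ZMod n) : (F.sub k).T i ≤ F.T i :=
  fun x hx => Hom.mem hx

theorem GFam.le_sub_T (F : GFam n L) (k : ℕ) (j : ZMod n) (hj : k < j.val) :
    F.T j ≤ (F.sub k).T j := fun x hx => Hom.gen hj hx

/-- last factor lemma: a bracket of homogeneous elements of the subring is a combination of
brackets `⁅u, g⁆` with `g` a generator -/
theorem Hom.lie_mem_of {F : GFam n L} {k : ℕ} (B : ZMod n → AddSubgroup L)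
    (hB : ∀ a b u g, Hom F k a u → k < b.val → g ∈ F.T b → ⁅u, g⁆ ∈ B (a + b)) :
    ∀ {b : ZMod n} {y : L}, Hom F k b y → ∀ (a : ZMod n) (x : L), Hom F k a x →
      ⁅x, y⁆ ∈ B (a + b) := by
  intro b y hy
  induction hy with
  | gen hj hx => intro a x hx'; exact hB a _ x _ hx' hj hx
  | zero j => intro a x _; rw [lie_zero]; exact zero_mem _
  | add _ _ ih1 ih2 => intro a x hx; rw [lie_add]; exact add_mem (ih1 a x hx) (ih2 a x hx)
  | neg _ ih => intro a x hx; rw [lie_neg]; exact neg_mem (ih a x hx)
  | @lie b1 b2 y1 y2 h1 h2 ih1 ih2 =>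
    intro a x hx
    have e : ⁅x, ⁅y1, y2⁆⁆ = ⁅⁅x, y1⁆, y2⁆ - ⁅⁅x, y2⁆, y1⁆ := by
      rw [leibniz_lie x y1 y2, ← lie_skew y1 ⁅x, y2⁆]
      abel
    rw [e]
    have t1 : ⁅⁅x, y1⁆, y2⁆ ∈ B (a + b1 + b2) := ih2 (a + b1) ⁅x, y1⁆ (Hom.lie hx h1)
    have t2 : ⁅⁅x, y2⁆, y1⁆ ∈ B (a + b2 + b1) := ih1 (a + b2) ⁅x, y2⁆ (Hom.lie hx h2)
    have e1 : a + b1 + b2 = a + (b1 + b2) := add_assoc _ _ _
    have e2 : a + b2 + b1 = a + (b1 + b2) := by rw [add_assoc, add_comm b2 b1]
    rw [e1] at t1
    rw [e2] at t2
    exact sub_mem t1 t2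

variable [NeZero n]

/-- arithmetic of residues: if `a + b = j`, `j.val = k + 1 < b.val` then `k + 1 < a.val` -/
theorem val_gt_of_add {a b j : ZMod n} {k : ℕ} (hab : a + b = j) (hj : j.val = k + 1)
    (hb : k + 1 < b.val) : k + 1 < a.val := by
  have h1 := ZMod.val_lt a
  have h2 := ZMod.val_lt b
  have h3 : (a + b).val = (a.val + b.val) % n := ZMod.val_add a b
  rw [hab, hj] at h3
  rcases lt_or_ge (a.val + b.val) n with h | h
  · rw [Nat.mod_eq_of_lt h] at h3
    omega
  · have h4 : (a.val + b.val) % n = a.val + b.val - n := by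
      rw [Nat.mod_eq_sub_mod h, Nat.mod_eq_of_lt (by omega)]
    rw [h4] at h3
    omega

/-- Kreknin, inductive form -/
theorem kreknin_aux : ∀ (k : ℕ) (F : GFam n L) (A : AddSubgroup L),
    (∀ x y, x ∈ A → y ∈ A → ⁅x, y⁆ ∈ A) → (∀ j : ZMod n, k < j.val → F.T j ≤ A) →
    derFrom F.tot (2 ^ k - 1) ≤ A := by
  intro k
  induction k with
  | zero =>
    intro F A hA hT
    show F.tot ≤ A
    apply iSup_le
    intro j
    by_cases hj : j = 0
    · rw [hj, F.zero]; exact bot_le
    · apply hT
      rcases Nat.eq_zero_or_pos j.val with h | h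
      · exact absurd ((ZMod.val_eq_zero j).1 h) hj
      · exact h
  | succ k ih =>
    intro F A hA hT
    -- the subring generated by the components of index > k
    set M : GFam n L := F.sub k with hM
    set F' : GFam n L := M.derived with hF'
    have hMclosed : ∀ x y, x ∈ M.tot → y ∈ M.tot → ⁅x, y⁆ ∈ M.tot := by
      intro x y hx hy
      have h1 : brk M.tot M.tot ≤ M.tot := by
        rw [← GFam.derived_tot]
        exact M.derived_tot_le
      exact h1 (lie_mem_brk hx hy)
    have h1 : derFrom F.tot (2 ^ k - 1) ≤ M.tot :=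
      ih F M.tot hMclosed (fun j hj => (F.le_sub_T k j hj).trans (M.T_le_tot j))
    -- the components of F' of index > k lie in A
    have hF'A : ∀ j : ZMod n, k < j.val → F'.T j ≤ A := by
      intro j hj
      rcases Nat.lt_or_ge (k + 1) j.val with hj1 | hj1
      · exact (M.derived_T_le j).trans ((F.sub_T_le k j).trans (hT j hj1))
      · have hjk : j.val = k + 1 := by omega
        -- family of targets
        let B : ZMod n → AddSubgroup L := fun i => if i = j then A else ⊤
        have hB : ∀ a b u g, Hom F k a u → k < b.val → g ∈ F.T b → ⁅u, g⁆ ∈ B (a + b) := by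
          intro a b u g hu hb hg
          by_cases hab : a + b = j
          · have : B (a + b) = A := if_pos hab
            rw [this]
            rcases Nat.lt_or_ge (k + 1) b.val with hb1 | hb1
            · have ha1 : k + 1 < a.val := val_gt_of_add hab hjk hb1
              exact hA _ _ (hT a ha1 (Hom.mem hu)) (hT b hb1 hg)
            · have hbj : b = j := by
                apply ZMod.val_injective n
                omega
              have ha0 : a = 0 := by
                rw [hbj] at hab
                exact add_eq_right.mp hab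
              have hu0 : u ∈ F.T 0 := ha0 ▸ Hom.mem hu
              rw [F.zero, AddSubgroup.mem_bot] at hu0
              rw [hu0, zero_lie]
              exact zero_mem _
          · have : B (a + b) = ⊤ := if_neg hab
            rw [this]
            exact AddSubgroup.mem_top _
        rw [hF', GFam.derived_T]
        apply iSup_le
        intro a
        apply brk_le
        intro x hx y hy
        have := Hom.lie_mem_of B hB (GFam.mem_sub.1 hy) a x (GFam.mem_sub.1 hx)
        rw [add_sub_cancel] at this
        have hBj : B j = A := if_pos rfl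
        rwa [hBj] at this
    have h2 : derFrom F'.tot (2 ^ k - 1) ≤ A := ih F' A hA hF'A
    have hpow : 2 ^ (k + 1) - 1 = (2 ^ k - 1) + ((2 ^ k - 1) + 1) := by
      have : 1 ≤ 2 ^ k := Nat.one_le_two_pow
      rw [pow_succ]
      omega
    rw [hpow, derFrom_add]
    refine le_trans (derFrom_mono h1 _) ?_
    rw [derFrom_succ', ← GFam.derived_tot]
    exact h2

/-- **Kreknin's theorem**: a `ℤ/n`-graded family without `0`-component is solvable of derived
length at most `2^(n-1) - 1`. -/
theorem kreknin (F : GFam n L) : derFrom F.tot (2 ^ (n - 1) - 1) = ⊥ := by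
  rw [eq_bot_iff]
  apply kreknin_aux (n - 1) F ⊥
  · intro x y hx hy
    rw [AddSubgroup.mem_bot] at hx
    rw [hx, zero_lie]
    exact zero_mem _
  · intro j hj
    have := ZMod.val_lt j
    omega

end Cfsg.Agent.Lib.Helper12.KK
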