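import Mathlib
import Cfsg.Agent.Lib.Helper12.KKKreknin
import Cfsg.Agent.Lib.Helper22.KKSS

/-!
# S3779: the Kreknin–Kostrikin nilpotency step for graded families

If a `ℤ/p`-graded family `F` without `0`-component satisfies `derFrom F.tot d = ⊥`, then
`lcsFrom F.tot (∑ i < d, (p-1)^i) = ⊥`.  Together with Kreknin's theorem this bounds the class.
Also the special case `p = 3`: class at most `2`.
-/

set_option autoImplicit false
set_option linter.unusedSectionVars false
set_option linter.unusedVariables false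

namespace Cfsg.Agent.Lib.Helper12.KK

universe u

variable {L : Type u} [LieRing L]

/-! ## left-normed brackets -/

/-- the left-normed bracket `⁅...⁅⁅x, y₁⁆, y₂⁆, ..., yₘ⁆` -/
def lieList (x : L) (l : List L) : L := l.foldl (fun u y => ⁅u, y⁆) x

@[simp] theorem lieList_nil (x : L) : lieList x [] = x := rfl

@[simp] theorem lieList_cons (x y : L) (l : List L) :
    lieList x (y :: l) = lieList ⁅x, y⁆ l := rfl

theorem lieList_append (x : L) (l1 l2 : List L) :
    lieList x (l1 ++ l2) = lieList (lieList x l1) l2 := by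
  unfold lieList
  rw [List.foldl_append]

theorem lieList_zero (l : List L) : lieList (0 : L) l = 0 := by
  induction l with
  | nil => rfl
  | cons y l ih => rw [lieList_cons, zero_lie, ih]

theorem lieList_add (l : List L) : ∀ x x' : L, lieList (x + x') l = lieList x l + lieList x' l := by
  induction l with
  | nil => intro x x'; rfl
  | cons y l ih => intro x x'; rw [lieList_cons, add_lie, ih, lieList_cons, lieList_cons]

theorem lieList_neg (l : List L) : ∀ x : L, lieList (-x) l = -lieList x l := by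
  induction l with
  | nil => intro x; rfl
  | cons y l ih => intro x; rw [lieList_cons, neg_lie, ih, lieList_cons]

theorem lieList_sub (l : List L) (x x' : L) :
    lieList (x - x') l = lieList x l - lieList x' l := by
  rw [sub_eq_add_neg, lieList_add, lieList_neg, ← sub_eq_add_neg]

theorem lieList_eq_zero_of_zero_mem (l : List L) :
    ∀ x : L, (0 : L) ∈ l → lieList x l = 0 := by
  induction l with
  | nil => intro x h; simp at h
  | cons y l ih =>
    intro x h
    rw [lieList_cons]
    rcases List.mem_cons.1 h with h | h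
    · rw [← h, lie_zero, lieList_zero]
    · exact ih _ h

theorem lieList_mem_of_mem {J P : AddSubgroup L} (hJP : brk J P ≤ J) (l : List L) :
    ∀ j : L, j ∈ J → (∀ y ∈ l, y ∈ P) → lieList j l ∈ J := by
  induction l with
  | nil => intro j hj _; exact hj
  | cons y l ih =>
    intro j hj hl
    rw [lieList_cons]
    exact ih _ (hJP (lie_mem_brk hj (hl y List.mem_cons_self)))
      (fun z hz => hl z (List.mem_cons_of_mem _ hz))

/-- modulo `J`, a left-normed bracket does not depend on the order of the entries -/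
theorem lieList_perm_sub_mem {I P J : AddSubgroup L} (hIP : brk I P ≤ I) (hJP : brk J P ≤ J)
    (hJ : ∀ u ∈ I, ∀ y ∈ P, ∀ y' ∈ P, ⁅u, ⁅y, y'⁆⁆ ∈ J) {l l' : List L} (h : l.Perm l') :
    ∀ u : L, u ∈ I → (∀ y ∈ l, y ∈ P) → lieList u l - lieList u l' ∈ J := by
  induction h with
  | nil => intro u _ _; rw [sub_self]; exact zero_mem _
  | cons y _ ih =>
    intro u hu hl
    rw [lieList_cons, lieList_cons]
    exact ih _ (hIP (lie_mem_brk hu (hl y List.mem_cons_self)))
      (fun z hz => hl z (List.mem_cons_of_mem _ hz))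
  | swap y y' l =>
    intro u hu hl
    rw [lieList_cons, lieList_cons, lieList_cons, lieList_cons, ← lieList_sub]
    have hy : y ∈ P := hl y (List.mem_cons_of_mem _ List.mem_cons_self)
    have hy' : y' ∈ P := hl y' List.mem_cons_self
    have e : ⁅⁅u, y'⁆, y⁆ - ⁅⁅u, y⁆, y'⁆ = ⁅u, ⁅y', y⁆⁆ := by
      rw [lie_lie u y' y, ← lie_skew ⁅u, y⁆ y']
      abel
    rw [e]
    apply lieList_mem_of_mem hJP l _ (hJ u hu y' hy' y hy)
    intro z hz
    exact hl z (List.mem_cons_of_mem _ (List.mem_cons_of_mem _ hz))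
  | trans h1 _ ih1 ih2 =>
    intro u hu hl
    have := add_mem (ih1 u hu hl) (ih2 u hu (fun z hz => hl z (h1.mem_iff.2 hz)))
    rwa [sub_add_sub_cancel] at this

/-! ## ideals -/

theorem brk_brk_le {I Q P : AddSubgroup L} (hI : brk I P ≤ I) (hQ : brk Q P ≤ Q) :
    brk (brk I Q) P ≤ brk I Q := by
  unfold brk
  apply brk_closure_left_le
  rintro z ⟨u, hu, w, hw, rfl⟩ y hy
  have e : ⁅⁅u, w⁆, y⁆ = ⁅u, ⁅w, y⁆⁆ + ⁅⁅u, y⁆, w⁆ := by
    rw [lie_lie u w y, ← lie_skew ⁅u, y⁆ w]
    abel
  rw [e]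
  exact add_mem (lie_mem_brk hu (hQ (lie_mem_brk hw hy))) (lie_mem_brk (hI (lie_mem_brk hu hy)) hw)

theorem brk_closure_iSup_le {ι : Sort*} {S : Set L} {T : ι → AddSubgroup L} {C : AddSubgroup L}
    (h : ∀ x ∈ S, ∀ i, ∀ y ∈ T i, ⁅x, y⁆ ∈ C) :
    brk (AddSubgroup.closure S) (⨆ i, T i) ≤ C := by
  apply brk_closure_left_le
  intro x hx b hb
  refine AddSubgroup.iSup_induction T (C := fun b => ⁅x, b⁆ ∈ C) hb ?_ ?_ ?_
  · intro i y hy
    exact h x hx i y hy
  · rw [lie_zero]; exact zero_mem _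
  · intro y y' hy hy'
    rw [lie_add]; exact add_mem hy hy'

/-! ## subgroups spanned by homogeneous elements -/

variable {n : ℕ}

/-- `I` is spanned by its homogeneous elements -/
def HS (F : GFam n L) (I : AddSubgroup L) : Prop := I ≤ ⨆ i, I ⊓ F.T i

theorem HS_tot (F : GFam n L) : HS F F.tot := by
  unfold HS
  apply iSup_le
  intro i
  exact le_trans (le_inf (F.T_le_tot i) le_rfl) (le_iSup (fun i => F.tot ⊓ F.T i) i)

theorem HS.brk {F : GFam n L} {I I' : AddSubgroup L} (h : HS F I) (h' : HS F I') :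
    HS F (brk I I') := by
  unfold HS at *
  refine le_trans (brk_mono h h') ?_
  apply brk_iSup_le
  intro i j
  apply brk_le
  intro x hx y hy
  have h1 : ⁅x, y⁆ ∈ KK.brk I I' ⊓ F.T (i + j) :=
    ⟨lie_mem_brk hx.1 hy.1, F.lie_mem i j x y hx.2 hy.2⟩
  exact (le_iSup (fun k => KK.brk I I' ⊓ F.T k) (i + j)) h1

theorem HS_lcsFrom {F : GFam n L} {P : AddSubgroup L} (hP : HS F P) :
    ∀ t, HS F (lcsFrom P t)
  | 0 => hP
  | t + 1 => (HS_lcsFrom hP t).brk hP

theorem GFam.brk_tot_le (F : GFam n L) : brk F.tot F.tot ≤ F.tot := by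
  rw [← GFam.derived_tot]
  exact F.derived_tot_le

theorem lieList_mem_T (F : GFam n L) (l : List (ZMod n × L)) :
    ∀ (x : L) (a : ZMod n), x ∈ F.T a → (∀ q ∈ l, q.2 ∈ F.T q.1) →
      lieList x (l.map Prod.snd) ∈ F.T (a + (l.map Prod.fst).sum) := by
  induction l with
  | nil => intro x a hx _; simpa using hx
  | cons q l ih =>
    intro x a hx hl
    rw [List.map_cons, List.map_cons, lieList_cons, List.sum_cons, ← add_assoc]
    exact ih _ _ (F.lie_mem _ _ _ _ hx (hl q List.mem_cons_self))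
      (fun z hz => hl z (List.mem_cons_of_mem _ hz))

/-! ## the key lemma -/

section key

variable (p : ℕ) [Fact p.Prime] (F : GFam p L)

/-- spanning set of `[I, P, ..., P]` (`m` factors `P`) by left-normed brackets of homogeneous
elements -/
def spanSet (I : AddSubgroup L) (m : ℕ) : Set L :=
  {z | ∃ (a : ZMod p) (x : L) (l : List (ZMod p × L)), x ∈ I ∧ x ∈ F.T a ∧ l.length = m ∧
    (∀ q ∈ l, q.2 ∈ F.T q.1) ∧ lieList x (l.map Prod.snd) = z}

theorem iterate_le_closure (I : AddSubgroup L) (hI : HS F I) :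
    ∀ m, (fun X => brk X F.tot)^[m] I ≤ AddSubgroup.closure (spanSet p F I m) := by
  intro m
  induction m with
  | zero =>
    rw [Function.iterate_zero, id]
    refine le_trans hI ?_
    apply iSup_le
    intro a x hx
    exact AddSubgroup.subset_closure ⟨a, x, [], hx.1, hx.2, rfl, by simp, rfl⟩
  | succ m ih =>
    rw [Function.iterate_succ_apply']
    refine le_trans (brk_mono ih le_rfl) ?_
    apply brk_closure_iSup_le
    rintro z ⟨a, x, l, hxI, hxa, hlen, hl, rfl⟩ b y hy
    refine AddSubgroup.subset_closure ⟨a, x, l ++ [(b, y)], hxI, hxa, by simp [hlen], ?_, ?_⟩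
    · intro q hq
      rcases List.mem_append.1 hq with hq | hq
      · exact hl q hq
      · rw [List.mem_singleton] at hq
        rw [hq]
        exact hy
    · rw [List.map_append, lieList_append]
      rfl

theorem spanSet_le (I : AddSubgroup L) (hIP : brk I F.tot ≤ I) :
    spanSet p F I (p - 1) ⊆ (brk I (brk F.tot F.tot) : Set L) := by
  rintro z ⟨a, x, l, hxI, hxa, hlen, hl, rfl⟩
  set P := F.tot with hP
  set Q := brk P P with hQ
  set J := brk I Q with hJdef
  have hQP : brk Q P ≤ Q := brk_mono F.brk_tot_le le_rfl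
  have hJP : brk J P ≤ J := brk_brk_le hIP hQP
  have hlP : ∀ y ∈ l.map Prod.snd, y ∈ P := by
    intro y hy
    obtain ⟨q, hq, rfl⟩ := List.mem_map.1 hy
    exact F.T_le_tot q.1 (hl q hq)
  by_cases h0 : ∃ q ∈ l, q.1 = 0
  · obtain ⟨q, hq, hq0⟩ := h0
    have hq2 : q.2 = 0 := by
      have := hl q hq
      rw [hq0, F.zero, AddSubgroup.mem_bot] at this
      exact this
    have hmem : (0 : L) ∈ l.map Prod.snd := List.mem_map.2 ⟨q, hq, hq2⟩
    show lieList x (l.map Prod.snd) ∈ J
    rw [lieList_eq_zero_of_zero_mem _ _ hmem]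
    exact zero_mem _
  · push Not at h0
    obtain ⟨l1, l2, hperm, hsum⟩ :=
      Cfsg.Agent.Lib.Helper22.KK.exists_perm_append_sum p (Prod.fst : ZMod p × L → ZMod p) l hlen h0 (-a)
    have hperm' : (l.map Prod.snd).Perm (l1.map Prod.snd ++ l2.map Prod.snd) := by
      rw [← List.map_append]
      exact hperm.map _
    have hkey := lieList_perm_sub_mem hIP hJP
      (fun u hu y hy y' hy' => lie_mem_brk hu (lie_mem_brk hy hy')) hperm' x hxI hlP
    have hl1 : ∀ q ∈ l1, q.2 ∈ F.T q.1 := by
      intro q hq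
      exact hl q (hperm.mem_iff.2 (List.mem_append_left _ hq))
    have hz : lieList x (l1.map Prod.snd) = 0 := by
      have := lieList_mem_T F l1 x a hxa hl1
      rw [hsum, add_neg_cancel, F.zero, AddSubgroup.mem_bot] at this
      exact this
    rw [lieList_append, hz, lieList_zero, sub_zero] at hkey
    exact hkey

/-- **Key lemma**: for an ideal `I` of `P = F.tot` spanned by homogeneous elements,
`[I, P, ..., P]` (`p - 1` factors) is contained in `[I, [P, P]]`. -/
theorem keyB (I : AddSubgroup L) (hI : HS F I) (hIP : brk I F.tot ≤ I) :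
    (fun X => brk X F.tot)^[p - 1] I ≤ brk I (brk F.tot F.tot) := by
  refine le_trans (iterate_le_closure p F I hI (p - 1)) ?_
  rw [AddSubgroup.closure_le]
  exact spanSet_le p F I hIP

theorem lcsFrom_ideal {P Q : AddSubgroup L} (hQP : brk Q P ≤ Q) :
    ∀ j, brk (lcsFrom Q j) P ≤ lcsFrom Q j
  | 0 => hQP
  | j + 1 => brk_brk_le (lcsFrom_ideal hQP j) hQP

theorem lcs_step : ∀ j : ℕ,
    lcsFrom F.tot ((p - 1) * j + 1) ≤ lcsFrom (brk F.tot F.tot) j := by
  intro j
  induction j with
  | zero =>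
    rw [Nat.mul_zero, Nat.zero_add]
    exact le_rfl
  | succ j ih =>
    have e : (p - 1) * (j + 1) + 1 = ((p - 1) * j + 1) + (p - 1) := by ring
    rw [e, lcsFrom_add]
    have hmono : Monotone (fun X : AddSubgroup L => brk X F.tot) :=
      fun X Y h => brk_mono h le_rfl
    refine le_trans (hmono.iterate (p - 1) ih) ?_
    have hQP : brk (brk F.tot F.tot) F.tot ≤ brk F.tot F.tot := brk_mono F.brk_tot_le le_rfl
    have hHS : HS F (lcsFrom (brk F.tot F.tot) j) :=
      HS_lcsFrom ((HS_tot F).brk (HS_tot F)) j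
    exact keyB p F _ hHS (lcsFrom_ideal hQP j)

/-- **Kreknin–Kostrikin**: solvable of derived length `d` implies nilpotent of class at most
`∑ i < d, (p-1)^i`. -/
theorem kk_nilp : ∀ (d : ℕ) (F : GFam p L), derFrom F.tot d = ⊥ →
    lcsFrom F.tot (∑ i ∈ Finset.range d, (p - 1) ^ i) = ⊥ := by
  intro d
  induction d with
  | zero =>
    intro F h
    rw [Finset.range_zero, Finset.sum_empty]
    exact h
  | succ d ih =>
    intro F h
    rw [derFrom_succ', ← GFam.derived_tot] at h
    have h1 := ih F.derived h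
    rw [GFam.derived_tot] at h1
    have e : ∑ i ∈ Finset.range (d + 1), (p - 1) ^ i
        = (p - 1) * (∑ i ∈ Finset.range d, (p - 1) ^ i) + 1 := by
      rw [Finset.sum_range_succ', Finset.mul_sum, pow_zero]
      congr 1
      apply Finset.sum_congr rfl
      intro i _
      rw [pow_succ']
    rw [e, eq_bot_iff, ← h1]
    exact lcs_step p F _

/-- the final bound for a `ℤ/p`-graded family without `0`-component -/
theorem lcs_bound (F : GFam p L) :
    lcsFrom F.tot (∑ i ∈ Finset.range (2 ^ (p - 1) - 1), (p - 1) ^ i) = ⊥ := by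
  have : NeZero p := ⟨(Fact.out : p.Prime).ne_zero⟩
  exact kk_nilp p _ F (kreknin F)

end key

/-! ## `p = 3` -/

theorem brk3_iSup_le {ι : Sort*} {S : ι → AddSubgroup L} {C : AddSubgroup L}
    (h : ∀ i j k, ∀ x ∈ S i, ∀ y ∈ S j, ∀ z ∈ S k, ⁅⁅x, y⁆, z⁆ ∈ C) :
    brk (brk (⨆ i, S i) (⨆ i, S i)) (⨆ i, S i) ≤ C := by
  have h1 : brk (⨆ i, S i) (⨆ i, S i) ≤
      AddSubgroup.closure {w | ∃ i j, ∃ x ∈ S i, ∃ y ∈ S j, ⁅x, y⁆ = w} := by
    apply brk_iSup_le
    intro i j
    apply brk_le
    intro x hx y hy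
    exact AddSubgroup.subset_closure ⟨i, j, x, hx, y, hy, rfl⟩
  refine le_trans (brk_mono h1 le_rfl) ?_
  apply brk_closure_iSup_le
  rintro w ⟨i, j, x, hx, y, hy, rfl⟩ k z hz
  exact h i j k x hx y hy z hz

theorem lcs_two_of_three (F : GFam 3 L) : lcsFrom F.tot 2 = ⊥ := by
  rw [eq_bot_iff]
  show brk (brk F.tot F.tot) F.tot ≤ ⊥
  unfold GFam.tot
  apply brk3_iSup_le
  intro a b c x hx y hy z hz
  rw [AddSubgroup.mem_bot]
  have h0 : ∀ {w : L}, w ∈ F.T 0 → w = 0 := by
    intro w hw
    rw [F.zero, AddSubgroup.mem_bot] at hw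
    exact hw
  have hcases : ∀ a b c : ZMod 3, a = 0 ∨ b = 0 ∨ c = 0 ∨ a + b = 0 ∨ a + b + c = 0 ∨
      (b + c = 0 ∧ a + c = 0) := by decide
  rcases hcases a b c with h | h | h | h | h | ⟨h, h'⟩
  · rw [h] at hx; rw [h0 hx, zero_lie, zero_lie]
  · rw [h] at hy; rw [h0 hy, lie_zero, zero_lie]
  · rw [h] at hz; rw [h0 hz, lie_zero]
  · have := F.lie_mem a b x y hx hy
    rw [h] at this
    rw [h0 this, zero_lie]
  · have := F.lie_mem (a + b) c _ z (F.lie_mem a b x y hx hy) hz
    rw [h] at this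
    exact h0 this
  · have h1 := F.lie_mem b c y z hy hz
    have h2 := F.lie_mem a c x z hx hz
    rw [h] at h1
    rw [h'] at h2
    rw [lie_lie, h0 h1, h0 h2, lie_zero, lie_zero, sub_zero]

end Cfsg.Agent.Lib.Helper12.KK
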