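import Mathlib
import Cfsg.Prelude.Def_Local
import Cfsg.Agent.Lib.Helper12.LBDefs
import Cfsg.Agent.Lib.Helper12.GLMain
import Cfsg.Agent.Lib.Helper29.LBalance
import Cfsg.Agent.Lib.Helper83.LBFRAT
import Cfsg.Agent.Lib.Helper85.LB0

set_option autoImplicit false
set_option linter.style.haveILetI false
universe u

namespace Cfsg.Agent.Lib.Helper12.LB

open Cfsg

variable {G : Type u} [Group G] [Finite G]

omit [Finite G] in
theorem ker_conjNormal (E : Subgroup G) [E.Normal] :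
    (MulAut.conjNormal (H := E)).ker = Subgroup.centralizer (E : Set G) := by
  ext g
  rw [MonoidHom.mem_ker, Subgroup.mem_centralizer_iff]
  constructor
  · intro h e he
    have h1 := congrArg (fun a : MulAut ↥E => ((a ⟨e, he⟩ : ↥E) : G)) h
    simp only [MulAut.conjNormal_apply, MulAut.one_apply] at h1
    calc e * g = (g * e * g⁻¹) * g := by rw [h1]
      _ = g * e := by group
  · intro h
    ext ⟨e, he⟩
    rw [MulAut.conjNormal_apply, MulAut.one_apply]
    show g * e * g⁻¹ = e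
    rw [← h e he]; group

/-- `O(E(G)) = 1` when `O(G) = 1`. -/
theorem pPrimeCore_layer_eq_bot (hO : pPrimeCore 2 G = ⊥) : pPrimeCore 2 ↥(layer G) = ⊥ := by
  have h1 : Subgroup.normalizer ((layer G : Subgroup G) : Set G) ≤
      Subgroup.normalizer (((pPrimeCore 2 ↥(layer G)).map (layer G).subtype : Subgroup G) : Set G) :=
    Cfsg.Agent.Lib.Helper29.normalizer_le_normalizer_map_pPrimeCore 2 (layer G)
  rw [Subgroup.normalizer_eq_top, top_le_iff, Subgroup.normalizer_eq_top_iff] at h1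
  have hc : (Nat.card ((pPrimeCore 2 ↥(layer G)).map (layer G).subtype)).Coprime 2 := by
    rw [Subgroup.card_map_of_injective (Subgroup.subtype_injective _)]
    exact Cfsg.Agent.Lib.Helper29.pPrimeCore_coprime 2
  have h2 := Cfsg.Agent.Lib.Helper29.normal_le_pPrimeCore 2
    ((pPrimeCore 2 ↥(layer G)).map (layer G).subtype) hc
  rw [hO, le_bot_iff] at h2
  exact (Subgroup.map_eq_bot_iff_of_injective _ (Subgroup.subtype_injective _)).mp h2

theorem base_case (hO : pPrimeCore 2 G = ⊥) (Zh : Subgroup G) (hZh : IsPGroup 2 Zh)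
    (S : Sylow 2 ↥(layer G))
    (hS : (S : Subgroup ↥(layer G)).map (layer G).subtype ≤ Subgroup.normalizer (Zh : Set G))
    (Q : Subgroup G) (hQ : QC (Subgroup.normalizer (Zh : Set G)) Q) : Q ≤ layer G := by
  haveI : Fact (Nat.Prime 2) := ⟨Nat.prime_two⟩
  let E : Subgroup G := layer G
  set N : Subgroup G := Subgroup.normalizer (Zh : Set G) with hN
  set S' : Subgroup G := (S : Subgroup ↥(layer G)).map (layer G).subtype with hS'
  have hS'E : S' ≤ E := Subgroup.map_subtype_le _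
  have hS'p : IsPGroup 2 S' := S.2.map _
  -- a Sylow 2-subgroup `S₁` of `E ⊓ N` whose image is `S'`
  have hS'EN : S' ≤ E ⊓ N := le_inf hS'E hS
  obtain ⟨S₁, hS₁⟩ := IsPGroup.exists_le_sylow
    (hS'p.comap_of_injective (E ⊓ N).subtype (Subgroup.subtype_injective _) :
      IsPGroup 2 (S'.subgroupOf (E ⊓ N)))
  have hS₁map : (S₁ : Subgroup ↥(E ⊓ N)).map (E ⊓ N).subtype = S' := by
    -- the image is a 2-subgroup of `E` containing the Sylow `S'`
    set T : Subgroup G := (S₁ : Subgroup ↥(E ⊓ N)).map (E ⊓ N).subtype with hT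
    have hTp : IsPGroup 2 T := S₁.2.map _
    have hTE : T ≤ E := (Subgroup.map_subtype_le _).trans inf_le_left
    have hS'T : S' ≤ T := by
      intro x hx
      exact ⟨⟨x, hS'EN hx⟩, hS₁ (Subgroup.mem_subgroupOf.mpr hx), rfl⟩
    -- compare inside `↥E`
    have h1 : IsPGroup 2 (T.subgroupOf E) :=
      hTp.comap_of_injective E.subtype (Subgroup.subtype_injective _)
    have h2 : (S : Subgroup ↥E) ≤ T.subgroupOf E := by
      intro x hx
      exact Subgroup.mem_subgroupOf.mpr (hS'T ⟨x, hx, rfl⟩)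
    have h3 : T.subgroupOf E = (S : Subgroup ↥E) := S.3 h1 h2
    apply le_antisymm _ hS'T
    intro x hx
    have hxE : x ∈ E := hTE hx
    have : (⟨x, hxE⟩ : ↥E) ∈ T.subgroupOf E := Subgroup.mem_subgroupOf.mpr hx
    rw [h3] at this
    exact ⟨⟨x, hxE⟩, this, rfl⟩
  rcases Cfsg.Agent.Lib.Helper83.LB.frattini_step N Q hQ S₁ with h | ⟨Q₃, hQ₃perf, hQ₃S, hQ₃le, hQle⟩
  · exact h
  rw [hS₁map] at hQ₃S
  obtain ⟨_, hQZ⟩ := Cfsg.Agent.Lib.Helper85.LB.qc_basic hO Zh Q hZh hQ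
  -- the group of automorphisms of `E` induced by `Q₃`
  set f : G →* MulAut ↥E := MulAut.conjNormal (H := E) with hf
  set B : Subgroup (MulAut ↥E) := Q₃.map f with hB
  have hBperf : ⁅B, B⁆ = B := by rw [hB, ← Subgroup.map_commutator, hQ₃perf]
  have hBS : ∀ β ∈ B, ∀ s ∈ S, β s = s := by
    rintro _ ⟨q, hq, rfl⟩ s hs
    apply Subtype.ext
    rw [hf, MulAut.conjNormal_apply]
    have h1 : (s : G) ∈ S' := ⟨s, hs, rfl⟩
    have h2 := Subgroup.mem_centralizer_iff.mp (hQ₃S hq) (s : G) h1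
    calc q * (s : G) * q⁻¹ = ((s : G) * q) * q⁻¹ := by rw [h2]
      _ = (s : G) := by group
  have hBodd : Odd (Nat.card B) :=
    Cfsg.Agent.Lib.Helper12.GL.odd_card_of_perfect_fix ↥E (pPrimeCore_layer_eq_bot hO) S B hBS hBperf
  -- `M = C_G(E) E`
  set C : Subgroup G := Subgroup.centralizer (E : Set G) with hC
  haveI hCn : C.Normal := Subgroup.normal_centralizer
  set M : Subgroup G := C ⊔ E with hM
  haveI hMn : M.Normal := inferInstance
  have hker : f.ker = C := ker_conjNormal E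
  -- the index of `M` in `Q₃ ⊔ M` is odd
  have hidx : (M.relIndex (Q₃ ⊔ M)) ∣ Nat.card B := by
    rw [Subgroup.relIndex_sup_right, hB, ← Subgroup.relIndex_ker, hker]
    exact Subgroup.relIndex_dvd_of_le_left Q₃ le_sup_left
  have hcop : ((M.subgroupOf (Q₃ ⊔ M)).index).Coprime 2 := by
    have hodd : Odd (M.subgroupOf (Q₃ ⊔ M)).index := Odd.of_dvd_nat hBodd hidx
    exact Nat.coprime_two_right.mpr hodd
  have hQX : Q ≤ Q₃ ⊔ M := by
    refine hQle.trans (sup_le_sup_left ?_ Q₃)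
    exact inf_le_right.trans le_sup_right
  have hnorm : (M.subgroupOf (Q₃ ⊔ M)).Normal := Subgroup.Normal.subgroupOf hMn _
  have hQ' : Cfsg.Agent.Lib.Helper29.NoCoprimeIndexNormal 2 ↥(Q.subgroupOf (Q₃ ⊔ M)) :=
    Cfsg.Agent.Lib.Helper29.noCoprimeIndexNormal_of_mulEquiv 2 (Subgroup.subgroupOfEquivOfLe hQX)
      hQ.nci
  have hle := Cfsg.Agent.Lib.Helper29.le_of_subnormal_index_coprime 2 (Q.subgroupOf (Q₃ ⊔ M)) hQ'
    (M.subgroupOf (Q₃ ⊔ M)) hnorm.isSubnormal hcop
  have hQM : Q ≤ M := by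
    intro q hq
    have hq' : (⟨q, hQX hq⟩ : ↥(Q₃ ⊔ M)) ∈ Q.subgroupOf (Q₃ ⊔ M) := Subgroup.mem_subgroupOf.mpr hq
    exact Subgroup.mem_subgroupOf.mp (hle hq')
  -- conclude with `perfect_le_layer`
  apply Cfsg.Agent.Lib.Helper29.perfect_le_layer (p := 2) hO Q hQ.perf hQZ
  intro q hq
  have hqM : q ∈ C ⊔ E := hQM hq
  have hCE : C ≤ Subgroup.normalizer ((layer G : Subgroup G) : Set G) := by
    rw [Subgroup.normalizer_eq_top]; exact le_top
  obtain ⟨c, hc, e, he, rfl⟩ := Cfsg.Agent.Lib.Helper83.LB.frat_exists_mul hCE hqM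
  refine ⟨e, he, ?_⟩
  have : e⁻¹ * (c * e) = e⁻¹ * c * e⁻¹⁻¹ := by group
  rw [this]
  exact hCn.conj_mem c hc e⁻¹

end Cfsg.Agent.Lib.Helper12.LB
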