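import Cfsg.Agent.S0631
import Cfsg.Agent.S2897
import Cfsg.Agent.Lib.Helper54.Basic
import Cfsg.Agent.Lib.Helper54.Coprime

set_option autoImplicit false
set_option linter.style.haveILetI false

namespace Cfsg.Agent.Lib.Helper12

open Cfsg

/-- `p`-constraint is invariant under isomorphism. -/
theorem isPConstrained_of_mulEquiv {A B : Type*} [Group A] [Finite A] [Group B] [Finite B]
    (p : ℕ) [Fact p.Prime] (e : A ≃* B) (hA : IsPConstrained p A) : IsPConstrained p B := by
  have h1 := (Cfsg.Agent.S0631.isPConstrained_iff p).mp hA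
  set K₁ : Subgroup B := (pPrimeCore p A).map e.toMonoidHom with hK₁
  haveI hn : K₁.Normal :=
    Subgroup.Normal.map inferInstance _ e.surjective
  have hc : (Nat.card K₁).Coprime p :=
    Nat.Coprime.coprime_dvd_left (Subgroup.card_map_dvd _ _)
      (Cfsg.Agent.Lib.Helper29.pPrimeCore_coprime p)
  have e' : A ⧸ pPrimeCore p A ≃* B ⧸ K₁ := QuotientGroup.congr (pPrimeCore p A) K₁ e rfl
  exact Cfsg.Agent.S0631.isPConstrained_of_quotient p K₁ hc
    (Cfsg.Agent.Lib.Helper56.charP_of_mulEquiv e' h1)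

/-- The quotient of a `p`-constrained group by a normal `p'`-subgroup is `p`-constrained. -/
theorem isPConstrained_quotient {X : Type*} [Group X] [Finite X] (p : ℕ) [Fact p.Prime]
    (K₀ : Subgroup X) [K₀.Normal] (hK₀ : (Nat.card K₀).Coprime p) (hX : IsPConstrained p X) :
    IsPConstrained p (X ⧸ K₀) := by
  have h1 := (Cfsg.Agent.S0631.isPConstrained_iff p).mp hX
  have hle : K₀ ≤ pPrimeCore p X := Cfsg.Agent.Lib.Helper29.normal_le_pPrimeCore p K₀ hK₀
  set K₁ : Subgroup (X ⧸ K₀) := (pPrimeCore p X).map (QuotientGroup.mk' K₀) with hK₁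
  haveI hn : K₁.Normal :=
    Subgroup.Normal.map inferInstance _ (QuotientGroup.mk'_surjective K₀)
  have hc : (Nat.card K₁).Coprime p :=
    Nat.Coprime.coprime_dvd_left (Subgroup.card_map_dvd _ _)
      (Cfsg.Agent.Lib.Helper29.pPrimeCore_coprime p)
  have e' : (X ⧸ K₀) ⧸ K₁ ≃* X ⧸ pPrimeCore p X :=
    QuotientGroup.quotientQuotientEquivQuotient K₀ (pPrimeCore p X) hle
  exact Cfsg.Agent.S0631.isPConstrained_of_quotient p K₁ hc
    (Cfsg.Agent.Lib.Helper56.charP_of_mulEquiv e'.symm h1)

/-- Key step: if `O_{p'}(Y) = 1`, `z ∈ O_p(Y)` and `C_Y(z)` is `p`-constrained, then `Y` has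
characteristic `p`. -/
theorem charP_of_centralizer_isPConstrained {Y : Type*} [Group Y] [Finite Y] (p : ℕ)
    [Fact p.Prime] (hY : pPrimeCore p Y = ⊥) (z : Y) (hz : z ∈ pCore p Y)
    (hC : IsPConstrained p ↥(Subgroup.centralizer ({z} : Set Y))) :
    Subgroup.centralizer (pCore p Y : Set Y) ≤ pCore p Y := by
  classical
  set C : Subgroup Y := Subgroup.centralizer ({z} : Set Y) with hCdef
  haveI hQn : (pCore p Y).Normal := Cfsg.Agent.Lib.Helper54.pCore_normal p Y
  set D : Subgroup Y := Subgroup.centralizer (pCore p Y : Set Y) with hDdef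
  haveI hDn : D.Normal := Subgroup.normal_centralizer
  have hDC : D ≤ C := by
    intro d hd
    rw [hCdef, Subgroup.mem_centralizer_iff]
    intro h hh
    rw [Set.mem_singleton_iff] at hh
    subst hh
    exact (Subgroup.mem_centralizer_iff.mp hd) _ hz
  -- `O_{p'}(D) = 1`
  have hD1 : pPrimeCore p ↥D = ⊥ := by
    have hn : ((pPrimeCore p ↥D).map D.subtype).Normal := inferInstance
    have hc : (Nat.card ((pPrimeCore p ↥D).map D.subtype)).Coprime p :=
      Nat.Coprime.coprime_dvd_left (Subgroup.card_map_dvd _ _)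
        (Cfsg.Agent.Lib.Helper29.pPrimeCore_coprime p)
    have h1 := Cfsg.Agent.Lib.Helper29.normal_le_pPrimeCore p _ hc
    rw [hY, le_bot_iff] at h1
    exact (Subgroup.map_eq_bot_iff_of_injective _ D.subtype_injective).mp h1
  -- `D` has characteristic `p`
  have hDchar : Subgroup.centralizer (pCore p ↥D : Set ↥D) ≤ pCore p ↥D := by
    have hCt := (Cfsg.Agent.S0631.isPConstrained_iff p).mp hC
    set K : Subgroup ↥C := pPrimeCore p ↥C with hK
    set D' : Subgroup ↥C := D.subgroupOf C with hD'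
    haveI hD'n : D'.Normal := hDn.subgroupOf C
    have hKD : K ⊓ D' = ⊥ := by
      set M₂ : Subgroup ↥D := ((K ⊓ D').map C.subtype).subgroupOf D with hM₂
      have hM₂n : M₂.Normal := by
        refine ⟨fun n hn g => ?_⟩
        rw [hM₂, Subgroup.mem_subgroupOf] at hn ⊢
        obtain ⟨c, hc, hcn⟩ := hn
        have hgC : (g : Y) ∈ C := hDC g.2
        refine ⟨⟨g, hgC⟩ * c * ⟨g, hgC⟩⁻¹, ?_, ?_⟩
        · exact (inferInstance : (K ⊓ D').Normal).conj_mem c hc ⟨g, hgC⟩
        · simp only [Subgroup.coe_subtype, Subgroup.coe_mul, Subgroup.coe_inv] at hcn ⊢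
          rw [hcn]
      have hM₂c : (Nat.card M₂).Coprime p := by
        have h1 : Nat.card M₂ ∣ Nat.card ((K ⊓ D').map C.subtype) :=
          Subgroup.card_comap_dvd_of_injective _ D.subtype D.subtype_injective
        have h2 : Nat.card ((K ⊓ D').map C.subtype) ∣ Nat.card (K ⊓ D' : Subgroup ↥C) :=
          Subgroup.card_map_dvd _ _
        have h3 : Nat.card (K ⊓ D' : Subgroup ↥C) ∣ Nat.card K :=
          Subgroup.card_dvd_of_le inf_le_left
        exact Nat.Coprime.coprime_dvd_left (h1.trans (h2.trans h3))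
          (Cfsg.Agent.Lib.Helper29.pPrimeCore_coprime p)
      haveI := hM₂n
      have hM₂b : M₂ = ⊥ := by
        have := Cfsg.Agent.Lib.Helper29.normal_le_pPrimeCore p M₂ hM₂c
        rwa [hD1, le_bot_iff] at this
      rw [eq_bot_iff]
      intro c hc
      have hcD : (c : Y) ∈ D := Subgroup.mem_subgroupOf.mp hc.2
      have hmem : (⟨(c : Y), hcD⟩ : ↥D) ∈ M₂ := by
        rw [hM₂, Subgroup.mem_subgroupOf]
        exact ⟨c, hc, rfl⟩
      rw [hM₂b, Subgroup.mem_bot] at hmem
      rw [Subgroup.mem_bot]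
      apply Subtype.ext
      have := congrArg Subtype.val hmem
      simpa using this
    set ψ : ↥D' →* ↥C ⧸ K := (QuotientGroup.mk' K).comp D'.subtype with hψ
    have hψinj : Function.Injective ψ := by
      rw [← MonoidHom.ker_eq_bot_iff, eq_bot_iff]
      intro x hx
      rw [MonoidHom.mem_ker, hψ, MonoidHom.comp_apply, QuotientGroup.mk'_apply,
        QuotientGroup.eq_one_iff] at hx
      have h1 : (x : ↥C) ∈ K ⊓ D' := ⟨hx, x.2⟩
      rw [hKD, Subgroup.mem_bot] at h1
      rw [Subgroup.mem_bot]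
      exact Subtype.ext h1
    have hrange : ψ.range = D'.map (QuotientGroup.mk' K) := by
      rw [hψ, MonoidHom.range_comp, Subgroup.range_subtype]
    have hrn : ψ.range.Normal := by
      rw [hrange]
      exact Subgroup.Normal.map hD'n _ (QuotientGroup.mk'_surjective K)
    have h1 := Cfsg.Agent.Lib.Helper56.charP_of_isSubnormal hCt ψ.range hrn.isSubnormal
    have e : ↥ψ.range ≃* ↥D :=
      (MonoidHom.ofInjective hψinj).symm.trans (Subgroup.subgroupOfEquivOfLe hDC)
    exact Cfsg.Agent.Lib.Helper56.charP_of_mulEquiv e h1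
  -- hence `D` is a `p`-group
  have hDp : IsPGroup p ↥D := by
    have htop : Subgroup.centralizer (pCore p ↥D : Set ↥D) = ⊤ := by
      rw [eq_top_iff]
      intro d _
      rw [Subgroup.mem_centralizer_iff]
      intro r hr
      haveI : (pCore p ↥D).Characteristic := Cfsg.Agent.Lib.Helper54.pCore_characteristic p ↥D
      have hn : ((pCore p ↥D).map D.subtype).Normal := inferInstance
      have hp : IsPGroup p ↥((pCore p ↥D).map D.subtype) :=
        (Cfsg.Agent.Lib.Helper54.pCore_isPGroup p ↥D).map _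
      have hrQ : (r : Y) ∈ pCore p Y := Cfsg.Agent.Lib.Helper54.le_pCore hn hp ⟨r, hr, rfl⟩
      have := (Subgroup.mem_centralizer_iff.mp d.2) _ hrQ
      exact Subtype.ext this
    have hle : (⊤ : Subgroup ↥D) ≤ pCore p ↥D := htop ▸ hDchar
    intro g
    obtain ⟨k, hk⟩ := (Cfsg.Agent.Lib.Helper54.pCore_isPGroup p ↥D) ⟨g, hle (Subgroup.mem_top g)⟩
    exact ⟨k, by simpa using congrArg Subtype.val hk⟩
  exact Cfsg.Agent.Lib.Helper54.le_pCore hDn hDp

/-- The image of a `p`-constrained subgroup modulo a normal `p'`-subgroup is `p`-constrained. -/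
theorem isPConstrained_map_mk {G : Type*} [Group G] [Finite G] (p : ℕ) [Fact p.Prime]
    (K : Subgroup G) [K.Normal] (hK : (Nat.card K).Coprime p) (N : Subgroup G)
    (M : Subgroup (G ⧸ K)) (hM : M = N.map (QuotientGroup.mk' K))
    (h : IsPConstrained p ↥N) : IsPConstrained p ↥M := by
  set φ : ↥N →* G ⧸ K := (QuotientGroup.mk' K).comp N.subtype with hφ
  have hrange : φ.range = M := by
    rw [hM, hφ, MonoidHom.range_comp, Subgroup.range_subtype]
  have hker : φ.ker = K.comap N.subtype := by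
    ext x
    rw [MonoidHom.mem_ker, Subgroup.mem_comap, hφ, MonoidHom.comp_apply, QuotientGroup.mk'_apply,
      QuotientGroup.eq_one_iff]
  have hc : (Nat.card φ.ker).Coprime p := by
    rw [hker]
    exact Nat.Coprime.coprime_dvd_left
      (Subgroup.card_comap_dvd_of_injective K N.subtype N.subtype_injective) hK
  have e : ↥N ⧸ φ.ker ≃* ↥M :=
    (QuotientGroup.quotientKerEquivRange φ).trans (MulEquiv.subgroupCongr hrange)
  exact isPConstrained_of_mulEquiv p e (isPConstrained_quotient p φ.ker hc h)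

theorem centralizer_zpowers_eq {H : Type*} [Group H] (w : H) :
    Subgroup.centralizer ((Subgroup.zpowers w : Subgroup H) : Set H) =
      Subgroup.centralizer ({w} : Set H) := by
  ext x
  rw [Subgroup.mem_centralizer_iff, Subgroup.mem_centralizer_iff]
  constructor
  · intro h y hy
    rw [Set.mem_singleton_iff] at hy
    subst hy
    exact h _ (Subgroup.mem_zpowers _)
  · intro h y hy
    obtain ⟨k, rfl⟩ := Subgroup.mem_zpowers_iff.mp hy
    have h1 : Commute w x := h w rfl
    exact (h1.zpow_left k).eq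

/-- If `z ∈ O_p(X)` and `C_X(z)` is `p`-constrained, then `X` is `p`-constrained. -/
theorem isPConstrained_of_centralizer_elt {X : Type*} [Group X] [Finite X] (p : ℕ)
    [Fact p.Prime] (z : X) (hz : z ∈ pCore p X)
    (hC : IsPConstrained p ↥(Subgroup.centralizer ({z} : Set X))) : IsPConstrained p X := by
  have hK : (Nat.card (pPrimeCore p X)).Coprime p := Cfsg.Agent.Lib.Helper29.pPrimeCore_coprime p
  have hbar : pPrimeCore p (X ⧸ pPrimeCore p X) = ⊥ :=
    Cfsg.Agent.Lib.Helper29.pPrimeCore_quotient_eq_bot p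
  rw [Cfsg.Agent.S0631.isPConstrained_iff]
  apply charP_of_centralizer_isPConstrained p hbar (QuotientGroup.mk' (pPrimeCore p X) z)
  · have hn : ((pCore p X).map (QuotientGroup.mk' (pPrimeCore p X))).Normal :=
      Subgroup.Normal.map (Cfsg.Agent.Lib.Helper54.pCore_normal p X) _
        (QuotientGroup.mk'_surjective _)
    have hp : IsPGroup p ↥((pCore p X).map (QuotientGroup.mk' (pPrimeCore p X))) :=
      (Cfsg.Agent.Lib.Helper54.pCore_isPGroup p X).map _
    exact Cfsg.Agent.Lib.Helper54.le_pCore hn hp ⟨z, hz, rfl⟩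
  · have hzp : IsPGroup p ↥(Subgroup.zpowers z) :=
      (Cfsg.Agent.Lib.Helper54.pCore_isPGroup p X).to_le (Subgroup.zpowers_le.mpr hz)
    have h1 := Cfsg.Agent.Lib.Helper15.centralizer_map_mk_of_coprime (pPrimeCore p X) hK
      (Subgroup.zpowers z) hzp
    rw [MonoidHom.map_zpowers, centralizer_zpowers_eq, centralizer_zpowers_eq] at h1
    exact isPConstrained_map_mk p (pPrimeCore p X) hK _ _ h1 hC

end Cfsg.Agent.Lib.Helper12
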