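import Mathlib
import Cfsg.Agent.Lib.Helper12.AutQ8
import Cfsg.Agent.Lib.Helper12.GL23Pres
import Cfsg.Agent.Lib.Helper59.AutIndex
import Cfsg.Agent.Lib.Helper97.UniqueOrderP
import Cfsg.Agent.S3742

/-!
# Groups of order 48 with a self-centralizing normal quaternion subgroup (helper12)

`K` finite of order 48, `Q ⊴ K`, `Q ≅ Q₈`, `C_K(Q) ≤ Q`.  Then `K → Aut(Q₈) ≅ S₄` is onto with kernel
`Z(K)` of order two, and `K ≅ GL(2,3)` or the Sylow 2-subgroups of `K` are generalized quaternion.
-/

set_option autoImplicit false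
set_option linter.unusedSectionVars false
set_option linter.style.haveILetI false

namespace Cfsg.Agent.Lib.Helper12.Q8Ext

open QuaternionGroup Cfsg.Agent.Lib.Helper12.AutQ8

variable {K : Type*} [Group K] (Q : Subgroup K) [hQn : Q.Normal] (e : Q ≃* QuaternionGroup 2)

/-- the embedding `Q₈ → K` -/
def iota : QuaternionGroup 2 →* K := Q.subtype.comp e.symm.toMonoidHom

theorem iota_mem (u : QuaternionGroup 2) : iota Q e u ∈ Q := (e.symm u).2

theorem iota_injective : Function.Injective (iota Q e) := by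
  intro u v h
  have : (e.symm u : K) = e.symm v := h
  exact e.symm.injective (Subtype.ext this)

theorem exists_iota {g : K} (hg : g ∈ Q) : ∃ u, iota Q e u = g :=
  ⟨e ⟨g, hg⟩, by simp [iota]⟩

/-- the conjugation action, with values in `Aut(Q₈)` -/
def phi : K →* MulAut (QuaternionGroup 2) :=
  (MulAut.congr e).toMonoidHom.comp (MulAut.conjNormal (H := Q))

theorem iota_phi (g : K) (u : QuaternionGroup 2) :
    iota Q e (phi Q e g u) = g * iota Q e u * g⁻¹ := by
  simp [phi, iota, MulAut.congr, MulAut.conjNormal_apply]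

theorem z_central (g : K) : g * iota Q e (a 2) * g⁻¹ = iota Q e (a 2) := by
  rw [← iota_phi]
  congr 1
  have h1 : phi Q e g (a 2) * phi Q e g (a 2) = 1 := by
    rw [← map_mul, AutQ8.z_sq, map_one]
  rcases AutQ8.invol_cases _ h1 with h | h
  · exfalso
    have : phi Q e g (a 2) = phi Q e g 1 := by rw [h, map_one]
    exact AutQ8.z_ne_one ((phi Q e g).injective this)
  · exact h

theorem z_comm (g : K) : g * iota Q e (a 2) = iota Q e (a 2) * g := by
  have := z_central Q e g
  rw [mul_inv_eq_iff_eq_mul] at this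
  exact this

variable (hc : Subgroup.centralizer (Q : Set K) ≤ Q)
include hc

theorem phi_ker {g : K} (hg : phi Q e g = 1) : g = 1 ∨ g = iota Q e (a 2) := by
  have h1 : ∀ u, g * iota Q e u * g⁻¹ = iota Q e u := by
    intro u; rw [← iota_phi, hg]; rfl
  have hgc : g ∈ Subgroup.centralizer (Q : Set K) := by
    rw [Subgroup.mem_centralizer_iff]
    intro q hq
    obtain ⟨u, rfl⟩ := exists_iota Q e hq
    have := h1 u
    rw [mul_inv_eq_iff_eq_mul] at this
    exact this.symm
  obtain ⟨w, rfl⟩ := exists_iota Q e (hc hgc)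
  have hw : ∀ v, w * v = v * w := by
    intro v
    apply iota_injective Q e
    rw [map_mul, map_mul]
    have := h1 v
    rw [mul_inv_eq_iff_eq_mul] at this
    exact this
  rcases AutQ8.central_cases w hw with h | h
  · left; rw [h, map_one]
  · right; rw [h]

omit hc in
theorem z_order : orderOf (iota Q e (a 2)) = 2 := by
  haveI : Fact (Nat.Prime 2) := ⟨Nat.prime_two⟩
  apply orderOf_eq_prime
  · rw [pow_two, ← map_mul, AutQ8.z_sq, map_one]
  · intro h
    exact AutQ8.z_ne_one (iota_injective Q e (by rw [h, map_one]))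

variable [Finite K]

theorem card_ker_le : Nat.card (phi Q e).ker ≤ 2 := by
  have hker : (phi Q e).ker ≤ Subgroup.zpowers (iota Q e (a 2)) := by
    intro g hg
    rcases phi_ker Q e hc (MonoidHom.mem_ker.mp hg) with h | h
    · rw [h]; exact one_mem _
    · rw [h]; exact Subgroup.mem_zpowers _
  calc Nat.card (phi Q e).ker ≤ Nat.card (Subgroup.zpowers (iota Q e (a 2))) :=
        Subgroup.card_le_of_le hker
    _ = 2 := by rw [Nat.card_zpowers, z_order]

include e in
/-- without any assumption on the order: `|K|` divides 48 -/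
theorem card_dvd : Nat.card K ∣ 48 := by
  have h1 : Nat.card (phi Q e).ker * Nat.card (phi Q e).range = Nat.card K := by
    rw [← Subgroup.index_ker, Subgroup.card_mul_index]
  have h24 : Nat.card (MulAut (QuaternionGroup 2)) = 24 :=
    Cfsg.Agent.Lib.Helper59.card_mulAut_q8 _ (MulEquiv.refl _)
  haveI : Finite (MulAut (QuaternionGroup 2)) := Nat.finite_of_card_ne_zero (by rw [h24]; norm_num)
  have hr : Nat.card (phi Q e).range ∣ 24 := by
    rw [← h24]; exact Subgroup.card_subgroup_dvd_card _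
  have hk := card_ker_le Q e hc
  have hk0 : 0 < Nat.card (phi Q e).ker := Nat.card_pos
  have hk2 : Nat.card (phi Q e).ker ∣ 2 := by
    have : Nat.card (phi Q e).ker = 1 ∨ Nat.card (phi Q e).ker = 2 := by omega
    rcases this with h | h <;> rw [h]
    norm_num
  rw [← h1]
  exact Nat.mul_dvd_mul hk2 hr

variable (hK : Nat.card K = 48)
include hK

theorem phi_surjective : Function.Surjective (phi Q e) := by
  rw [← MonoidHom.range_eq_top]
  have hk2 : Nat.card (phi Q e).ker ≤ 2 := card_ker_le Q e hc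
  have h1 : Nat.card (phi Q e).ker * Nat.card (phi Q e).range = 48 := by
    rw [← Subgroup.index_ker, Subgroup.card_mul_index, hK]
  have h24 : Nat.card (MulAut (QuaternionGroup 2)) = 24 :=
    Cfsg.Agent.Lib.Helper59.card_mulAut_q8 _ (MulEquiv.refl _)
  have hle : Nat.card (phi Q e).range ≤ 24 := by
    rw [← h24]; exact Subgroup.card_le_card_group _
  apply Subgroup.eq_top_of_le_card
  rw [h24]
  nlinarith

theorem exists_ts : ∃ t s : K, phi Q e t = tauA ∧ phi Q e s = sigA ∧ t ^ 3 = 1 ∧
    s * t * s⁻¹ = t⁻¹ ∧ (s * s = 1 ∨ s * s = iota Q e (a 2)) := by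
  obtain ⟨t₀, ht₀⟩ := phi_surjective Q e hc hK tauA
  obtain ⟨s, hs⟩ := phi_surjective Q e hc hK sigA
  have hzz : iota Q e (a 2) * iota Q e (a 2) = 1 := by
    rw [← map_mul, AutQ8.z_sq, map_one]
  have hz1 : iota Q e (a 2) ≠ 1 := by
    intro h
    exact AutQ8.z_ne_one (iota_injective Q e (by rw [h, map_one]))
  have hsq : ∀ g : K, phi Q e g = 1 → g * g = 1 := by
    intro g hg
    rcases phi_ker Q e hc hg with h | h
    · rw [h, one_mul]
    · rw [h, hzz]
  have ht3 : phi Q e (t₀ ^ 3) = 1 := by rw [map_pow, ht₀, tauA_pow_three]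
  have ht : phi Q e (t₀ ^ 4) = tauA := by
    rw [pow_succ, map_mul, ht3, one_mul, ht₀]
  have ht3' : (t₀ ^ 4) ^ 3 = 1 := by
    have h := hsq _ ht3
    calc (t₀ ^ 4) ^ 3 = (t₀ ^ 3 * t₀ ^ 3) * (t₀ ^ 3 * t₀ ^ 3) := by group
      _ = 1 := by rw [h, one_mul]
  have hsinv : sigA⁻¹ = sigA := inv_eq_of_mul_eq_one_right sigA_sq
  have hw : phi Q e (s * t₀ ^ 4 * s⁻¹ * t₀ ^ 4) = 1 := by
    rw [map_mul, map_mul, map_mul, map_inv, hs, ht, hsinv, sigA_tauA]
  refine ⟨t₀ ^ 4, s, ht, hs, ht3', ?_, ?_⟩
  · rcases phi_ker Q e hc hw with h | h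
    · exact eq_inv_of_mul_eq_one_left h
    · exfalso
      have h1 : s * t₀ ^ 4 * s⁻¹ = iota Q e (a 2) * (t₀ ^ 4)⁻¹ := by
        rw [← h]; group
      have h2 : (s * t₀ ^ 4 * s⁻¹) ^ 3 = 1 := by
        rw [conj_pow, ht3']; group
      have hcomm : Commute (iota Q e (a 2)) ((t₀ ^ 4)⁻¹) := (z_comm Q e _).symm
      rw [h1, hcomm.mul_pow, inv_pow, ht3', inv_one, mul_one, pow_succ, pow_two, hzz, one_mul] at h2
      exact hz1 h2
  · apply phi_ker Q e hc
    rw [map_mul, hs, sigA_sq]

omit hc hK [Finite K] in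
theorem conj_eq {g : K} {ψ : MulAut (QuaternionGroup 2)} (hg : phi Q e g = ψ)
    (u : QuaternionGroup 2) : g * iota Q e u = iota Q e (ψ u) * g := by
  have := iota_phi Q e g u
  rw [hg] at this
  rw [this]; group

omit hc hK [Finite K] in
theorem not_mem_of_not_inner {g : K} {ψ : MulAut (QuaternionGroup 2)} (hg : phi Q e g = ψ)
    (h : ∀ w : QuaternionGroup 2, ∃ u, ψ u ≠ w * u * w⁻¹) : g ∉ Q := by
  intro hgQ
  obtain ⟨w, rfl⟩ := exists_iota Q e hgQ
  obtain ⟨u, hu⟩ := h w
  apply hu
  apply iota_injective Q e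
  have := iota_phi Q e (iota Q e w) u
  rw [hg] at this
  rw [this, map_mul, map_mul, map_inv]

omit hc hK [Finite K] in
include e in
theorem card_Q : Nat.card Q = 8 := by
  rw [Nat.card_congr e.toEquiv, Nat.card_eq_fintype_card, QuaternionGroup.card]

omit hc in
include e in
theorem card_quot : Nat.card (K ⧸ Q) = 6 := by
  have h := Subgroup.card_eq_card_quotient_mul_card_subgroup Q
  rw [hK, card_Q Q e] at h
  omega

theorem min_normal (N : Subgroup K) (hN : N.Normal) (hNb : N ≠ ⊥) : iota Q e (a 2) ∈ N := by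
  have hNQ : N ⊓ Q ≠ ⊥ := by
    intro h
    apply hNb
    have hle : N ≤ Subgroup.centralizer (Q : Set K) := by
      intro n hn
      rw [Subgroup.mem_centralizer_iff]
      intro q hq
      have h1 : n * q * n⁻¹ * q⁻¹ ∈ N ⊓ Q := by
        refine ⟨?_, ?_⟩
        · have : n * q * n⁻¹ * q⁻¹ = n * (q * n⁻¹ * q⁻¹) := by group
          rw [this]
          exact N.mul_mem hn (hN.conj_mem _ (N.inv_mem hn) q)
        · exact Q.mul_mem (hQn.conj_mem _ hq n) (Q.inv_mem hq)
      rw [h, Subgroup.mem_bot] at h1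
      have : n * q = q * n := by
        calc n * q = (n * q * n⁻¹ * q⁻¹) * (q * n) := by group
          _ = q * n := by rw [h1, one_mul]
      exact this.symm
    rw [eq_bot_iff, ← h]
    exact le_inf le_rfl (hle.trans hc)
  obtain ⟨g, hg1⟩ := (Subgroup.ne_bot_iff_exists_ne_one.mp hNQ)
  obtain ⟨g, hgm⟩ := g
  have hg1' : g ≠ 1 := fun h => hg1 (Subtype.ext h)
  obtain ⟨u, rfl⟩ := exists_iota Q e hgm.2
  have hu : u ≠ 1 := by
    intro h; apply hg1'; rw [h, map_one]
  rcases AutQ8.z_mem_powers u hu with h | h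
  · rw [h]; exact hgm.1
  · rw [h, map_mul]; exact N.mul_mem hgm.1 hgm.1

open Cfsg.Agent.Lib.Helper12.GL23Pres in
theorem iso_GL23_of_sq {t s : K} (ht : phi Q e t = tauA) (hs : phi Q e s = sigA) (ht3 : t ^ 3 = 1)
    (hst : s * t * s⁻¹ = t⁻¹) (hss : s * s = 1) : Nonempty (K ≃* GL (Fin 2) (ZMod 3)) := by
  set x := iota Q e (a 1) with hx
  set y := iota Q e (xa 0) with hy
  have htx := conj_eq Q e ht (a 1)
  have hty := conj_eq Q e ht (xa 0)
  have hsx := conj_eq Q e hs (a 1)
  have hsy := conj_eq Q e hs (xa 0)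
  rw [tauA_apply, tauF_i, map_mul, map_mul] at htx
  rw [tauA_apply, tauF_j, map_mul, map_mul, map_mul] at hty
  rw [sigA_apply, sigF_i, map_mul, map_mul] at hsx
  rw [sigA_apply, sigF_j, map_mul] at hsy
  have hrel : GLRel x y t s := by
    refine ⟨?_, ?_, ?_, ?_, htx.symm, hty.symm, hss, ?_, hsx.symm, hsy.symm⟩
    · rw [hx, ← map_mul, ← map_mul, ← map_mul, AutQ8.i_pow_four, map_one]
    · rw [hx, hy, ← map_mul, ← map_mul, AutQ8.j_sq]
    · rw [hx, hy, ← map_mul, ← map_mul, ← map_mul, ← map_mul, AutQ8.iiij]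
    · rw [← ht3, pow_succ, pow_two]
    · have h1 : s * t = t⁻¹ * s := by rw [← hst]; group
      have h2 : t⁻¹ = t * t := by
        apply inv_eq_of_mul_eq_one_right
        rw [← ht3, pow_succ, pow_two, mul_assoc]
      rw [h1, h2]
  have htQ : t ∉ Q := not_mem_of_not_inner Q e ht (by simpa using tauF_not_inner)
  have hsQ : s ∉ Q := not_mem_of_not_inner Q e hs (by simpa using sigF_not_inner)
  have hgen : Subgroup.closure ({x, y, t, s} : Set K) = ⊤ := by
    set H := Subgroup.closure ({x, y, t, s} : Set K) with hH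
    have hxH : x ∈ H := Subgroup.subset_closure (by simp)
    have hyH : y ∈ H := Subgroup.subset_closure (by simp)
    have htH : t ∈ H := Subgroup.subset_closure (by simp)
    have hsH : s ∈ H := Subgroup.subset_closure (by simp)
    have hQH : Q ≤ H := by
      intro q hq
      obtain ⟨u, rfl⟩ := exists_iota Q e hq
      obtain ⟨m, n, hu⟩ := AutQ8.word_form u
      rw [hu, map_mul, map_pow, map_pow]
      exact H.mul_mem (H.pow_mem hxH _) (H.pow_mem hyH _)
    have hM : H.map (QuotientGroup.mk' Q) = ⊤ := by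
      apply Subgroup.eq_top_of_le_card
      rw [card_quot Q e hK]
      haveI : Fact (Nat.Prime 3) := ⟨by norm_num⟩
      haveI : Fact (Nat.Prime 2) := ⟨Nat.prime_two⟩
      have ho3 : orderOf (QuotientGroup.mk' Q t) = 3 := by
        apply orderOf_eq_prime
        · rw [← map_pow, ht3, map_one]
        · intro h
          exact htQ ((QuotientGroup.eq_one_iff t).mp h)
      have ho2 : orderOf (QuotientGroup.mk' Q s) = 2 := by
        apply orderOf_eq_prime
        · rw [← map_pow, pow_two, hss, map_one]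
        · intro h
          exact hsQ ((QuotientGroup.eq_one_iff s).mp h)
      have hd3 : 3 ∣ Nat.card (H.map (QuotientGroup.mk' Q)) := by
        have h := orderOf_dvd_natCard
          (⟨QuotientGroup.mk' Q t, Subgroup.mem_map_of_mem _ htH⟩ : H.map (QuotientGroup.mk' Q))
        rw [Subgroup.orderOf_mk, ho3] at h; exact h
      have hd2 : 2 ∣ Nat.card (H.map (QuotientGroup.mk' Q)) := by
        have h := orderOf_dvd_natCard
          (⟨QuotientGroup.mk' Q s, Subgroup.mem_map_of_mem _ hsH⟩ : H.map (QuotientGroup.mk' Q))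
        rw [Subgroup.orderOf_mk, ho2] at h; exact h
      have h6 : 6 ∣ Nat.card (H.map (QuotientGroup.mk' Q)) :=
        Nat.Coprime.mul_dvd_of_dvd_of_dvd (by decide) hd2 hd3
      exact Nat.le_of_dvd Nat.card_pos h6
    have h1 := Subgroup.comap_map_eq (QuotientGroup.mk' Q) H
    rw [hM, Subgroup.comap_top, QuotientGroup.ker_mk', sup_eq_left.mpr hQH] at h1
    exact h1.symm
  have hmin : ∀ N : Subgroup K, N.Normal → N ≠ ⊥ → x * x ∈ N := by
    intro N hN hNb
    have := min_normal Q e hc hK N hN hNb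
    rwa [← AutQ8.i_sq, map_mul] at this
  exact iso_GL23 hK hrel hgen hmin

theorem center_eq_ker : Subgroup.center K = (phi Q e).ker := by
  ext g
  rw [MonoidHom.mem_ker, Subgroup.mem_center_iff]
  constructor
  · intro hg
    ext u
    apply iota_injective Q e
    rw [iota_phi, MulAut.one_apply, ← hg, mul_inv_cancel_right]
  · intro hg h
    rcases phi_ker Q e hc hg with h1 | h1
    · rw [h1, one_mul, mul_one]
    · rw [h1]; exact z_comm Q e h

include e in
theorem card_center : Nat.card (Subgroup.center K) = 2 := by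
  rw [center_eq_ker Q e hc hK]
  have h1 : Nat.card (phi Q e).ker * Nat.card (phi Q e).range = 48 := by
    rw [← Subgroup.index_ker, Subgroup.card_mul_index, hK]
  have h24 : Nat.card (MulAut (QuaternionGroup 2)) = 24 :=
    Cfsg.Agent.Lib.Helper59.card_mulAut_q8 _ (MulEquiv.refl _)
  have hr : (phi Q e).range = ⊤ := MonoidHom.range_eq_top.mpr (phi_surjective Q e hc hK)
  rw [hr, Subgroup.card_top, h24] at h1
  omega

include e in
theorem quot_center_iso : Nonempty (K ⧸ Subgroup.center K ≃* Equiv.Perm (Fin 4)) := by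
  obtain ⟨f⟩ := Cfsg.Agent.S3742.result
  exact ⟨((QuotientGroup.quotientMulEquivOfEq (center_eq_ker Q e hc hK)).trans
    (QuotientGroup.quotientKerEquivOfSurjective _ (phi_surjective Q e hc hK))).trans f⟩

theorem sylow_quaternion {s : K} (hs : phi Q e s = sigA) (hss : s * s = iota Q e (a 2))
    (P : Sylow 2 K) : Nonempty (↥(P : Subgroup K) ≃* QuaternionGroup 4) := by
  haveI : Fact (Nat.Prime 2) := ⟨Nat.prime_two⟩
  have hzz : iota Q e (a 2) * iota Q e (a 2) = 1 := by
    rw [← map_mul, AutQ8.z_sq, map_one]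
  have hsQ : s ∉ Q := not_mem_of_not_inner Q e hs (by simpa using sigF_not_inner)
  -- a Sylow subgroup containing `s`
  have hs2 : IsPGroup 2 (Subgroup.zpowers s) := by
    have h4 : s ^ 4 = 1 := by
      calc s ^ 4 = (s * s) * (s * s) := by
            simp only [pow_succ, pow_zero, one_mul, mul_assoc]
        _ = 1 := by rw [hss, hzz]
    have hd : orderOf s ∣ 2 ^ 2 := orderOf_dvd_of_pow_eq_one h4
    obtain ⟨k, -, hk⟩ := (Nat.dvd_prime_pow Nat.prime_two).mp hd
    exact IsPGroup.of_card (n := k) (by rw [Nat.card_zpowers, hk])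
  obtain ⟨P₀, hsP₀⟩ := hs2.exists_le_sylow
  have hsP : s ∈ (P₀ : Subgroup K) := hsP₀ (Subgroup.mem_zpowers s)
  have hQ2 : IsPGroup 2 Q := IsPGroup.of_card (n := 3) (by rw [card_Q Q e]; norm_num)
  have hQP : Q ≤ (P₀ : Subgroup K) := hQ2.le_sylow_of_normal P₀
  have hcardP : Nat.card (P₀ : Subgroup K) = 16 := by
    rw [Sylow.card_eq_multiplicity, hK]
    have : (48 : ℕ).factorization 2 = 4 := by
      rw [show (48 : ℕ) = 2 ^ 4 * 3 from rfl, Nat.factorization_mul (by norm_num) (by norm_num),
        Nat.factorization_pow]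
      simp [Nat.Prime.factorization_self Nat.prime_two,
        Nat.factorization_eq_zero_of_not_dvd (show ¬ 2 ∣ 3 by norm_num)]
    rw [this]; norm_num
  -- index two
  have hidx : (Q.subgroupOf (P₀ : Subgroup K)).index = 2 := by
    have h1 := Subgroup.card_mul_index (Q.subgroupOf (P₀ : Subgroup K))
    rw [hcardP, Nat.card_congr (Subgroup.subgroupOfEquivOfLe hQP).toEquiv, card_Q Q e] at h1
    omega
  -- involutions of `P₀`
  have hinv : ∀ u ∈ (P₀ : Subgroup K), orderOf u = 2 → u = iota Q e (a 2) := by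
    intro u hu ho
    have huu : u * u = 1 := by rw [← pow_two, ← ho, pow_orderOf_eq_one]
    have hu1 : u ≠ 1 := by
      intro h; rw [h, orderOf_one] at ho; omega
    by_cases huQ : u ∈ Q
    · obtain ⟨w, rfl⟩ := exists_iota Q e huQ
      have hw : w * w = 1 := by
        apply iota_injective Q e; rw [map_mul, huu, map_one]
      rcases AutQ8.invol_cases w hw with h | h
      · exfalso; apply hu1; rw [h, map_one]
      · rw [h]
    · exfalso
      have h1 : (⟨s⁻¹, (P₀ : Subgroup K).inv_mem hsP⟩ * ⟨u, hu⟩ : (P₀ : Subgroup K)) ∈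
          Q.subgroupOf (P₀ : Subgroup K) := by
        rw [Subgroup.mul_mem_iff_of_index_two hidx]
        simp only [Subgroup.mem_subgroupOf]
        constructor
        · intro h; exact absurd ((Q.inv_mem_iff).mp h) hsQ
        · intro h; exact absurd h huQ
      have h2 : s⁻¹ * u ∈ Q := by
        simpa [Subgroup.mem_subgroupOf] using h1
      obtain ⟨w, hw⟩ := exists_iota Q e h2
      have hu' : u = s * iota Q e w := by rw [hw]; group
      have h3 := conj_eq Q e hs w
      have : u * u = iota Q e (sigF w * a 2 * w) := by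
        rw [hu', map_mul, map_mul]
        calc s * iota Q e w * (s * iota Q e w) = (s * iota Q e w) * s * iota Q e w := by group
          _ = iota Q e (sigA w) * (s * s) * iota Q e w := by rw [h3]; group
          _ = _ := by rw [hss, sigA_apply]
      rw [huu] at this
      exact AutQ8.sq_ne_one' w (iota_injective Q e (by rw [← this, map_one]))
  have hU : Cfsg.Agent.Lib.Helper97.UniqueOrderP 2 (P₀ : Subgroup K) := by
    intro x y hx hy
    have hx' := hinv x x.2 (by rw [← Subgroup.orderOf_coe] at hx; exact hx)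
    have hy' := hinv y y.2 (by rw [← Subgroup.orderOf_coe] at hy; exact hy)
    have : y = x := Subtype.ext (by rw [hx', hy'])
    rw [this]; exact Subgroup.mem_zpowers x
  have hnc : ¬ IsCyclic (P₀ : Subgroup K) := by
    intro hcyc
    have hcomm := IsCyclic.isMulCommutative (α := (P₀ : Subgroup K))
    have h1 := hcomm.is_comm.comm (⟨iota Q e (a 1), hQP (iota_mem Q e _)⟩ : (P₀ : Subgroup K))
      ⟨iota Q e (xa 0), hQP (iota_mem Q e _)⟩
    have h2 := congrArg Subtype.val h1
    simp only [Subgroup.coe_mul] at h2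
    rw [← map_mul, ← map_mul] at h2
    exact AutQ8.ij_ne_ji (iota_injective Q e h2)
  obtain ⟨n, ⟨f⟩⟩ := Cfsg.Agent.Lib.Helper97.quaternion_of_uniqueOrderP_two
    (G := (P₀ : Subgroup K)) P₀.isPGroup' hU hnc
  have hn : 2 ^ n = 4 := by
    have h1 := Nat.card_congr f.toEquiv
    rw [hcardP, Nat.card_eq_fintype_card, QuaternionGroup.card] at h1
    omega
  rw [hn] at f
  exact ⟨(Sylow.equiv P P₀).trans f⟩

include e in
/-- **Structure of `K`**: `GL(2,3)` or the binary octahedral alternative. -/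
theorem structure48 : Nonempty (K ≃* GL (Fin 2) (ZMod 3)) ∨
    (Nat.card (Subgroup.center K) = 2 ∧ Nonempty (K ⧸ Subgroup.center K ≃* Equiv.Perm (Fin 4)) ∧
      ∀ P : Sylow 2 K, Nonempty (↥(P : Subgroup K) ≃* QuaternionGroup 4)) := by
  obtain ⟨t, s, ht, hs, ht3, hst, hss⟩ := exists_ts Q e hc hK
  rcases hss with hss | hss
  · exact Or.inl (iso_GL23_of_sq Q e hc hK ht hs ht3 hst hss)
  · exact Or.inr ⟨card_center Q e hc hK, quot_center_iso Q e hc hK,
      sylow_quaternion Q e hc hK hs hss⟩

end Cfsg.Agent.Lib.Helper12.Q8Ext
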