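import Mathlib
import Cfsg.Prelude.Def_Solvable
import Cfsg.Prelude.Def_CaseTheorems
import Cfsg.Agent.Lib.Helper12.Q8Ext
import Cfsg.Agent.Lib.Helper01.HallHigman
import Cfsg.Agent.Lib.Helper01.PCore
import Cfsg.Agent.Lib.Helper30.RankOneComp
import Cfsg.Agent.Lib.Helper61.SolvableCore
import Cfsg.Agent.Lib.Helper88.AutTwoGroup
import Cfsg.Agent.Lib.Helper97.UniqueOrderP

/-!
# Solvable groups with trivial odd core whose Sylow 2-intersections have rank one (helper12)
-/

set_option autoImplicit false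
set_option linter.unusedSectionVars false
set_option linter.style.haveILetI false

namespace Cfsg.Agent.Lib.Helper12.S3304Core

open Cfsg

universe u

variable {K : Type u} [Group K] [Finite K]

/-- a 2-group has a normal Sylow 2-subgroup -/
theorem exists_normal_sylow_of_isPGroup (h : IsPGroup 2 K) :
    ∃ P : Sylow 2 K, (P : Subgroup K).Normal := by
  haveI : Fact (Nat.Prime 2) := ⟨Nat.prime_two⟩
  obtain ⟨P⟩ : Nonempty (Sylow 2 K) := inferInstance
  refine ⟨P, ?_⟩
  have htop : IsPGroup 2 (⊤ : Subgroup K) := by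
    intro g
    obtain ⟨k, hk⟩ := h g.1
    exact ⟨k, Subtype.ext (by simpa using hk)⟩
  have : (⊤ : Subgroup K) = P := P.is_maximal' htop le_top
  rw [← this]
  infer_instance

theorem isPGroup_of_card_pow {n : ℕ} (h : Nat.card K = 2 ^ n) : IsPGroup 2 K :=
  IsPGroup.of_card h

/-- if `C_K(Q) ≤ Q` for a 2-subgroup `Q` whose centralizer has 2-power index, `K` is a 2-group -/
theorem isPGroup_of_index_pow (Q : Subgroup K) (hQ2 : IsPGroup 2 Q)
    (hc : Subgroup.centralizer (Q : Set K) ≤ Q)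
    (h : ∃ j : ℕ, (Subgroup.centralizer (Q : Set K)).index = 2 ^ j) : IsPGroup 2 K := by
  haveI : Fact (Nat.Prime 2) := ⟨Nat.prime_two⟩
  obtain ⟨j, hj⟩ := h
  have hC2 : IsPGroup 2 (Subgroup.centralizer (Q : Set K)) := hQ2.to_le hc
  obtain ⟨a, ha⟩ := IsPGroup.iff_card.mp hC2
  have := Subgroup.card_mul_index (Subgroup.centralizer (Q : Set K))
  rw [ha, hj, ← pow_add] at this
  exact IsPGroup.of_card this.symm

/-- **Step 1**: `O_2(K)` is a quaternion group of order eight. -/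
theorem q8_of_not_closed (hs : Group.IsSolvable K) (hO : pPrimeCore 2 K = ⊥)
    (hI : ∀ S T : Sylow 2 K, S ≠ T → PRankLE 2 1 ↥((S : Subgroup K) ⊓ (T : Subgroup K)))
    (hN : ¬ ∃ P : Sylow 2 K, (P : Subgroup K).Normal) :
    Nonempty (↥(pCore 2 K) ≃* QuaternionGroup 2) := by
  haveI : Fact (Nat.Prime 2) := ⟨Nat.prime_two⟩
  haveI := hs
  have hQn : (pCore 2 K).Normal := Cfsg.Agent.Lib.Helper01.pCore_normal 2
  have hQ2 : IsPGroup 2 (pCore 2 K) := Cfsg.Agent.Lib.Helper01.pCore_isPGroup 2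
  have hc : Subgroup.centralizer (pCore 2 K : Set K) ≤ pCore 2 K :=
    Cfsg.Agent.Lib.Helper01.centralizer_pCore_le 2 hO
  have hK2 : ¬ IsPGroup 2 K := fun h => hN (exists_normal_sylow_of_isPGroup h)
  obtain ⟨S, T, hST⟩ : ∃ S T : Sylow 2 K, S ≠ T := by
    by_contra hcon
    push Not at hcon
    haveI : Subsingleton (Sylow 2 K) := ⟨hcon⟩
    obtain ⟨P⟩ : Nonempty (Sylow 2 K) := inferInstance
    exact hN ⟨P, Sylow.normal_of_subsingleton P⟩
  have hle : pCore 2 K ≤ (S : Subgroup K) ⊓ T := le_inf (Cfsg.Agent.Lib.Helper01.pCore_le_sylow S) (Cfsg.Agent.Lib.Helper01.pCore_le_sylow T)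
  have hrk : PRankLE 2 1 (pCore 2 K) := by
    intro A hAc hAe
    have hmc : IsMulCommutative (A.map (Subgroup.inclusion hle)) := by
      refine ⟨⟨?_⟩⟩
      rintro ⟨_, ⟨a, ha, rfl⟩⟩ ⟨_, ⟨b, hb, rfl⟩⟩
      apply Subtype.ext
      have h1 := hAc.is_comm.comm ⟨a, ha⟩ ⟨b, hb⟩
      have h2 := congrArg Subtype.val h1
      simp only [Subgroup.coe_mul] at h2
      simp only [Subgroup.coe_mul, ← map_mul, h2]
    have := hI S T hST (A.map (Subgroup.inclusion hle)) hmc (by
      rintro _ ⟨a, ha, rfl⟩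
      rw [← map_pow, hAe a ha, map_one])
    rwa [Subgroup.card_map_of_injective (Subgroup.inclusion_injective hle)] at this
  have hU : Cfsg.Agent.Lib.Helper97.UniqueOrderP 2 (pCore 2 K) := by
    intro x y hx hy
    haveI : Nontrivial (pCore 2 K) :=
      ⟨⟨x, 1, by intro h; rw [h, orderOf_one] at hx; omega⟩⟩
    haveI hcn : Nontrivial (Subgroup.center (pCore 2 K)) := hQ2.center_nontrivial
    have hZ2 : IsPGroup 2 (Subgroup.center (pCore 2 K)) := hQ2.to_subgroup _
    obtain ⟨k, hk0, hk⟩ := (hZ2.nontrivial_iff_card).mp hcn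
    have h2 : 2 ∣ Nat.card (Subgroup.center (pCore 2 K)) := by
      rw [hk]; exact dvd_pow_self 2 (by omega)
    obtain ⟨z, hz⟩ := exists_prime_orderOf_dvd_card' 2 h2
    have hz' : orderOf (z : pCore 2 K) = 2 := by rw [Subgroup.orderOf_coe]; exact hz
    have hx' := Cfsg.Agent.Lib.Helper30.RankOneComp.involution_unique hrk z.1 hz' z.2 x hx
    have hy' := Cfsg.Agent.Lib.Helper30.RankOneComp.involution_unique hrk z.1 hz' z.2 y hy
    rw [hx', hy']; exact Subgroup.mem_zpowers _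
  by_cases hcyc : IsCyclic (pCore 2 K)
  · exfalso
    exact hK2 (isPGroup_of_index_pow _ hQ2 hc
      (Cfsg.Agent.Lib.Helper61.index_centralizer_cyclic_two _ hcyc hQ2))
  · obtain ⟨n, ⟨f⟩⟩ := Cfsg.Agent.Lib.Helper97.quaternion_of_uniqueOrderP_two
      (G := pCore 2 K) hQ2 hU hcyc
    rcases Nat.lt_or_ge n 2 with hn | hn
    · interval_cases n
      · exfalso
        rw [pow_zero] at f
        haveI := QuaternionGroup.quaternionGroup_one_isCyclic
        exact hcyc (isCyclic_of_surjective f.symm f.symm.surjective)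
      · rw [pow_one] at f
        exact ⟨f⟩
    · exfalso
      have hA := Cfsg.Agent.Lib.Helper88.isPGroup_two_mulAut_quaternion (n + 1) (by omega)
      rw [Nat.add_sub_cancel] at hA
      have hA' : IsPGroup 2 (MulAut (pCore 2 K)) :=
        hA.of_equiv (MulAut.congr f).symm
      haveI : Finite (MulAut (pCore 2 K)) := inferInstance
      obtain ⟨m, hm⟩ := IsPGroup.iff_card.mp hA'
      have hd := Cfsg.Agent.Lib.Helper61.index_centralizer_dvd_card_mulAut (pCore 2 K)
      rw [hm] at hd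
      obtain ⟨j, -, hj⟩ := (Nat.dvd_prime_pow Nat.prime_two).mp hd
      exact hK2 (isPGroup_of_index_pow _ hQ2 hc ⟨j, hj⟩)

theorem divisors_48 : ∀ n ∈ Nat.divisors 48, 8 ∣ n → n = 8 ∨ n = 16 ∨ n = 24 ∨ n = 48 := by
  decide

/-- **The case `O(K) = 1`.** -/
theorem core (hs : Group.IsSolvable K) (hO : pPrimeCore 2 K = ⊥)
    (hI : ∀ S T : Sylow 2 K, S ≠ T → PRankLE 2 1 ↥((S : Subgroup K) ⊓ (T : Subgroup K))) :
    (∃ P : Sylow 2 K, (P : Subgroup K).Normal) ∨
    Nonempty (K ≃* GL (Fin 2) (ZMod 3)) ∨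
    (Nat.card K = 48 ∧ Nat.card ↥(Subgroup.center K) = 2 ∧
      Nonempty (K ⧸ Subgroup.center K ≃* Equiv.Perm (Fin 4)) ∧
      ∀ P : Sylow 2 K, Nonempty (↥(P : Subgroup K) ≃* QuaternionGroup 4)) := by
  haveI : Fact (Nat.Prime 2) := ⟨Nat.prime_two⟩
  haveI := hs
  by_cases hN : ∃ P : Sylow 2 K, (P : Subgroup K).Normal
  · exact Or.inl hN
  right
  obtain ⟨e⟩ := q8_of_not_closed hs hO hI hN
  haveI hQn : (pCore 2 K).Normal := Cfsg.Agent.Lib.Helper01.pCore_normal 2
  have hc : Subgroup.centralizer (pCore 2 K : Set K) ≤ pCore 2 K :=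
    Cfsg.Agent.Lib.Helper01.centralizer_pCore_le 2 hO
  have hK2 : ¬ IsPGroup 2 K := fun h => hN (exists_normal_sylow_of_isPGroup h)
  have hcQ : Nat.card (pCore 2 K) = 8 := Q8Ext.card_Q _ e
  have hK : Nat.card K = 48 := by
    have hd := Q8Ext.card_dvd (pCore 2 K) e hc
    have h8 : 8 ∣ Nat.card K := by
      rw [← hcQ]; exact Subgroup.card_subgroup_dvd_card _
    rcases divisors_48 _ (Nat.mem_divisors.mpr ⟨hd, by norm_num⟩) h8 with h | h | h | h
    · exact absurd (IsPGroup.of_card (n := 3) (by rw [h]; norm_num)) hK2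
    · exact absurd (IsPGroup.of_card (n := 4) (by rw [h]; norm_num)) hK2
    · exfalso
      have hf : (24 : ℕ).factorization 2 = 3 := by
        rw [show (24 : ℕ) = 2 ^ 3 * 3 from rfl, Nat.factorization_mul (by norm_num) (by norm_num),
          Nat.factorization_pow]
        simp [Nat.Prime.factorization_self Nat.prime_two,
          Nat.factorization_eq_zero_of_not_dvd (show ¬ 2 ∣ 3 by norm_num)]
      have hcard : Nat.card (pCore 2 K) = 2 ^ (Nat.card K).factorization 2 := by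
        rw [h, hf, hcQ]; norm_num
      exact hN ⟨Sylow.ofCard (pCore 2 K) hcard, by rw [Sylow.coe_ofCard]; exact hQn⟩
    · exact h
  rcases Q8Ext.structure48 (pCore 2 K) e hc hK with h | ⟨h1, h2, h3⟩
  · exact Or.inl h
  · exact Or.inr ⟨hK, h1, h2, h3⟩

end Cfsg.Agent.Lib.Helper12.S3304Core
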