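import Mathlib
import Cfsg.Prelude.Def_GeometricClasses
import Cfsg.Agent.Lib.Helper69.SLTDefs

set_option autoImplicit false

/-! K-SLT-T4 (keystone 597907, S5979 pack of helper69): `B ∈ GL_m(q)`, `B^r = 1`, `B ≠ 1`, `r ≠ p`:
`ord_r(q) + dim Fix(B) ≤ m`. -/

namespace Cfsg.Agent.Lib.Helper12.SLT

open Matrix Cfsg.Agent.Lib.Helper69.SLT

variable {F : Type*} [Field F]

/-- If `N (N v) = 0` then `(1 + N)^k v = v + k • N v`. -/
theorem pow_apply_of_sq_zero {V : Type*} [AddCommGroup V] [Module F V] (T N : V →ₗ[F] V)
    (hTN : ∀ v, T v = v + N v) (v : V) (hv : N (N v) = 0) (k : ℕ) :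
    (T ^ k) v = v + (k : F) • N v := by
  induction k with
  | zero => simp
  | succ k ih =>
    rw [pow_succ', Module.End.mul_apply, ih, map_add, map_smul, hTN v, hTN (N v), hv]
    push_cast
    module

/-- Core linear-algebra statement: an endomorphism `T` of a finite vector space over a finite field with `T^r = 1`,
`T ≠ 1`, `r` a prime different from the characteristic: `ord_r(q)` divides the codimension of the fixed space,
which is positive. -/
theorem order_le_core [Fintype F] {p : ℕ} [Fact p.Prime] [CharP F p] (r : ℕ) (hr : r.Prime)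
    (hrp : r ≠ p) {V : Type*} [AddCommGroup V] [Module F V] [Module.Finite F V]
    (T : V →ₗ[F] V) (hT : T ^ r = 1) (hT1 : T ≠ 1) :
    orderOf ((Fintype.card F : ℕ) : ZMod r) + Module.finrank F (Module.End.eigenspace T 1) ≤
      Module.finrank F V := by
  classical
  haveI : Fact r.Prime := ⟨hr⟩
  haveI : Finite V := Module.finite_of_finite F
  set N : V →ₗ[F] V := T - 1 with hN
  have hTN : ∀ v, T v = v + N v := by
    intro v; simp [hN]
  have hrF : ((r : ℕ) : F) ≠ 0 := by
    intro h0
    have := (CharP.cast_eq_zero_iff F p r).mp h0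
    have hp : p.Prime := Fact.out
    exact hrp ((Nat.prime_dvd_prime_iff_eq hp hr).mp this).symm
  -- kernel of N is the eigenspace
  have hker : LinearMap.ker N = Module.End.eigenspace T 1 := by
    ext v
    rw [LinearMap.mem_ker, Module.End.mem_eigenspace_iff, one_smul, hN]
    simp [sub_eq_zero]
  -- the range W of N meets the kernel trivially
  have hmeet : ∀ v, N (N v) = 0 → N v = 0 := by
    intro v hv
    have h1 := pow_apply_of_sq_zero T N hTN v hv r
    rw [hT] at h1
    simp only [Module.End.one_apply] at h1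
    have h2 : ((r : ℕ) : F) • N v = 0 := by
      have := h1
      rwa [left_eq_add] at this
    rcases smul_eq_zero.mp h2 with h | h
    · exact absurd h hrF
    · exact h
  set W : Submodule F V := LinearMap.range N with hW
  have hrk : Module.finrank F W + Module.finrank F (Module.End.eigenspace T 1) = Module.finrank F V := by
    rw [← hker]; exact LinearMap.finrank_range_add_finrank_ker N
  -- W ≠ 0
  have hWpos : 0 < Module.finrank F W := by
    rw [Module.finrank_pos_iff_exists_ne_zero]
    by_contra hcon
    push Not at hcon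
    apply hT1
    ext v
    have : (⟨N v, LinearMap.mem_range_self N v⟩ : W) = 0 := hcon _
    have h0 : N v = 0 := by simpa using congrArg Subtype.val this
    rw [hTN v, h0, add_zero]; rfl
  -- T maps W to W
  have hTW : ∀ w : W, T (w : V) ∈ W := by
    rintro ⟨w, v, rfl⟩
    refine ⟨T v, ?_⟩
    simp [hN]
  haveI : Fintype W := Fintype.ofFinite W
  let f : Function.End W := fun w => ⟨T (w : V), hTW w⟩
  have hfpow : ∀ k : ℕ, ∀ w : W, (((f ^ k) w : W) : V) = (T ^ k) (w : V) := by
    intro k
    induction k with
    | zero => intro w; rfl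
    | succ k ih =>
      intro w
      rw [pow_succ', pow_succ', Module.End.mul_apply, ← ih w]
      rfl
  have hf : f ^ r ^ 1 = 1 := by
    rw [pow_one]
    funext w
    apply Subtype.ext
    rw [hfpow r w, hT]
    rfl
  have hcard := Equiv.Perm.card_fixedPoints_modEq (p := r) (n := 1) hf
  -- the fixed points of f are {0}
  have hfix : Fintype.card (Function.fixedPoints f) = 1 := by
    rw [Fintype.card_eq_one_iff]
    refine ⟨⟨0, ?_⟩, ?_⟩
    · show f 0 = 0
      apply Subtype.ext
      show T ((0 : W) : V) = ((0 : W) : V)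
      simp
    · rintro ⟨⟨w, v, rfl⟩, hfx⟩
      apply Subtype.ext
      apply Subtype.ext
      have h1 : T (N v) = N v := congrArg Subtype.val hfx
      have h2 : N (N v) = 0 := by
        have := hTN (N v)
        rw [h1] at this
        exact (left_eq_add.mp this)
      simpa using hmeet v h2
  rw [hfix] at hcard
  have hcardW : Fintype.card W = Fintype.card F ^ Module.finrank F W := Module.card_eq_pow_finrank
  rw [hcardW] at hcard
  have hpow : (((Fintype.card F : ℕ) : ZMod r)) ^ Module.finrank F W = 1 := by
    have := (ZMod.natCast_eq_natCast_iff _ _ r).mpr hcard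
    simpa using this
  have hdvd := orderOf_dvd_of_pow_eq_one hpow
  have hle := Nat.le_of_dvd hWpos hdvd
  omega

theorem order_le_of_pow_eq_one [Fintype F] {p : ℕ} [Fact p.Prime] [CharP F p] (r : ℕ) (hr : r.Prime)
    (hrp : r ≠ p) (m : ℕ) (B : GL (Fin m) F) (hB : B ^ r = 1) (hB1 : B ≠ 1) :
    orderOf ((Fintype.card F : ℕ) : ZMod r) + eigDim (B : Matrix (Fin m) (Fin m) F) 1 ≤ m := by
  classical
  have hT : (Matrix.toLin' (B : Matrix (Fin m) (Fin m) F)) ^ r = 1 := by
    rw [← Matrix.toLin'_pow]
    have : ((B : Matrix (Fin m) (Fin m) F)) ^ r = 1 := by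
      have := congrArg (fun x : GL (Fin m) F => (x : Matrix (Fin m) (Fin m) F)) hB
      simpa using this
    rw [this, Matrix.toLin'_one]; rfl
  have hT1 : (Matrix.toLin' (B : Matrix (Fin m) (Fin m) F)) ≠ 1 := by
    intro h
    apply hB1
    apply Units.ext
    have : Matrix.toLin' (B : Matrix (Fin m) (Fin m) F) = Matrix.toLin' (1 : Matrix (Fin m) (Fin m) F) := by
      rw [h, Matrix.toLin'_one]; rfl
    simpa using Matrix.toLin'.injective this
  have := order_le_core (F := F) (p := p) r hr hrp (V := Fin m → F)
    (Matrix.toLin' (B : Matrix (Fin m) (Fin m) F)) hT hT1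
  rw [Module.finrank_fin_fun] at this
  exact this

end Cfsg.Agent.Lib.Helper12.SLT
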