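import Mathlib
import Cfsg.Prelude.Def_Solvable
import Cfsg.Prelude.Def_Local
import Cfsg.Prelude.Def_SolvableStructure
import Cfsg.Agent.Lib.Helper41.SchmidtPLDefs

/-!
# K-SPL-SA3b (keystone 439404): the Camina property `[x, P] = Z(P)` for `x ∈ P ∖ Z(P)`.
-/

set_option autoImplicit false

namespace Cfsg.Agent.Lib.Helper12.SPL

open Cfsg Cfsg.Agent.Lib.Helper41.SchmidtPL
open scoped commutatorElement

/-- in a class-2 situation the commutators `⁅x, g⁆`, `g ∈ P`, form a subgroup -/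
def commSub {X : Type*} [Group X] (P : Subgroup X) (x : X) (hx : x ∈ P)
    (hcl : ∀ a ∈ P, ∀ b ∈ P, ⁅a, b⁆ ∈ zIn P) : Subgroup X where
  carrier := {z | ∃ g ∈ P, ⁅x, g⁆ = z}
  one_mem' := ⟨1, P.one_mem, by simp [commutatorElement_def]⟩
  mul_mem' := by
    rintro a b ⟨g, hg, rfl⟩ ⟨g', hg', rfl⟩
    refine ⟨g * g', P.mul_mem hg hg', ?_⟩
    have hc : g * ⁅x, g'⁆ = ⁅x, g'⁆ * g := (mem_zIn.mp (hcl x hx g' hg')).2 g hg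
    have : ⁅x, g * g'⁆ = ⁅x, g⁆ * (g * ⁅x, g'⁆) * g⁻¹ := by
      simp only [commutatorElement_def]; group
    rw [this, hc]; group
  inv_mem' := by
    rintro a ⟨g, hg, rfl⟩
    refine ⟨g⁻¹, P.inv_mem hg, ?_⟩
    have hc : g⁻¹ * ⁅x, g⁆ = ⁅x, g⁆ * g⁻¹ :=
      (mem_zIn.mp (hcl x hx g hg)).2 g⁻¹ (P.inv_mem hg)
    have : ⁅x, g⁻¹⁆ = (g⁻¹ * ⁅x, g⁆ * g)⁻¹ := by
      simp only [commutatorElement_def]; group
    rw [this, hc]; group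

theorem mem_commSub {X : Type*} [Group X] {P : Subgroup X} {x : X} {hx : x ∈ P}
    {hcl : ∀ a ∈ P, ∀ b ∈ P, ⁅a, b⁆ ∈ zIn P} {z : X} :
    z ∈ commSub P x hx hcl ↔ ∃ g ∈ P, ⁅x, g⁆ = z := Iff.rfl

theorem commSub_le_zIn {X : Type*} [Group X] {P : Subgroup X} {x : X} (hx : x ∈ P)
    (hcl : ∀ a ∈ P, ∀ b ∈ P, ⁅a, b⁆ ∈ zIn P) : commSub P x hx hcl ≤ zIn P := by
  rintro z ⟨g, hg, rfl⟩
  exact hcl x hx g hg

/-- `D := {y ∈ P | ∀ g ∈ P, ⁅y, g⁆ ∈ Z0}` -/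
def dSub {X : Type*} [Group X] (P Z0 : Subgroup X) (hZ0 : Z0 ≤ zIn P) : Subgroup X where
  carrier := {y | y ∈ P ∧ ∀ g ∈ P, ⁅y, g⁆ ∈ Z0}
  one_mem' := ⟨P.one_mem, fun g _ => by simp [commutatorElement_def, Z0.one_mem]⟩
  mul_mem' := by
    rintro y y' ⟨hy, hyc⟩ ⟨hy', hyc'⟩
    refine ⟨P.mul_mem hy hy', fun g hg => ?_⟩
    have hc : y * ⁅y', g⁆ = ⁅y', g⁆ * y := (mem_zIn.mp (hZ0 (hyc' g hg))).2 y hy
    have : ⁅y * y', g⁆ = (y * ⁅y', g⁆) * y⁻¹ * ⁅y, g⁆ := by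
      simp only [commutatorElement_def]; group
    rw [this, hc]
    have : ⁅y', g⁆ * y * y⁻¹ * ⁅y, g⁆ = ⁅y', g⁆ * ⁅y, g⁆ := by group
    rw [this]
    exact Z0.mul_mem (hyc' g hg) (hyc g hg)
  inv_mem' := by
    rintro y ⟨hy, hyc⟩
    refine ⟨P.inv_mem hy, fun g hg => ?_⟩
    have hc : y⁻¹ * (⁅y, g⁆)⁻¹ = (⁅y, g⁆)⁻¹ * y⁻¹ :=
      (mem_zIn.mp (hZ0 (Z0.inv_mem (hyc g hg)))).2 y⁻¹ (P.inv_mem hy)
    have : ⁅y⁻¹, g⁆ = (y⁻¹ * (⁅y, g⁆)⁻¹) * y := by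
      simp only [commutatorElement_def]; group
    rw [this, hc]
    have : (⁅y, g⁆)⁻¹ * y⁻¹ * y = (⁅y, g⁆)⁻¹ := by group
    rw [this]
    exact Z0.inv_mem (hyc g hg)

theorem opData_camina {X : Type*} [Group X] [Finite X] {p r : ℕ} [Fact p.Prime] {P K : Subgroup X}
    (h : OpData p r P K)
    (hfix : ∀ x ∈ P, (∀ k ∈ K, k * x = x * k) ↔ x ∈ zIn P)
    (hcl : ∀ x ∈ P, ∀ y ∈ P, ⁅x, y⁆ ∈ zIn P) (hZD : zIn P ≤ ⁅P, P⁆) :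
    ∀ x ∈ P, x ∉ zIn P → ∀ z ∈ zIn P, ∃ g ∈ P, ⁅x, g⁆ = z := by
  intro x hx hxZ z hz
  have hZP : zIn P ≤ P := fun a ha => (mem_zIn.mp ha).1
  set Z0 := commSub P x hx hcl with hZ0def
  have hZ0 : Z0 ≤ zIn P := commSub_le_zIn hx hcl
  set D := dSub P Z0 hZ0 with hDdef
  have hDP : D ≤ P := fun y hy => hy.1
  have hxD : x ∈ D := ⟨hx, fun g hg => ⟨g, hg, rfl⟩⟩
  -- `K` centralizes `zIn P`
  have hKZ : ∀ k ∈ K, ∀ w ∈ zIn P, k * w * k⁻¹ = w := by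
    intro k hk w hw
    have := (hfix w (hZP hw)).mpr hw k hk
    rw [this]; group
  -- `D` is `K`-invariant
  have hDinv : ∀ k ∈ K, ∀ y ∈ D, k * y * k⁻¹ ∈ D := by
    intro k hk y hy
    refine ⟨h.norm k hk y hy.1, fun g hg => ?_⟩
    have hg' : k⁻¹ * g * k ∈ P := by
      have := h.norm k⁻¹ (K.inv_mem hk) g hg
      simpa using this
    have hw : ⁅y, k⁻¹ * g * k⁆ ∈ Z0 := hy.2 _ hg'
    have : ⁅k * y * k⁻¹, g⁆ = k * ⁅y, k⁻¹ * g * k⁆ * k⁻¹ := by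
      simp only [commutatorElement_def]; group
    rw [this, hKZ k hk _ (hZ0 hw)]
    exact hw
  -- `D = P`
  have hDeq : D = P := by
    by_contra hne
    have hc := h.sub D K hDP le_rfl hDinv (Or.inl hne)
    exact hxZ ((hfix x hx).mp (fun k hk => hc k hk x hxD))
  -- all commutators lie in `Z0`
  have hcomm : ⁅P, P⁆ ≤ Z0 := by
    rw [Subgroup.commutator_le]
    intro a ha b hb
    have : a ∈ D := by rw [hDeq]; exact ha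
    exact this.2 b hb
  exact hcomm (hZD hz)

end Cfsg.Agent.Lib.Helper12.SPL
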