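import Mathlib
import Cfsg.Prelude.Def_Solvable
import Cfsg.Prelude.Def_Local
import Cfsg.Prelude.Def_SolvableStructure
import Cfsg.Agent.Lib.Helper41.SchmidtPLDefs

/-!
# K-SPL-SA4a (keystone 439406): `r ≠ 2` when `P` is nonabelian.
-/

set_option autoImplicit false

namespace Cfsg.Agent.Lib.Helper12.SPL

open Cfsg Cfsg.Agent.Lib.Helper41.SchmidtPL
open scoped commutatorElement

/-- the closure of a set of pairwise commuting elements is commutative -/
theorem closure_comm_of_comm {X : Type*} [Group X] (S : Set X)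
    (hS : ∀ a ∈ S, ∀ b ∈ S, a * b = b * a) :
    ∀ a ∈ Subgroup.closure S, ∀ b ∈ Subgroup.closure S, a * b = b * a := by
  have h1 : Subgroup.closure S ≤ Subgroup.centralizer S := by
    rw [Subgroup.closure_le]
    intro a ha
    rw [SetLike.mem_coe, Subgroup.mem_centralizer_iff]
    intro b hb
    exact hS b hb a ha
  have h2 : Subgroup.closure S ≤ Subgroup.centralizer (Subgroup.closure S : Set X) := by
    rw [Subgroup.closure_le]
    intro a ha
    rw [SetLike.mem_coe, Subgroup.mem_centralizer_iff]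
    intro b hb
    have := h1 hb
    rw [Subgroup.mem_centralizer_iff] at this
    exact (this a ha).symm
  intro a ha b hb
  have := h2 hb
  rw [Subgroup.mem_centralizer_iff] at this
  exact this a ha

/-- key step: if `K = ⟨k⟩` and conjugation by `k` and `k⁻¹` keeps `u` inside `⟨u⟩ Z(P)`, then `u ∈ Z(P)` -/
theorem mem_zIn_of_conj_mem {X : Type*} [Group X] [Finite X] {p r : ℕ} {P K : Subgroup X}
    (h : OpData p r P K) (hnab : ∃ x ∈ P, ∃ y ∈ P, x * y ≠ y * x)
    (hfix : ∀ x ∈ P, (∀ k ∈ K, k * x = x * k) ↔ x ∈ zIn P)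
    {k : X} (hk : k ∈ K) (hKk : K = Subgroup.zpowers k) {u : X} (hu : u ∈ P)
    (h1 : k * u * k⁻¹ ∈ Subgroup.closure (insert u (zIn P : Set X)))
    (h2 : k⁻¹ * u * k ∈ Subgroup.closure (insert u (zIn P : Set X))) :
    u ∈ zIn P := by
  have hZP : zIn P ≤ P := fun a ha => (mem_zIn.mp ha).1
  set L := Subgroup.closure (insert u (zIn P : Set X)) with hL
  have hLP : L ≤ P := by
    rw [hL, Subgroup.closure_le]
    intro a ha
    rcases ha with rfl | ha
    · exact hu
    · exact hZP ha
  have huL : u ∈ L := Subgroup.subset_closure (Set.mem_insert _ _)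
  have hZL : ∀ z ∈ zIn P, z ∈ L := fun z hz =>
    Subgroup.subset_closure (Set.mem_insert_of_mem _ hz)
  -- `L` is commutative
  have hLc : ∀ a ∈ L, ∀ b ∈ L, a * b = b * a := by
    apply closure_comm_of_comm
    intro a ha b hb
    rcases ha with rfl | ha
    · rcases hb with rfl | hb
      · rfl
      · exact (mem_zIn.mp hb).2 a hu
    · rcases hb with rfl | hb
      · exact ((mem_zIn.mp ha).2 b hu).symm
      · exact (mem_zIn.mp hb).2 a (hZP ha)
  -- `k` fixes `zIn P` pointwise
  have hkz : ∀ z ∈ zIn P, k * z * k⁻¹ = z := by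
    intro z hz
    have := (hfix z (hZP hz)).mpr hz k hk
    rw [this]; group
  have hkz' : ∀ z ∈ zIn P, k⁻¹ * z * k = z := by
    intro z hz
    have := (hfix z (hZP hz)).mpr hz k hk
    calc k⁻¹ * z * k = k⁻¹ * (z * k) := by group
      _ = k⁻¹ * (k * z) := by rw [this]
      _ = z := by group
  -- conjugation by `k` and `k⁻¹` maps `L` into `L`
  have hc1 : ∀ l ∈ L, k * l * k⁻¹ ∈ L := by
    intro l hl
    induction hl using Subgroup.closure_induction with
    | mem a ha =>
      rcases ha with rfl | ha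
      · exact h1
      · rw [hkz a ha]; exact hZL a ha
    | one => simp [L.one_mem]
    | mul a b _ _ iha ihb =>
      have : k * (a * b) * k⁻¹ = (k * a * k⁻¹) * (k * b * k⁻¹) := by group
      rw [this]; exact L.mul_mem iha ihb
    | inv a _ iha =>
      have : k * a⁻¹ * k⁻¹ = (k * a * k⁻¹)⁻¹ := by group
      rw [this]; exact L.inv_mem iha
  have hc2 : ∀ l ∈ L, k⁻¹ * l * k ∈ L := by
    intro l hl
    induction hl using Subgroup.closure_induction with
    | mem a ha =>
      rcases ha with rfl | ha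
      · exact h2
      · rw [hkz' a ha]; exact hZL a ha
    | one => simp [L.one_mem]
    | mul a b _ _ iha ihb =>
      have : k⁻¹ * (a * b) * k = (k⁻¹ * a * k) * (k⁻¹ * b * k) := by group
      rw [this]; exact L.mul_mem iha ihb
    | inv a _ iha =>
      have : k⁻¹ * a⁻¹ * k = (k⁻¹ * a * k)⁻¹ := by group
      rw [this]; exact L.inv_mem iha
  -- `k` normalizes `L`
  have hkN : k ∈ Subgroup.normalizer (L : Set X) := by
    rw [Subgroup.mem_normalizer_iff]
    intro l
    constructor
    · exact hc1 l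
    · intro hl
      have := hc2 _ hl
      have e : k⁻¹ * (k * l * k⁻¹) * k = l := by group
      rwa [e] at this
  have hKN : K ≤ Subgroup.normalizer (L : Set X) := by
    rw [hKk, Subgroup.zpowers_le]; exact hkN
  have hinv : ∀ k' ∈ K, ∀ l ∈ L, k' * l * k'⁻¹ ∈ L := by
    intro k' hk' l hl
    have := hKN hk'
    rw [Subgroup.mem_normalizer_iff] at this
    exact (this l).mp hl
  by_cases hne : L = P
  · exfalso
    obtain ⟨x, hx, y, hy, hxy⟩ := hnab
    rw [← hne] at hx hy
    exact hxy (hLc x hx y hy)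
  · have hc := h.sub L K hLP le_rfl hinv (Or.inl hne)
    exact (hfix u hu).mp (fun k' hk' => hc k' hk' u huL)

theorem opData_r_ne_two {X : Type*} [Group X] [Finite X] {p r : ℕ} [Fact p.Prime] {P K : Subgroup X}
    (h : OpData p r P K) (hnab : ∃ x ∈ P, ∃ y ∈ P, x * y ≠ y * x)
    (hfix : ∀ x ∈ P, (∀ k ∈ K, k * x = x * k) ↔ x ∈ zIn P)
    (hcl : ∀ x ∈ P, ∀ y ∈ P, ⁅x, y⁆ ∈ zIn P) :
    r ≠ 2 := by
  intro hr2
  have hZP : zIn P ≤ P := fun a ha => (mem_zIn.mp ha).1
  obtain ⟨k, hk, x0, hx0, hkx0⟩ := h.nontriv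
  -- `K = ⟨k⟩`
  have hKk : K = Subgroup.zpowers k := by
    by_contra hne
    have hle : Subgroup.zpowers k ≤ K := by rw [Subgroup.zpowers_le]; exact hk
    have := h.sub P (Subgroup.zpowers k) le_rfl hle
      (fun k' hk' x hx => h.norm k' (hle hk') x hx) (Or.inr (fun e => hne e.symm))
    exact hkx0 (this k (Subgroup.mem_zpowers k) x0 hx0)
  -- `k ^ 2` centralizes `P`
  have hk2 : ∀ x ∈ P, k ^ 2 * x = x * k ^ 2 := by
    have hle : Subgroup.zpowers (k ^ 2) ≤ K := by
      rw [Subgroup.zpowers_le]; exact K.pow_mem hk 2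
    have hne : Subgroup.zpowers (k ^ 2) ≠ K := by
      intro e
      have hkmem : k ∈ Subgroup.zpowers (k ^ 2) := by rw [e]; exact hk
      obtain ⟨n, hn⟩ := Subgroup.mem_zpowers_iff.mp hkmem
      -- `k ^ (2 n - 1) = 1`
      have h1 : k ^ (2 * n - 1 : ℤ) = 1 := by
        have : (k ^ 2) ^ n = k ^ (2 * n : ℤ) := by
          rw [zpow_mul]; norm_cast
        rw [this] at hn
        rw [zpow_sub, zpow_one, hn]; group
      -- order of `k` is a power of `2`
      obtain ⟨j, hj⟩ := h.hK ⟨k, hk⟩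
      have hj' : k ^ (r ^ j) = 1 := by
        have := congrArg Subtype.val hj
        simpa using this
      have hd1 : orderOf k ∣ 2 ^ j := by
        rw [← hr2]; exact orderOf_dvd_of_pow_eq_one hj'
      have hd2 : (orderOf k : ℤ) ∣ 2 * n - 1 := orderOf_dvd_iff_zpow_eq_one.mpr h1
      obtain ⟨i, _, hi⟩ := (Nat.dvd_prime_pow Nat.prime_two).mp hd1
      have hi0 : i = 0 := by
        by_contra hi0
        have : (2 : ℤ) ∣ 2 * n - 1 := by
          refine dvd_trans ?_ hd2
          rw [hi]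
          have : (2 : ℕ) ∣ 2 ^ i := dvd_pow_self 2 hi0
          exact_mod_cast this
        omega
      rw [hi0, pow_zero, orderOf_eq_one_iff] at hi
      apply hkx0
      rw [hi]; simp
    have := h.sub P (Subgroup.zpowers (k ^ 2)) le_rfl hle
      (fun k' hk' x hx => h.norm k' (hle hk') x hx) (Or.inr hne)
    intro x hx
    exact this (k ^ 2) (Subgroup.mem_zpowers _) x hx
  -- hence `k⁻¹ x k = k x k⁻¹`
  have hkk : ∀ x ∈ P, k⁻¹ * x * k = k * x * k⁻¹ := by
    intro x hx
    have := hk2 x hx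
    calc k⁻¹ * x * k = k⁻¹ * (x * k ^ 2) * k⁻¹ := by group
      _ = k⁻¹ * (k ^ 2 * x) * k⁻¹ := by rw [this]
      _ = k * x * k⁻¹ := by group
  -- `x * (k x k⁻¹) ∈ Z` for all `x ∈ P`
  have hstep : ∀ x ∈ P, x * (k * x * k⁻¹) ∈ zIn P := by
    intro x hx
    set x' := k * x * k⁻¹ with hx'
    have hx'P : x' ∈ P := h.norm k hk x hx
    have hc : ⁅x', x⁆ ∈ zIn P := hcl x' hx'P x hx
    have hkx' : k * x' * k⁻¹ = x := by
      rw [hx']
      have h2 : k * k * x = x * (k * k) := by
        have := hk2 x hx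
        simpa [pow_two] using this
      have e : k * (k * x * k⁻¹) * k⁻¹ = (k * k * x) * (k⁻¹ * k⁻¹) := by
        simp only [mul_assoc]
      rw [e, h2]
      simp [mul_assoc]
    have hconj : k * (x * x') * k⁻¹ = ⁅x', x⁆ * (x * x') := by
      have : k * (x * x') * k⁻¹ = (k * x * k⁻¹) * (k * x' * k⁻¹) := by group
      rw [this, hkx', ← hx']
      simp only [commutatorElement_def]; group
    have hmem : ⁅x', x⁆ * (x * x') ∈ Subgroup.closure (insert (x * x') (zIn P : Set X)) :=
      Subgroup.mul_mem _ (Subgroup.subset_closure (Set.mem_insert_of_mem _ hc))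
        (Subgroup.subset_closure (Set.mem_insert _ _))
    apply mem_zIn_of_conj_mem h hnab hfix hk hKk (P.mul_mem hx hx'P)
    · rw [hconj]; exact hmem
    · rw [hkk _ (P.mul_mem hx hx'P), hconj]; exact hmem
  -- take `x ∉ Z`
  obtain ⟨x, hx, y, hy, hxy⟩ := hnab
  have hxZ : x ∉ zIn P := fun hz => hxy ((mem_zIn.mp hz).2 y hy).symm
  apply hxZ
  have hu := hstep x hx
  have hmem : k * x * k⁻¹ ∈ Subgroup.closure (insert x (zIn P : Set X)) := by
    have : k * x * k⁻¹ = x⁻¹ * (x * (k * x * k⁻¹)) := by group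
    rw [this]
    exact Subgroup.mul_mem _ (Subgroup.inv_mem _ (Subgroup.subset_closure (Set.mem_insert _ _)))
      (Subgroup.subset_closure (Set.mem_insert_of_mem _ hu))
  apply mem_zIn_of_conj_mem h ⟨x, hx, y, hy, hxy⟩ hfix hk hKk hx
  · exact hmem
  · rw [hkk x hx]; exact hmem

end Cfsg.Agent.Lib.Helper12.SPL
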