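import Mathlib
import Cfsg.Prelude.Def_Local
import Cfsg.Prelude.Def_Balance

/-!
# Small general lemmas for S3153 (helper12)
-/

set_option autoImplicit false
set_option linter.style.haveILetI false
universe u

namespace Cfsg.Agent.Lib.Helper12.STD

open Cfsg

variable {X : Type u} [Group X]

/-- elements of `P ⊔ C(P)` are products -/
theorem mem_sup_centralizer (P : Subgroup X) {x : X}
    (hx : x ∈ P ⊔ Subgroup.centralizer (P : Set X)) :
    ∃ p ∈ P, ∃ k ∈ Subgroup.centralizer (P : Set X), x = p * k := by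
  let T : Subgroup X :=
    { carrier := {x | ∃ p ∈ P, ∃ k ∈ Subgroup.centralizer (P : Set X), x = p * k}
      one_mem' := ⟨1, P.one_mem, 1, Subgroup.one_mem _, (mul_one 1).symm⟩
      mul_mem' := by
        rintro a b ⟨p₁, hp₁, k₁, hk₁, rfl⟩ ⟨p₂, hp₂, k₂, hk₂, rfl⟩
        refine ⟨p₁ * p₂, P.mul_mem hp₁ hp₂, k₁ * k₂, Subgroup.mul_mem _ hk₁ hk₂, ?_⟩
        have h := Subgroup.mem_centralizer_iff.mp hk₁ p₂ hp₂
        calc p₁ * k₁ * (p₂ * k₂) = p₁ * (k₁ * p₂) * k₂ := by group
          _ = p₁ * (p₂ * k₁) * k₂ := by rw [h]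
          _ = p₁ * p₂ * (k₁ * k₂) := by group
      inv_mem' := by
        rintro a ⟨p, hp, k, hk, rfl⟩
        refine ⟨p⁻¹, P.inv_mem hp, k⁻¹, Subgroup.inv_mem _ hk, ?_⟩
        have h := Subgroup.mem_centralizer_iff.mp (Subgroup.inv_mem _ hk) p⁻¹ (P.inv_mem hp)
        rw [mul_inv_rev, h] }
  have h1 : P ≤ T := fun p hp => ⟨p, hp, 1, Subgroup.one_mem _, (mul_one p).symm⟩
  have h2 : Subgroup.centralizer (P : Set X) ≤ T :=
    fun k hk => ⟨1, P.one_mem, k, hk, (one_mul k).symm⟩
  exact (sup_le h1 h2) hx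

/-- an element normalizing a finite subgroup "one way" normalizes it -/
theorem mem_normalizer_of_conj_mem [Finite X] (S : Subgroup X) (g : X)
    (h : ∀ s ∈ S, g * s * g⁻¹ ∈ S) : g ∈ Subgroup.normalizer (S : Set X) := by
  have hle : S.map (MulAut.conj g).toMonoidHom ≤ S := by
    rintro _ ⟨s, hs, rfl⟩
    exact h s hs
  have hcard : Nat.card (S.map (MulAut.conj g).toMonoidHom) = Nat.card S :=
    Subgroup.card_map_of_injective (MulAut.conj g).injective
  have heq : S.map (MulAut.conj g).toMonoidHom = S :=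
    Subgroup.eq_of_le_of_card_ge hle (le_of_eq hcard.symm)
  rw [Subgroup.mem_normalizer_iff]
  intro x
  constructor
  · exact h x
  · intro hx
    rw [← heq] at hx
    obtain ⟨y, hy, hyx⟩ := hx
    have : y = x := by
      have h1 : g * y * g⁻¹ = g * x * g⁻¹ := hyx
      have h2 := mul_right_cancel h1
      exact mul_left_cancel h2
    rw [← this]; exact hy

end Cfsg.Agent.Lib.Helper12.STD
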