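import Mathlib
import Cfsg.Prelude.Def_Local
import Cfsg.Prelude.Def_Balance
import Cfsg.Agent.Lib.Helper12.StdCoreA
import Cfsg.Agent.Lib.Helper30.RankOneComp
import Cfsg.Agent.Lib.Helper60.TwoRankOne

/-!
# S3153, part A: the involution `u ∈ P` (helper12)
-/

set_option autoImplicit false
set_option linter.style.haveILetI false
set_option maxHeartbeats 1000000
universe u

namespace Cfsg.Agent.Lib.Helper12.STD

open Cfsg

variable {X : Type u} [Group X] [Finite X]

/-- tight embedding: the centralizer of an involution of `C(P)` normalizes `P` -/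
theorem mem_normalizer_of_commute (P : Subgroup X) (hP : IsStandardSubgroup P) (t : X)
    (ht : orderOf t = 2) (htP : t ∈ Subgroup.centralizer (P : Set X)) (c : X)
    (hc : c * t = t * c) : c ∈ Subgroup.normalizer (P : Set X) := by
  rw [hP.2.2.2]
  by_contra hcn
  have hodd := hP.2.1.2 c hcn
  have hmem : t ∈ Subgroup.centralizer (P : Set X) ⊓
      (Subgroup.centralizer (P : Set X)).map (MulAut.conj c).toMonoidHom := by
    refine ⟨htP, ⟨t, htP, ?_⟩⟩
    show c * t * c⁻¹ = t
    rw [hc, mul_inv_cancel_right]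
  have hdvd : 2 ∣ Nat.card ↥(Subgroup.centralizer (P : Set X) ⊓
      (Subgroup.centralizer (P : Set X)).map (MulAut.conj c).toMonoidHom) := by
    rw [← ht]; exact Subgroup.orderOf_dvd_natCard _ hmem
  exact (Nat.not_even_iff_odd.mpr hodd) (even_iff_two_dvd.mpr hdvd)

theorem exists_invol (P : Subgroup X) (hP : IsStandardSubgroup P)
    (hr : PRankLE 2 1 ↥(Subgroup.centralizer (P : Set X)))
    (hZ : Odd (Nat.card ↥(Subgroup.center ↥P)))
    (N : Subgroup X) (hN : N = Subgroup.normalizer (P : Set X))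
    (S : Sylow 2 ↥N) (t : X) (ht : orderOf t = 2)
    (htS : t ∈ (S : Subgroup ↥N).map N.subtype)
    (htP : t ∈ Subgroup.centralizer (P : Set X))
    (g : X)
    (hgN : ∀ s ∈ (S : Subgroup ↥N).map N.subtype,
      g * s * g⁻¹ ∈ (S : Subgroup ↥N).map N.subtype)
    (hgS : g ∉ (S : Subgroup ↥N).map N.subtype)
    (hg2 : g ^ 2 ∈ (S : Subgroup ↥N).map N.subtype)
    (hgt : g * t * g⁻¹ ∈ P ⊔ Subgroup.centralizer (P : Set X)) :
    ∃ s u : X, s = g * t * g⁻¹ ∧ s * s = 1 ∧ t * s = s * t ∧ s ≠ t ∧ g * s * g⁻¹ = t ∧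
      u ∈ P ∧ orderOf u = 2 ∧ (t * s = u ∨ t * s = t * u) := by
  classical
  haveI : Fact (Nat.Prime 2) := ⟨Nat.prime_two⟩
  set K : Subgroup X := Subgroup.centralizer (P : Set X) with hK
  set S' : Subgroup X := (S : Subgroup ↥N).map N.subtype with hS'
  have hS'N : S' ≤ N := Subgroup.map_subtype_le _
  have hS'p : IsPGroup 2 S' := S.2.map _
  have hmemS' : ∀ x : X, x ∈ S' ↔ ∃ h : x ∈ N, (⟨x, h⟩ : ↥N) ∈ (S : Subgroup ↥N) := by
    intro x
    constructor
    · rintro ⟨y, hy, rfl⟩
      exact ⟨y.2, hy⟩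
    · rintro ⟨h, hy⟩
      exact ⟨⟨x, h⟩, hy, rfl⟩
  have htt : t * t = 1 := by rw [← pow_two, ← ht]; exact pow_orderOf_eq_one t
  have hNK : N = Subgroup.normalizer (K : Set X) := hN.trans hP.2.2.2
  have hrank : ∀ E : Subgroup ↥K, ¬ IsKleinFour E :=
    Cfsg.Agent.Lib.Helper30.RankOneComp.not_isKleinFour_of_pRankLE hr
  -- involutions of `S' ∩ K` are equal to `t`
  have huniq : ∀ y ∈ S', y ∈ K → orderOf y = 2 → y = t := by
    intro y hyS hyK hy
    have h2 : IsPGroup 2 ↥((S' ⊓ K).subgroupOf K) := (hS'p.to_inf_left).comap_subtype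
    have h3 := Cfsg.Agent.Lib.Helper60.TwoRankOne.involution_unique hrank ((S' ⊓ K).subgroupOf K) h2
      (a := ⟨y, hyK⟩) (b := ⟨t, htP⟩) (Subgroup.mem_subgroupOf.mpr ⟨hyS, hyK⟩)
      (Subgroup.mem_subgroupOf.mpr ⟨htS, htP⟩)
      (by rw [Subgroup.orderOf_mk]; exact hy) (by rw [Subgroup.orderOf_mk]; exact ht)
    exact congrArg Subtype.val h3
  have hconj_order : ∀ x y : X, orderOf (x * y * x⁻¹) = orderOf y := by
    intro x y
    exact orderOf_injective (MulAut.conj x).toMonoidHom (MulAut.conj x).injective y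
  -- `t` is central in `S'`
  have htZ : ∀ x ∈ S', x * t = t * x := by
    intro x hx
    have h1 : x * t * x⁻¹ ∈ S' := S'.mul_mem (S'.mul_mem hx htS) (S'.inv_mem hx)
    have h2 : x * t * x⁻¹ ∈ K := by
      have hxN : x ∈ Subgroup.normalizer (K : Set X) := hNK ▸ hS'N hx
      exact (Subgroup.mem_normalizer_iff.mp hxN t).mp htP
    have h3 : orderOf (x * t * x⁻¹) = 2 := by rw [hconj_order]; exact ht
    have h4 := huniq _ h1 h2 h3
    calc x * t = x * t * x⁻¹ * x := by group
      _ = t * x := by rw [h4]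
  set s : X := g * t * g⁻¹ with hs
  have hsS : s ∈ S' := hgN t htS
  have hso : orderOf s = 2 := by rw [hs, hconj_order]; exact ht
  have hss : s * s = 1 := by rw [← pow_two, ← hso]; exact pow_orderOf_eq_one s
  have hts : t * s = s * t := (htZ s hsS).symm
  -- `s ≠ t`
  have hst : s ≠ t := by
    intro h
    have hgc : g * t = t * g := by
      calc g * t = g * t * g⁻¹ * g := by group
        _ = t * g := by rw [← hs, h]
    have hgN' : g ∈ N := hN ▸ mem_normalizer_of_commute P hP t ht htP g hgc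
    set g' : ↥N := ⟨g, hgN'⟩ with hg'
    have hg'2 : g' ^ 2 ∈ (S : Subgroup ↥N) := by
      obtain ⟨h, hy⟩ := (hmemS' _).mp hg2
      exact hy
    have hz : IsPGroup 2 ↥(Subgroup.zpowers g') := by
      obtain ⟨k, hk⟩ := S.2 ⟨g' ^ 2, hg'2⟩
      have hk' : (g' ^ 2) ^ 2 ^ k = 1 := by
        have := congrArg Subtype.val hk
        simpa using this
      rw [← pow_mul, ← pow_succ'] at hk'
      have hdvd : orderOf g' ∣ 2 ^ (k + 1) := orderOf_dvd_of_pow_eq_one hk'
      obtain ⟨j, _, hj⟩ := (Nat.dvd_prime_pow Nat.prime_two).mp hdvd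
      exact IsPGroup.of_card (n := j) (by rw [Nat.card_zpowers, hj])
    have hg'n : g' ∈ Subgroup.normalizer ((S : Subgroup ↥N) : Set ↥N) := by
      apply mem_normalizer_of_conj_mem
      intro y hy
      have h1 : g * (y : X) * g⁻¹ ∈ S' := hgN _ ⟨y, hy, rfl⟩
      obtain ⟨h, hy'⟩ := (hmemS' _).mp h1
      exact hy'
    have hzn : Subgroup.zpowers g' ≤ Subgroup.normalizer ((S : Subgroup ↥N) : Set ↥N) :=
      Subgroup.zpowers_le.mpr hg'n
    have hsup := IsPGroup.to_sup_of_normal_right' hz S.2 hzn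
    have heq := S.is_maximal' hsup le_sup_right
    have hg'S : g' ∈ (S : Subgroup ↥N) := by
      rw [← heq]; exact (le_sup_left : Subgroup.zpowers g' ≤ _) (Subgroup.mem_zpowers g')
    exact hgS ⟨g', hg'S, rfl⟩
  have hgsg : g * s * g⁻¹ = t := by
    have h2 : g ^ 2 * t = t * g ^ 2 := htZ _ hg2
    calc g * s * g⁻¹ = g ^ 2 * t * (g ^ 2)⁻¹ := by rw [hs, pow_two]; group
      _ = t := by rw [h2, mul_inv_cancel_right]
  -- decomposition of `s`
  obtain ⟨p, hp, k, hk, hspk⟩ := mem_sup_centralizer P hgt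
  have hpk : p * k = k * p := Subgroup.mem_centralizer_iff.mp hk p hp
  set m := Nat.card ↥(Subgroup.center ↥P) with hm
  have hpp : p * p = (k * k)⁻¹ := by
    have h1 : p * k * (p * k) = 1 := by rw [← hspk]; exact hss
    have h2 : p * p * (k * k) = 1 := by
      calc p * p * (k * k) = p * (p * k) * k := by group
        _ = p * (k * p) * k := by rw [hpk]
        _ = p * k * (p * k) := by group
        _ = 1 := h1
    exact eq_inv_of_mul_eq_one_left h2
  have hppK : p * p ∈ K := by rw [hpp]; exact K.inv_mem (K.mul_mem hk hk)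
  have hppZ : (⟨p * p, P.mul_mem hp hp⟩ : ↥P) ∈ Subgroup.center ↥P := by
    rw [Subgroup.mem_center_iff]
    rintro ⟨q, hq⟩
    apply Subtype.ext
    exact Subgroup.mem_centralizer_iff.mp hppK q hq
  have hppm : (p * p) ^ m = 1 := by
    have h1 : (⟨⟨p * p, P.mul_mem hp hp⟩, hppZ⟩ : ↥(Subgroup.center ↥P)) ^ m = 1 :=
      pow_card_eq_one'
    have h2 := congrArg (fun z : ↥(Subgroup.center ↥P) => ((z : ↥P) : X)) h1
    simpa using h2
  set u : X := p ^ m with hu
  have huP : u ∈ P := P.pow_mem hp m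
  have huu : u * u = 1 := by
    rw [hu, ← pow_add, ← two_mul, pow_mul, pow_two]; exact hppm
  set k' : X := u⁻¹ * s with hk'
  obtain ⟨j, hj⟩ := hZ
  have hu2 : u = (p * p) ^ j * p := by
    rw [hu, hj, pow_succ, pow_mul, pow_two]
  have hk'K : k' ∈ K := by
    have hqp : (p * p) ^ j * p = p * (p * p) ^ j :=
      (((Commute.refl p).mul_left (Commute.refl p)).pow_left j).eq
    have h1 : k' = ((p * p) ^ j)⁻¹ * k := by
      rw [hk', hu2, hspk, hqp]
      generalize (p * p) ^ j = q
      group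
    rw [h1]; exact K.mul_mem (K.inv_mem (K.pow_mem hppK j)) hk
  have hut : u * t = t * u := Subgroup.mem_centralizer_iff.mp htP u huP
  have hus : u * s = s * u := by
    have hps : Commute p s := by
      show p * s = s * p
      rw [hspk]
      calc p * (p * k) = p * (k * p) := by rw [hpk]
        _ = p * k * p := by group
    exact (hps.pow_left m).eq
  have hk't : k' * t = t * k' := by
    have h1 : Commute u⁻¹ t := (show Commute u t from hut).inv_left
    have h2 : Commute s t := hts.symm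
    exact (h1.mul_left h2).eq
  have hk'k' : k' * k' = 1 := by
    have h1 : Commute u⁻¹ s := (show Commute u s from hus).inv_left
    calc k' * k' = u⁻¹ * s * (u⁻¹ * s) := rfl
      _ = u⁻¹ * (s * u⁻¹) * s := by group
      _ = u⁻¹ * (u⁻¹ * s) * s := by rw [h1.eq]
      _ = (u * u)⁻¹ * (s * s) := by group
      _ = 1 := by rw [huu, hss]; group
  have hk'cases : k' = 1 ∨ k' = t := by
    by_cases h1 : k' = 1
    · exact Or.inl h1
    · right
      have ho : orderOf k' = 2 := orderOf_eq_prime (by rw [pow_two]; exact hk'k') h1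
      have h3 := Cfsg.Agent.Lib.Helper60.TwoRankOne.eq_of_commuting_involutions hrank
        (a := ⟨k', hk'K⟩) (b := ⟨t, htP⟩) (by rw [Subgroup.orderOf_mk]; exact ho)
        (by rw [Subgroup.orderOf_mk]; exact ht) (Subtype.ext hk't)
      exact congrArg Subtype.val h3
  have hsuk : s = u * k' := by rw [hk']; group
  have hs1 : s ≠ 1 := by
    intro h; rw [h, orderOf_one] at hso; omega
  have hu1 : u ≠ 1 := by
    intro h
    rcases hk'cases with h' | h'
    · apply hs1; rw [hsuk, h, h', mul_one]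
    · apply hst; rw [hsuk, h, h', one_mul]
  have huo : orderOf u = 2 := orderOf_eq_prime (by rw [pow_two]; exact huu) hu1
  refine ⟨s, u, rfl, hss, hts, hst, hgsg, huP, huo, ?_⟩
  rcases hk'cases with h | h
  · right
    rw [hsuk, h, mul_one]
  · left
    rw [hsuk, h]
    calc t * (u * t) = t * (t * u) := by rw [hut]
      _ = u := by rw [← mul_assoc, htt, one_mul]

end Cfsg.Agent.Lib.Helper12.STD
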