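import Mathlib
import Cfsg.Prelude.Def_Local
import Cfsg.Prelude.Def_Balance
import Cfsg.Agent.Lib.Helper12.StdCoreB
import Cfsg.Agent.Lib.Helper12.FourGroup
import Cfsg.Agent.Lib.Helper12.DLayerB
import Cfsg.Agent.Lib.Helper30.Generation
import Cfsg.Agent.Lib.Helper30.Components
import Cfsg.Agent.Lib.Helper29.Quasisimple
import Cfsg.Agent.Lib.Helper29.PCompUnique
import Cfsg.Agent.Lib.Helper29.PComponent
import Cfsg.Agent.Lib.Helper70.LBCov

/-!
# S3153, part B: a standard subgroup with an involution centralizes the core (helper12)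
-/

set_option autoImplicit false
set_option linter.style.haveILetI false
set_option maxHeartbeats 1000000
universe u

namespace Cfsg.Agent.Lib.Helper12.STD

open Cfsg
open scoped commutatorElement

variable {X : Type u} [Group X] [Finite X]

theorem not_le_core (P : Subgroup X) (u : X) (huP : u ∈ P) (huo : orderOf u = 2) :
    ¬ P ≤ oddCore X := by
  haveI : Fact (Nat.Prime 2) := ⟨Nat.prime_two⟩
  intro h
  have h1 : 2 ∣ Nat.card ↥(oddCore X) := by
    rw [← huo]; exact Subgroup.orderOf_dvd_natCard _ (h huP)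
  exact Cfsg.Agent.Lib.Helper29.not_dvd_card_pPrimeCore 2 h1

theorem inf_core_le_centralizer (P : Subgroup X) (hqs : IsQuasisimple ↥P)
    (hPW : ¬ P ≤ oddCore X) :
    P ⊓ oddCore X ≤ Subgroup.centralizer (P : Set X) := by
  haveI hWn : (oddCore X).Normal := inferInstance
  obtain ⟨_, _, h3⟩ := Cfsg.Agent.Lib.Helper30.qs_subgroup hqs
  have hnorm : P ≤ Subgroup.normalizer ((P ⊓ oddCore X : Subgroup X) : Set X) := by
    intro p hp
    apply mem_normalizer_of_conj_mem
    rintro x ⟨hx1, hx2⟩
    exact ⟨P.mul_mem (P.mul_mem hp hx1) (P.inv_mem hp), hWn.conj_mem x hx2 p⟩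
  rcases h3 (P ⊓ oddCore X) inf_le_left hnorm with h | h
  · exfalso
    apply hPW
    rw [← h]
    exact inf_le_right
  · exact h

theorem core_inf_centralizer_le (P : Subgroup X) (hP : IsStandardSubgroup P)
    (hPW : ¬ P ≤ oddCore X)
    (t : X) (ht : orderOf t = 2) (htP : t ∈ Subgroup.centralizer (P : Set X)) :
    oddCore X ⊓ Subgroup.centralizer ({t} : Set X) ≤ Subgroup.centralizer (P : Set X) := by
  haveI hWn : (oddCore X).Normal := inferInstance
  set W : Subgroup X := oddCore X with hW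
  set D : Subgroup X := W ⊓ Subgroup.centralizer ({t} : Set X) with hD
  have hDN : D ≤ Subgroup.normalizer (P : Set X) := by
    intro d hd
    apply mem_normalizer_of_commute P hP t ht htP d
    exact Subgroup.mem_centralizer_singleton_iff.mp hd.2
  have h1 : ⁅D, P⁆ ≤ P ⊓ W := by
    rw [Subgroup.commutator_le]
    intro d hd p hp
    rw [commutatorElement_def]
    constructor
    · have := (Subgroup.mem_normalizer_iff.mp (hDN hd) p).mp hp
      exact P.mul_mem this (P.inv_mem hp)
    · have h2 : p * d⁻¹ * p⁻¹ ∈ W := hWn.conj_mem _ (W.inv_mem hd.1) p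
      have : d * p * d⁻¹ * p⁻¹ = d * (p * d⁻¹ * p⁻¹) := by group
      rw [this]; exact W.mul_mem hd.1 h2
  have h2 : ⁅D, P⁆ ≤ Subgroup.centralizer (P : Set X) :=
    h1.trans (inf_core_le_centralizer P hP.1 hPW)
  have h3 : ⁅⁅D, P⁆, P⁆ = ⊥ := Subgroup.commutator_eq_bot_iff_le_centralizer.mpr h2
  have h4 : ⁅⁅P, D⁆, P⁆ = ⊥ := by rw [Subgroup.commutator_comm P D]; exact h3
  have h5 : ⁅⁅P, P⁆, D⁆ = ⊥ := Subgroup.commutator_commutator_eq_bot_of_rotate h4 h3
  rw [(Cfsg.Agent.Lib.Helper30.qs_subgroup hP.1).1] at h5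
  have h6 : P ≤ Subgroup.centralizer (D : Set X) :=
    Subgroup.commutator_eq_bot_iff_le_centralizer.mp h5
  exact Subgroup.le_centralizer_iff.mp h6

theorem core_le_centralizer_mul (P : Subgroup X) (hP : IsStandardSubgroup P)
    (hPW : ¬ P ≤ oddCore X)
    (t : X) (ht : orderOf t = 2) (htP : t ∈ Subgroup.centralizer (P : Set X))
    (g s u : X) (hs : s = g * t * g⁻¹) (hss : s * s = 1) (hts : t * s = s * t) (hst : s ≠ t)
    (hgsg : g * s * g⁻¹ = t) (huP : u ∈ P) (hcase : t * s = u ∨ t * s = t * u) :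
    oddCore X ≤ Subgroup.centralizer ({t * s} : Set X) := by
  haveI : Fact (Nat.Prime 2) := ⟨Nat.prime_two⟩
  haveI hWn : (oddCore X).Normal := inferInstance
  set W : Subgroup X := oddCore X with hW
  have htt : t * t = 1 := by rw [← pow_two, ← ht]; exact pow_orderOf_eq_one t
  have ht1 : t ≠ 1 := by
    intro h; rw [h, orderOf_one] at ht; omega
  have hs1 : s ≠ 1 := by
    intro h
    apply ht1
    have : t = g⁻¹ * s * g := by rw [hs]; group
    rw [this, h]; group
  have hD := core_inf_centralizer_le P hP hPW t ht htP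
  have hDt : ∀ x ∈ W, t * x = x * t → (t * s) * x = x * (t * s) := by
    intro x hx hxt
    have hxP : x ∈ Subgroup.centralizer (P : Set X) :=
      hD ⟨hx, Subgroup.mem_centralizer_singleton_iff.mpr hxt.symm⟩
    rcases hcase with h | h
    · rw [h]
      exact Subgroup.mem_centralizer_iff.mp hxP u huP
    · have hsu : s = u := mul_left_cancel h
      have hsx : s * x = x * s := by
        rw [hsu]; exact Subgroup.mem_centralizer_iff.mp hxP u huP
      calc t * s * x = t * (s * x) := by group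
        _ = t * (x * s) := by rw [hsx]
        _ = (t * x) * s := by group
        _ = (x * t) * s := by rw [hxt]
        _ = x * (t * s) := by group
  have hDs : ∀ x ∈ W, s * x = x * s → (t * s) * x = x * (t * s) := by
    intro x hx hxs
    set y : X := g⁻¹ * x * g with hy
    have hyW : y ∈ W := by
      have := hWn.conj_mem x hx g⁻¹
      rwa [inv_inv] at this
    have htg : t = g⁻¹ * s * g := by rw [hs]; group
    have hyt : t * y = y * t := by
      calc t * y = g⁻¹ * (s * x) * g := by rw [htg, hy]; group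
        _ = g⁻¹ * (x * s) * g := by rw [hxs]
        _ = y * t := by rw [htg, hy]; group
    have hyP : y ∈ Subgroup.centralizer (P : Set X) :=
      hD ⟨hyW, Subgroup.mem_centralizer_singleton_iff.mpr hyt.symm⟩
    have hxy : x = g * y * g⁻¹ := by rw [hy]; group
    rcases hcase with h | h
    · rw [h]
      have huy : u * y = y * u := Subgroup.mem_centralizer_iff.mp hyP u huP
      have hgu : g * u * g⁻¹ = u := by
        calc g * u * g⁻¹ = (g * t * g⁻¹) * (g * s * g⁻¹) := by rw [← h]; group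
          _ = s * t := by rw [← hs, hgsg]
          _ = u := by rw [← hts, h]
      have hgu' : g * u = u * g := by
        calc g * u = g * u * g⁻¹ * g := by group
          _ = u * g := by rw [hgu]
      have hgu'' : u * g⁻¹ = g⁻¹ * u := by
        calc u * g⁻¹ = g⁻¹ * (g * u) * g⁻¹ := by group
          _ = g⁻¹ * (u * g) * g⁻¹ := by rw [hgu']
          _ = g⁻¹ * u := by group
      calc u * x = (u * g) * y * g⁻¹ := by rw [hxy]; group
        _ = (g * u) * y * g⁻¹ := by rw [hgu']
        _ = g * (u * y) * g⁻¹ := by group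
        _ = g * (y * u) * g⁻¹ := by rw [huy]
        _ = g * y * (u * g⁻¹) := by group
        _ = g * y * (g⁻¹ * u) := by rw [hgu'']
        _ = x * u := by rw [hxy]; group
    · have hsu : s = u := mul_left_cancel h
      have hsy : s * y = y * s := by
        rw [hsu]; exact Subgroup.mem_centralizer_iff.mp hyP u huP
      have hxt : t * x = x * t := by
        calc t * x = g * (s * y) * g⁻¹ := by rw [← hgsg, hxy]; group
          _ = g * (y * s) * g⁻¹ := by rw [hsy]
          _ = x * t := by rw [← hgsg, hxy]; group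
      calc t * s * x = t * (s * x) := by group
        _ = t * (x * s) := by rw [hxs]
        _ = (t * x) * s := by group
        _ = (x * t) * s := by rw [hxt]
        _ = x * (t * s) := by group
  set A : Subgroup X := Cfsg.Agent.Lib.Helper12.fourSub t s htt hss hts with hA
  haveI hK : IsKleinFour A :=
    Cfsg.Agent.Lib.Helper12.isKleinFour_fourSub htt hss hts ht1 hs1 (Ne.symm hst)
  have hcard : Nat.card A = 4 := hK.card_four
  have hAc : ∀ x ∈ A, ∀ y ∈ A, x * y = y * x := fun x hx y hy =>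
    Cfsg.Agent.Lib.Helper12.comm_of_mem_kleinFour A hx hy
  have hAp : ∀ x ∈ A, x ^ 2 = 1 := fun x hx => by
    rw [pow_two]; exact Cfsg.Agent.Lib.Helper12.mul_self_of_mem_kleinFour A hx
  have hAW : A ≤ Subgroup.normalizer (W : Set X) := by
    intro a _
    apply mem_normalizer_of_conj_mem
    intro x hx
    exact hWn.conj_mem x hx a
  have hpW : ¬ 2 ∣ Nat.card W := Cfsg.Agent.Lib.Helper29.not_dvd_card_pPrimeCore 2
  apply Cfsg.Agent.Lib.Helper30.coprime_generation 2 A hAc hAp (by rw [hcard]; norm_num) W hAW hpW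
  intro B hBA hB
  have h1 : Nat.card B * B.relIndex A = Nat.card A := by
    rw [← Subgroup.relIndex_bot_left, ← Subgroup.relIndex_bot_left]
    exact Subgroup.relIndex_mul_relIndex _ _ _ bot_le hBA
  have hB2 : Nat.card B = 2 := by
    rw [hB, hcard] at h1; omega
  have hex : ∃ b ∈ B, b ≠ 1 := by
    by_contra hcon
    push Not at hcon
    have : B = ⊥ := (Subgroup.eq_bot_iff_forall B).mpr hcon
    rw [this, Subgroup.card_bot] at hB2
    omega
  obtain ⟨b, hbB, hb1⟩ := hex
  rintro x ⟨hxW, hxB⟩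
  have hbx : b * x = x * b := Subgroup.mem_centralizer_iff.mp hxB b hbB
  rw [Subgroup.mem_centralizer_singleton_iff]
  rcases Cfsg.Agent.Lib.Helper12.mem_fourSub.mp (hBA hbB) with h | h | h | h
  · exact absurd h hb1
  · rw [h] at hbx; exact (hDt x hxW hbx).symm
  · rw [h] at hbx; exact (hDs x hxW hbx).symm
  · rw [h] at hbx; exact hbx.symm

theorem comm_core (P : Subgroup X) (hP : IsStandardSubgroup P)
    (hZ : Odd (Nat.card ↥(Subgroup.center ↥P)))
    (t : X) (ht : orderOf t = 2) (htP : t ∈ Subgroup.centralizer (P : Set X))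
    (g s u : X) (hs : s = g * t * g⁻¹) (hss : s * s = 1) (hts : t * s = s * t) (hst : s ≠ t)
    (hgsg : g * s * g⁻¹ = t) (huP : u ∈ P) (huo : orderOf u = 2)
    (hcase : t * s = u ∨ t * s = t * u) :
    ⁅P, oddCore X⁆ = ⊥ := by
  haveI hWn : (oddCore X).Normal := inferInstance
  have hPW := not_le_core P u huP huo
  have hv := core_le_centralizer_mul P hP hPW t ht htP g s u hs hss hts hst hgsg huP hcase
  set W : Subgroup X := oddCore X with hW
  set v : X := t * s with hvdef
  have hvC : v ∈ Subgroup.centralizer (W : Set X) := by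
    rw [Subgroup.mem_centralizer_iff]
    intro w hw
    exact Subgroup.mem_centralizer_singleton_iff.mp (hv hw)
  haveI hCn : (Subgroup.centralizer (W : Set X)).Normal := Subgroup.normal_centralizer
  have hkey : ∀ p ∈ P, u⁻¹ * p * u * p⁻¹ ∈ P ⊓ Subgroup.centralizer (W : Set X) := by
    intro p hp
    refine ⟨P.mul_mem (P.mul_mem (P.mul_mem (P.inv_mem huP) hp) huP) (P.inv_mem hp), ?_⟩
    have h1 : v⁻¹ * (p * v * p⁻¹) ∈ Subgroup.centralizer (W : Set X) :=
      Subgroup.mul_mem _ (Subgroup.inv_mem _ hvC) (hCn.conj_mem v hvC p)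
    have h2 : u⁻¹ * p * u * p⁻¹ = v⁻¹ * (p * v * p⁻¹) := by
      rcases hcase with h | h
      · rw [show v = u from h]; group
      · rw [show v = t * u from h]
        have hpt : p * t = t * p := Subgroup.mem_centralizer_iff.mp htP p hp
        calc u⁻¹ * p * u * p⁻¹ = u⁻¹ * t⁻¹ * (t * p) * u * p⁻¹ := by group
          _ = u⁻¹ * t⁻¹ * (p * t) * u * p⁻¹ := by rw [hpt]
          _ = (t * u)⁻¹ * (p * (t * u) * p⁻¹) := by group
    rw [h2]; exact h1
  set M : Subgroup X := P ⊓ Subgroup.centralizer (W : Set X) with hM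
  have hMn : P ≤ Subgroup.normalizer (M : Set X) := by
    intro p hp
    apply mem_normalizer_of_conj_mem
    rintro x ⟨hx1, hx2⟩
    exact ⟨P.mul_mem (P.mul_mem hp hx1) (P.inv_mem hp), hCn.conj_mem x hx2 p⟩
  rcases (Cfsg.Agent.Lib.Helper30.qs_subgroup hP.1).2.2 M inf_le_left hMn with h | h
  · have h1 : P ≤ Subgroup.centralizer (W : Set X) := by
      rw [← h]; exact inf_le_right
    exact Subgroup.commutator_eq_bot_iff_le_centralizer.mpr h1
  · exfalso
    have hperf : commutator ↥P = ⊤ :=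
      Cfsg.Agent.Lib.Helper12.DL.commutator_eq_top_of_perf
        (Cfsg.Agent.Lib.Helper30.qs_subgroup hP.1).1
    have hcen : (⟨u⁻¹, P.inv_mem huP⟩ : ↥P) ∈ Subgroup.center ↥P := by
      apply Cfsg.Agent.Lib.Helper29.mem_center_of_commutator_mem_center hperf
      rintro ⟨p, hp⟩
      rw [Subgroup.mem_center_iff]
      rintro ⟨q, hq⟩
      apply Subtype.ext
      have h1 := h (hkey p hp)
      have h2 := Subgroup.mem_centralizer_iff.mp h1 q hq
      simpa [commutatorElement_def, mul_assoc] using h2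
    have hucen : (⟨u, huP⟩ : ↥P) ∈ Subgroup.center ↥P := by
      have h1 := (Subgroup.center ↥P).inv_mem hcen
      have h2 : (⟨u, huP⟩ : ↥P) = (⟨u⁻¹, P.inv_mem huP⟩ : ↥P)⁻¹ := by
        apply Subtype.ext; simp
      rw [h2]; exact h1
    have hord : orderOf (⟨⟨u, huP⟩, hucen⟩ : ↥(Subgroup.center ↥P)) = 2 := by
      rw [Subgroup.orderOf_mk, Subgroup.orderOf_mk]; exact huo
    have hdvd : 2 ∣ Nat.card ↥(Subgroup.center ↥P) := by
      rw [← hord]; exact orderOf_dvd_natCard _
    exact (Nat.not_even_iff_odd.mpr hZ) (even_iff_two_dvd.mpr hdvd)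

theorem qs_of_comm_core (P : Subgroup X) (hqs : IsQuasisimple ↥P) (hPW : ¬ P ≤ oddCore X)
    (hc : ⁅P, oddCore X⁆ = ⊥) (L : Subgroup X) (hL : IsPComponent 2 L) (hPL : P ≤ L) :
    IsQuasisimple ↥L := by
  haveI : Fact (Nat.Prime 2) := ⟨Nat.prime_two⟩
  haveI hWn : (oddCore X).Normal := inferInstance
  set W : Subgroup X := oddCore X with hW
  set π := QuotientGroup.mk' W with hπ
  haveI hCn : (Subgroup.centralizer (W : Set X)).Normal := Subgroup.normal_centralizer
  set M : Subgroup X := L ⊓ Subgroup.centralizer (W : Set X) with hM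
  have hPM : P ≤ M := le_inf hPL (Subgroup.commutator_eq_bot_iff_le_centralizer.mp hc)
  have hLM : L ≤ Subgroup.normalizer (M : Set X) := by
    intro l hl
    apply mem_normalizer_of_conj_mem
    rintro x ⟨hx1, hx2⟩
    exact ⟨L.mul_mem (L.mul_mem hl hx1) (L.inv_mem hl), hCn.conj_mem x hx2 l⟩
  have hLqs : IsQuasisimple ↥(L.map π) := hL.2.1.2
  have hnorm : L.map π ≤ Subgroup.normalizer ((M.map π : Subgroup (X ⧸ W)) : Set (X ⧸ W)) :=
    (Subgroup.map_mono hLM).trans (Subgroup.le_normalizer_map π)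
  rcases (Cfsg.Agent.Lib.Helper30.qs_subgroup hLqs).2.2 (M.map π)
      (Subgroup.map_mono inf_le_left) hnorm with h | h
  · have h1 : L ≤ M ⊔ W :=
      Cfsg.Agent.Lib.Helper29.le_sup_core_of_map_le 2 L M (le_of_eq h.symm)
    have hWM : W ≤ Subgroup.normalizer (M : Set X) := by
      have h2 : M ≤ Subgroup.centralizer (W : Set X) := inf_le_right
      exact (Subgroup.le_centralizer_iff.mp h2).trans (Subgroup.centralizer_le_normalizer _)
    have hodd : Odd (Nat.card W) :=
      Nat.coprime_two_right.mp (Cfsg.Agent.Lib.Helper29.pPrimeCore_coprime 2)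
    have h2 : L ≤ M := Cfsg.Agent.Lib.Helper70.LB.le_of_le_sup_odd L M W
      (Cfsg.Agent.Lib.Helper29.pcomp_noCoprimeIndexNormal 2 L hL) hWM hodd h1
    have hc' : ⁅L, W⁆ = ⊥ :=
      Subgroup.commutator_eq_bot_iff_le_centralizer.mpr (h2.trans inf_le_right)
    exact (Cfsg.Agent.Lib.Helper12.DL.isComponent_of_comp_mod_core L hL.2.1
      (Cfsg.Agent.Lib.Helper12.DL.commutator_eq_top_of_perf
        (Cfsg.Agent.Lib.Helper29.pcomp_perfect 2 L hL)) hc').2
  · exfalso
    have h1 : P.map π ≤ Subgroup.centralizer ((L.map π : Subgroup (X ⧸ W)) : Set (X ⧸ W)) :=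
      (Subgroup.map_mono hPM).trans h
    have h2 : P.map π ≤ Subgroup.centralizer ((P.map π : Subgroup (X ⧸ W)) : Set (X ⧸ W)) :=
      h1.trans (Subgroup.centralizer_le (Subgroup.map_mono hPL))
    have h3 : ⁅P.map π, P.map π⁆ = ⊥ := Subgroup.commutator_eq_bot_iff_le_centralizer.mpr h2
    rw [← Subgroup.map_commutator, (Cfsg.Agent.Lib.Helper30.qs_subgroup hqs).1] at h3
    exact hPW (Cfsg.Agent.Lib.Helper29.mem_pPrimeCore_of_map_eq_bot 2 P h3)

end Cfsg.Agent.Lib.Helper12.STD
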