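import Mathlib
import Cfsg.Prelude.Def_SolvableStructure

set_option autoImplicit false

namespace Cfsg.Agent.Lib.Helper12

open Subgroup

universe u

variable {G : Type u} [Group G]

/-- One step of a supersolvable chain. -/
def Step (A B : Subgroup G) : Prop :=
  A.Normal ∧ B.Normal ∧ ∃ g : G, B = A ⊔ zpowers g

/-- A chain of normal subgroups with cyclic steps from `A` to `B`. -/
def Chain (A B : Subgroup G) : Prop := Relation.ReflTransGen Step A B

theorem Chain.refl (A : Subgroup G) : Chain A A := Relation.ReflTransGen.refl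

theorem Chain.trans {A B C : Subgroup G} (h1 : Chain A B) (h2 : Chain B C) : Chain A C :=
  Relation.ReflTransGen.trans h1 h2

theorem Chain.single {A B : Subgroup G} (h : Step A B) : Chain A B :=
  Relation.ReflTransGen.single h

theorem chain_of_fin (n : ℕ) (H : Fin (n + 1) → Subgroup G) (hn : ∀ i, (H i).Normal)
    (hs : ∀ i : Fin n, ∃ g : G, H i.succ = H i.castSucc ⊔ zpowers g) :
    Chain (H 0) (H (Fin.last n)) := by
  have : ∀ i : Fin (n + 1), Chain (H 0) (H i) := by
    intro i
    induction i using Fin.induction with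
    | zero => exact Chain.refl _
    | succ i ih =>
      exact ih.trans (Chain.single ⟨hn _, hn _, hs i⟩)
  exact this _

theorem fin_of_chain {A B : Subgroup G} (h : Chain A B) (hA : A.Normal) :
    ∃ (n : ℕ) (H : Fin (n + 1) → Subgroup G), H 0 = A ∧ H (Fin.last n) = B ∧
      (∀ i, (H i).Normal) ∧ ∀ i : Fin n, ∃ g : G, H i.succ = H i.castSucc ⊔ zpowers g := by
  induction h using Relation.ReflTransGen.head_induction_on with
  | refl => exact ⟨0, fun _ => B, rfl, rfl, fun _ => hA, fun i => i.elim0⟩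
  | @head A' C hAC _ ih =>
    obtain ⟨n, H, h0, hl, hnorm, hstep⟩ := ih hAC.2.1
    refine ⟨n + 1, Fin.cons A' H, ?_, ?_, ?_, ?_⟩
    · simp
    · rw [← Fin.succ_last, Fin.cons_succ]; exact hl
    · intro i
      refine Fin.cases ?_ ?_ i
      · simpa using hA
      · intro j; simpa using hnorm j
    · intro i
      refine Fin.cases ?_ ?_ i
      · obtain ⟨g, hg⟩ := hAC.2.2
        refine ⟨g, ?_⟩
        simp only [Fin.succ_zero_eq_one, Fin.castSucc_zero, Fin.cons_zero]
        rw [← Fin.succ_zero_eq_one, Fin.cons_succ, h0]; exact hg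
      · intro j
        obtain ⟨g, hg⟩ := hstep j
        refine ⟨g, ?_⟩
        rw [Fin.cons_succ, ← Fin.succ_castSucc, Fin.cons_succ]; exact hg

theorem isSupersolvable_iff_chain : Cfsg.IsSupersolvable G ↔ Chain (⊥ : Subgroup G) ⊤ := by
  constructor
  · rintro ⟨n, H, h0, hl, hn, hs⟩
    have := chain_of_fin n H hn hs
    rwa [h0, hl] at this
  · intro h
    obtain ⟨n, H, h0, hl, hn, hs⟩ := fin_of_chain h inferInstance
    exact ⟨n, H, h0, hl, hn, hs⟩

/-! ### Images, preimages, subgroups -/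

theorem Step.map {G' : Type*} [Group G'] (f : G →* G') (hf : Function.Surjective f)
    {A B : Subgroup G} (h : Step A B) : Step (A.map f) (B.map f) := by
  obtain ⟨hA, hB, g, hg⟩ := h
  refine ⟨hA.map f hf, hB.map f hf, f g, ?_⟩
  rw [hg, Subgroup.map_sup, MonoidHom.map_zpowers]

theorem Chain.map {G' : Type*} [Group G'] (f : G →* G') (hf : Function.Surjective f)
    {A B : Subgroup G} (h : Chain A B) : Chain (A.map f) (B.map f) :=
  Relation.ReflTransGen.lift (r := Step) (p := Step) (fun A : Subgroup G => A.map f)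
    (fun _ _ h => Step.map f hf h) _ _ h

theorem Step.comap {G' : Type*} [Group G'] (f : G →* G') (hf : Function.Surjective f)
    {A B : Subgroup G'} (h : Step A B) : Step (A.comap f) (B.comap f) := by
  obtain ⟨hA, hB, g', hg⟩ := h
  obtain ⟨g, rfl⟩ := hf g'
  refine ⟨hA.comap f, hB.comap f, g, ?_⟩
  rw [hg, ← Subgroup.comap_sup_eq f _ _ hf, ← MonoidHom.map_zpowers, Subgroup.comap_map_eq]
  apply le_antisymm
  · apply sup_le le_sup_left
    apply sup_le le_sup_right
    exact le_trans (Subgroup.ker_le_comap f A) le_sup_left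
  · exact sup_le_sup_left le_sup_left _

theorem Chain.comap {G' : Type*} [Group G'] (f : G →* G') (hf : Function.Surjective f)
    {A B : Subgroup G'} (h : Chain A B) : Chain (A.comap f) (B.comap f) :=
  Relation.ReflTransGen.lift (r := Step) (p := Step) (fun A : Subgroup G' => A.comap f)
    (fun _ _ h => Step.comap f hf h) _ _ h

/-- A subgroup lying between a normal subgroup `A` and `A ⊔ zpowers g` is `A ⊔ zpowers k`
for some `k`. -/
theorem exists_eq_sup_zpowers_of_le {A B : Subgroup G} [hA : A.Normal] (g : G)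
    (hAB : A ≤ B) (hB : B ≤ A ⊔ zpowers g) : ∃ k ∈ B, B = A ⊔ zpowers k := by
  have hcyc : IsCyclic (B.map (QuotientGroup.mk' A)) := by
    have hle : B.map (QuotientGroup.mk' A) ≤ zpowers (QuotientGroup.mk' A g) := by
      refine le_trans (Subgroup.map_mono hB) ?_
      rw [Subgroup.map_sup, MonoidHom.map_zpowers]
      apply sup_le _ le_rfl
      rw [(Subgroup.map_eq_bot_iff _).mpr (by rw [QuotientGroup.ker_mk'])]
      exact bot_le
    exact Subgroup.isCyclic_of_le hle
  obtain ⟨⟨c, hc⟩, hgen⟩ := hcyc.exists_generator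
  obtain ⟨k, hkB, rfl⟩ := hc
  refine ⟨k, hkB, le_antisymm ?_ (sup_le hAB (by rw [zpowers_le]; exact hkB))⟩
  intro x hx
  obtain ⟨t, ht⟩ := Subgroup.mem_zpowers_iff.mp
    (hgen ⟨QuotientGroup.mk' A x, Subgroup.mem_map_of_mem _ hx⟩)
  have ht' : (QuotientGroup.mk' A k) ^ t = QuotientGroup.mk' A x := by
    simpa using congrArg Subtype.val ht
  have hmem : x * (k ^ t)⁻¹ ∈ A := by
    rw [← QuotientGroup.eq_one_iff, QuotientGroup.mk_mul, QuotientGroup.mk_inv,
      QuotientGroup.mk_zpow]
    rw [mul_inv_eq_one]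
    exact ht'.symm
  have : x = (x * (k ^ t)⁻¹) * k ^ t := by group
  rw [this]
  exact Subgroup.mul_mem _ (le_sup_left (a := A) hmem)
    (le_sup_right (a := A) (Subgroup.zpow_mem_zpowers k t))

theorem Step.subgroupOf (K : Subgroup G) {A B : Subgroup G} (h : Step A B) :
    Step (A.subgroupOf K) (B.subgroupOf K) := by
  obtain ⟨hA, hB, g, hg⟩ := h
  refine ⟨hA.subgroupOf K, hB.subgroupOf K, ?_⟩
  have hAB : A ≤ B := by rw [hg]; exact le_sup_left
  obtain ⟨k, hk, hk2⟩ := exists_eq_sup_zpowers_of_le (A := A) (B := A ⊔ (B ⊓ K)) g le_sup_left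
    (by rw [← hg]; exact sup_le hAB inf_le_left)
  -- write k = a * b with a ∈ A, b ∈ B ⊓ K
  rw [Subgroup.mem_sup_of_normal_left] at hk
  obtain ⟨a, ha, b, hb, rfl⟩ := hk
  refine ⟨⟨b, hb.2⟩, ?_⟩
  have hk3 : A ⊔ zpowers (a * b) = A ⊔ zpowers b := by
    apply le_antisymm
    · apply sup_le le_sup_left
      rw [zpowers_le]
      exact Subgroup.mul_mem _ (le_sup_left (a := A) ha)
        (le_sup_right (a := A) (Subgroup.mem_zpowers b))
    · apply sup_le le_sup_left
      rw [zpowers_le]
      have hb' : a⁻¹ * (a * b) ∈ A ⊔ zpowers (a * b) :=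
        Subgroup.mul_mem _ (le_sup_left (a := A) (A.inv_mem ha))
          (le_sup_right (a := A) (Subgroup.mem_zpowers (a * b)))
      simpa using hb'
  rw [hk3] at hk2
  ext ⟨x, hxK⟩
  rw [Subgroup.mem_subgroupOf]
  simp only
  constructor
  · intro hxB
    have hx : x ∈ A ⊔ zpowers b := by
      rw [← hk2]; exact le_sup_right (a := A) ⟨hxB, hxK⟩
    rw [Subgroup.mem_sup_of_normal_left] at hx
    obtain ⟨y, hy, z, hz, rfl⟩ := hx
    have hzK : z ∈ K := (zpowers_le.mpr hb.2) hz
    have hyK : y ∈ K := by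
      have : y = (y * z) * z⁻¹ := by group
      rw [this]; exact K.mul_mem hxK (K.inv_mem hzK)
    have : (⟨y * z, hxK⟩ : K) = ⟨y, hyK⟩ * ⟨z, hzK⟩ := rfl
    rw [this]
    refine Subgroup.mul_mem _ (le_sup_left (a := A.subgroupOf K) ?_)
      (le_sup_right (a := A.subgroupOf K) ?_)
    · rw [Subgroup.mem_subgroupOf]; exact hy
    · obtain ⟨t, rfl⟩ := Subgroup.mem_zpowers_iff.mp hz
      rw [Subgroup.mem_zpowers_iff]
      exact ⟨t, by ext; simp⟩
  · intro hx
    have hle : A.subgroupOf K ⊔ zpowers (⟨b, hb.2⟩ : K) ≤ B.subgroupOf K := by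
      apply sup_le
      · intro y hy
        rw [Subgroup.mem_subgroupOf] at hy ⊢
        exact hAB hy
      · rw [zpowers_le, Subgroup.mem_subgroupOf]; exact hb.1
    have := hle hx
    rwa [Subgroup.mem_subgroupOf] at this

theorem Chain.subgroupOf (K : Subgroup G) {A B : Subgroup G} (h : Chain A B) :
    Chain (A.subgroupOf K) (B.subgroupOf K) :=
  Relation.ReflTransGen.lift (r := Step) (p := Step) (fun A : Subgroup G => A.subgroupOf K)
    (fun _ _ h => Step.subgroupOf K h) _ _ h

/-! ### Closure properties -/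

theorem isSupersolvable_of_surjective {G' : Type*} [Group G'] (f : G →* G')
    (hf : Function.Surjective f) (h : Cfsg.IsSupersolvable G) : Cfsg.IsSupersolvable G' := by
  rw [isSupersolvable_iff_chain] at h ⊢
  have := h.map f hf
  rwa [Subgroup.map_bot, ← MonoidHom.range_eq_map, MonoidHom.range_eq_top.mpr hf] at this

theorem isSupersolvable_of_mulEquiv {G' : Type*} [Group G'] (e : G ≃* G')
    (h : Cfsg.IsSupersolvable G) : Cfsg.IsSupersolvable G' :=
  isSupersolvable_of_surjective e.toMonoidHom e.surjective h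

theorem isSupersolvable_subgroup (K : Subgroup G) (h : Cfsg.IsSupersolvable G) :
    Cfsg.IsSupersolvable K := by
  rw [isSupersolvable_iff_chain] at h ⊢
  have := h.subgroupOf K
  rwa [Subgroup.bot_subgroupOf, Subgroup.top_subgroupOf] at this

theorem isSupersolvable_quotient (N : Subgroup G) [N.Normal] (h : Cfsg.IsSupersolvable G) :
    Cfsg.IsSupersolvable (G ⧸ N) :=
  isSupersolvable_of_surjective (QuotientGroup.mk' N) (QuotientGroup.mk'_surjective N) h

theorem isSupersolvable_of_subsingleton [Subsingleton G] : Cfsg.IsSupersolvable G := by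
  rw [isSupersolvable_iff_chain]
  have : (⊥ : Subgroup G) = ⊤ := Subsingleton.elim _ _
  rw [this]
  exact Chain.refl _

theorem isSupersolvable_of_ker_chain {G' : Type*} [Group G'] (f : G →* G')
    (hf : Function.Surjective f) (hk : Chain (⊥ : Subgroup G) f.ker)
    (h : Cfsg.IsSupersolvable G') : Cfsg.IsSupersolvable G := by
  rw [isSupersolvable_iff_chain] at h ⊢
  have := h.comap f hf
  rw [Subgroup.comap_top] at this
  exact hk.trans this

theorem chain_bot_of_isCyclic (N : Subgroup G) [hN : N.Normal] [hc : IsCyclic N] :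
    Chain (⊥ : Subgroup G) N := by
  obtain ⟨⟨g, hgN⟩, hg⟩ := hc.exists_generator
  refine Chain.single ⟨inferInstance, hN, g, ?_⟩
  rw [bot_sup_eq]
  apply le_antisymm
  · intro x hx
    obtain ⟨t, ht⟩ := Subgroup.mem_zpowers_iff.mp (hg ⟨x, hx⟩)
    rw [Subgroup.mem_zpowers_iff]
    exact ⟨t, by simpa using congrArg Subtype.val ht⟩
  · rw [zpowers_le]; exact hgN

theorem isSupersolvable_of_cyclic_normal (N : Subgroup G) [N.Normal] [IsCyclic N]
    (h : Cfsg.IsSupersolvable (G ⧸ N)) : Cfsg.IsSupersolvable G := by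
  apply isSupersolvable_of_ker_chain (QuotientGroup.mk' N) (QuotientGroup.mk'_surjective N) _ h
  rw [QuotientGroup.ker_mk']
  exact chain_bot_of_isCyclic N

theorem map_inl_eq_prod_bot {H : Type*} [Group H] (A : Subgroup G) :
    A.map (MonoidHom.inl G H) = A.prod ⊥ := by
  ext ⟨x, y⟩
  simp only [Subgroup.mem_map, MonoidHom.inl_apply, Prod.mk.injEq, Subgroup.mem_prod,
    Subgroup.mem_bot]
  constructor
  · rintro ⟨a, ha, rfl, rfl⟩; exact ⟨ha, rfl⟩
  · rintro ⟨ha, rfl⟩; exact ⟨x, ha, rfl, rfl⟩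

theorem isSupersolvable_prod {H : Type*} [Group H] (hG : Cfsg.IsSupersolvable G)
    (hH : Cfsg.IsSupersolvable H) : Cfsg.IsSupersolvable (G × H) := by
  apply isSupersolvable_of_ker_chain (MonoidHom.snd G H) Prod.snd_surjective _ hH
  rw [isSupersolvable_iff_chain] at hG
  have hstep : ∀ A B : Subgroup G, Step A B →
      Step (A.map (MonoidHom.inl G H)) (B.map (MonoidHom.inl G H)) := by
    rintro A B ⟨hA, hB, g, hg⟩
    refine ⟨?_, ?_, MonoidHom.inl G H g, ?_⟩
    · rw [map_inl_eq_prod_bot]; exact Subgroup.prod_normal A ⊥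
    · rw [map_inl_eq_prod_bot]; exact Subgroup.prod_normal B ⊥
    · rw [hg, Subgroup.map_sup, MonoidHom.map_zpowers]
  have : Chain ((⊥ : Subgroup G).map (MonoidHom.inl G H)) ((⊤ : Subgroup G).map (MonoidHom.inl G H)) :=
    Relation.ReflTransGen.lift (r := Step) (p := Step)
      (fun A : Subgroup G => A.map (MonoidHom.inl G H)) hstep _ _ hG
  rw [Subgroup.map_bot, map_inl_eq_prod_bot] at this
  rw [MonoidHom.ker_snd]
  exact this

end Cfsg.Agent.Lib.Helper12
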