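import Mathlib
import Cfsg.Agent.Lib.Helper12.Supersolvable

set_option autoImplicit false

namespace Cfsg.Agent.Lib.Helper12

open Subgroup
open scoped commutatorElement

universe u

variable {G : Type u} [Group G]

/-- In a cyclic normal subgroup, conjugation by any element acts as a power map. -/
theorem conj_eq_zpow_of_cyclic_normal (N : Subgroup G) [hN : N.Normal] [hc : IsCyclic N] (g : G) :
    ∃ m : ℤ, ∀ x ∈ N, g * x * g⁻¹ = x ^ m := by
  obtain ⟨⟨c, hcN⟩, hgen⟩ := hc.exists_generator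
  have hpow : ∀ x ∈ N, ∃ t : ℤ, c ^ t = x := by
    intro x hx
    obtain ⟨t, ht⟩ := Subgroup.mem_zpowers_iff.mp (hgen ⟨x, hx⟩)
    exact ⟨t, by simpa using congrArg Subtype.val ht⟩
  obtain ⟨m, hm⟩ := hpow (g * c * g⁻¹) (hN.conj_mem c hcN g)
  refine ⟨m, fun x hx => ?_⟩
  obtain ⟨j, rfl⟩ := hpow x hx
  rw [← conj_zpow, ← hm, ← zpow_mul, ← zpow_mul, mul_comm]

/-- A subgroup of a cyclic normal subgroup is normal. -/
theorem normal_of_le_cyclic_normal (N K : Subgroup G) [hN : N.Normal] [hc : IsCyclic N]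
    (hK : K ≤ N) : K.Normal := by
  refine ⟨fun k hk g => ?_⟩
  obtain ⟨m, hm⟩ := conj_eq_zpow_of_cyclic_normal N g
  rw [hm k (hK hk)]
  exact K.zpow_mem hk m

/-- The commutator subgroup centralizes every cyclic normal subgroup. -/
theorem commutator_le_centralizer_of_cyclic_normal (N : Subgroup G) [hN : N.Normal]
    [hc : IsCyclic N] : commutator G ≤ centralizer (N : Set G) := by
  rw [commutator_def, Subgroup.commutator_le]
  intro a _ b _
  obtain ⟨m, hm⟩ := conj_eq_zpow_of_cyclic_normal N a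
  obtain ⟨n, hn⟩ := conj_eq_zpow_of_cyclic_normal N b
  have hab : ∀ x ∈ N, (a * b) * x * (a * b)⁻¹ = (b * a) * x * (b * a)⁻¹ := by
    intro x hx
    have h1 : (a * b) * x * (a * b)⁻¹ = a * (b * x * b⁻¹) * a⁻¹ := by group
    have h2 : (b * a) * x * (b * a)⁻¹ = b * (a * x * a⁻¹) * b⁻¹ := by group
    rw [h1, h2, hn x hx, hm x hx, hm _ (N.zpow_mem hx n), hn _ (N.zpow_mem hx m),
      ← zpow_mul, ← zpow_mul, mul_comm]
  rw [Subgroup.mem_centralizer_iff]
  intro x hx
  have hy : (b * a)⁻¹ * x * (b * a) ∈ N := by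
    have := hN.conj_mem x hx (b * a)⁻¹
    simpa using this
  have := hab _ hy
  have h3 : (b * a) * ((b * a)⁻¹ * x * (b * a)) * (b * a)⁻¹ = x := by group
  rw [h3] at this
  -- this : a * b * ((b * a)⁻¹ * x * (b * a)) * (a * b)⁻¹ = x
  have h4 : ⁅a, b⁆ * x * ⁅a, b⁆⁻¹ = x := by
    rw [commutatorElement_def]
    calc a * b * a⁻¹ * b⁻¹ * x * (a * b * a⁻¹ * b⁻¹)⁻¹
        = a * b * ((b * a)⁻¹ * x * (b * a)) * (a * b)⁻¹ := by group
      _ = x := this
  calc x * ⁅a, b⁆ = (⁅a, b⁆ * x * ⁅a, b⁆⁻¹) * ⁅a, b⁆ := by rw [h4]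
    _ = ⁅a, b⁆ * x := by group

/-- Across one step of a supersolvable chain, commutators with elements of `G'` drop down. -/
theorem Step.commutator_mem {B C : Subgroup G} (h : Step B C) {x y : G} (hx : x ∈ C)
    (hy : y ∈ commutator G) : x * y * x⁻¹ * y⁻¹ ∈ B := by
  obtain ⟨hB, hC, g, hg⟩ := h
  have hCn : (C.map (QuotientGroup.mk' B)).Normal :=
    hC.map _ (QuotientGroup.mk'_surjective B)
  have hCc : IsCyclic (C.map (QuotientGroup.mk' B)) := by
    have hle : C.map (QuotientGroup.mk' B) ≤ zpowers (QuotientGroup.mk' B g) := by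
      rw [hg, Subgroup.map_sup, MonoidHom.map_zpowers]
      apply sup_le _ le_rfl
      rw [(Subgroup.map_eq_bot_iff _).mpr (by rw [QuotientGroup.ker_mk'])]
      exact bot_le
    exact Subgroup.isCyclic_of_le hle
  have hcomm := commutator_le_centralizer_of_cyclic_normal (C.map (QuotientGroup.mk' B))
  have hy' : QuotientGroup.mk' B y ∈ commutator (G ⧸ B) := by
    have h1 : QuotientGroup.mk' B y ∈ (commutator G).map (QuotientGroup.mk' B) :=
      Subgroup.mem_map_of_mem _ hy
    rw [commutator_def, Subgroup.map_commutator] at h1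
    rw [commutator_def]
    exact Subgroup.commutator_mono le_top le_top h1
  have h2 := hcomm hy'
  rw [Subgroup.mem_centralizer_iff] at h2
  have h3 := h2 (QuotientGroup.mk' B x) (Subgroup.mem_map_of_mem _ hx)
  rw [← QuotientGroup.eq_one_iff]
  have h4 : ((x * y * x⁻¹ * y⁻¹ : G) : G ⧸ B) =
      (QuotientGroup.mk' B x) * (QuotientGroup.mk' B y) * (QuotientGroup.mk' B x)⁻¹ *
        (QuotientGroup.mk' B y)⁻¹ := by
    simp
  rw [h4, h3]
  group

/-- The commutator subgroup of a supersolvable group is nilpotent. -/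
theorem isNilpotent_commutator_of_isSupersolvable (h : Cfsg.IsSupersolvable G) :
    Group.IsNilpotent (commutator G) := by
  rw [isSupersolvable_iff_chain] at h
  have key : ∀ B : Subgroup G, Chain ⊥ B →
      ∃ n : ℕ, B.subgroupOf (commutator G) ≤ Subgroup.upperCentralSeries (commutator G) n := by
    intro B hB
    induction hB with
    | refl => exact ⟨0, by simp⟩
    | @tail B C _ hBC ih =>
      obtain ⟨n, hn⟩ := ih
      refine ⟨n + 1, ?_⟩
      intro x hx
      rw [Subgroup.mem_upperCentralSeries_succ_iff]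
      intro y
      apply hn
      rw [Subgroup.mem_subgroupOf] at hx ⊢
      have := hBC.commutator_mem hx y.2
      simpa [commutatorElement_def] using this
  obtain ⟨n, hn⟩ := key ⊤ h
  refine ⟨⟨n, ?_⟩⟩
  rw [Subgroup.top_subgroupOf] at hn
  exact top_le_iff.mp hn

end Cfsg.Agent.Lib.Helper12
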