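import Mathlib
import Cfsg.Agent.Lib.Helper12.SupersolvableCyclic

set_option autoImplicit false

namespace Cfsg.Agent.Lib.Helper12

open Subgroup

universe u

variable {G : Type u} [Group G]

/-- A nontrivial finite group contains a subgroup of prime order inside any nontrivial subgroup. -/
theorem exists_zpowers_prime_card_le [Finite G] (C : Subgroup G) (hC : C ≠ ⊥) :
    ∃ x ∈ C, (Nat.card (zpowers x)).Prime := by
  have hcard : Nat.card C ≠ 1 := fun h => hC (Subgroup.eq_bot_of_card_eq C h)
  obtain ⟨p, hp, hdvd⟩ := Nat.exists_prime_and_dvd hcard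
  have : Fact p.Prime := ⟨hp⟩
  obtain ⟨x, hx⟩ := exists_prime_orderOf_dvd_card' p hdvd
  refine ⟨(x : G), x.2, ?_⟩
  rw [Nat.card_zpowers, Subgroup.orderOf_coe, hx]
  exact hp

/-- A nontrivial finite supersolvable group has a normal subgroup of prime order. -/
theorem exists_normal_prime_card [Finite G] [Nontrivial G] (h : Cfsg.IsSupersolvable G) :
    ∃ N : Subgroup G, N.Normal ∧ (Nat.card N).Prime := by
  rw [isSupersolvable_iff_chain] at h
  have key : ∀ B : Subgroup G, Chain ⊥ B → B ≠ ⊥ →
      ∃ N : Subgroup G, N.Normal ∧ (Nat.card N).Prime := by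
    intro B hB
    induction hB with
    | refl => intro h; exact absurd rfl h
    | @tail B C _ hBC ih =>
      intro hC
      by_cases hB : B = ⊥
      · obtain ⟨_, hCn, g, hg⟩ := hBC
        rw [hB, bot_sup_eq] at hg
        obtain ⟨x, hxC, hx⟩ := exists_zpowers_prime_card_le C hC
        have : C.Normal := hCn
        have : IsCyclic C := by rw [hg]; infer_instance
        exact ⟨zpowers x, normal_of_le_cyclic_normal C (zpowers x) (by rwa [zpowers_le]), hx⟩
      · exact ih hB
  exact key ⊤ h top_ne_bot

theorem card_quotient_lt_of_prime_card [Finite G] (N : Subgroup G)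
    (hN : (Nat.card N).Prime) : Nat.card (G ⧸ N) < Nat.card G := by
  rw [Subgroup.card_eq_card_quotient_mul_card_subgroup N]
  have h1 : 0 < Nat.card (G ⧸ N) := Nat.card_pos
  have h2 := hN.two_le
  nlinarith

/-- In a finite supersolvable group, maximal subgroups have prime index. -/
theorem index_prime_of_isCoatom_aux : ∀ (n : ℕ) (G : Type u) [Group G] [Finite G],
    Nat.card G = n → Cfsg.IsSupersolvable G → ∀ M : Subgroup G, IsCoatom M → M.index.Prime := by
  intro n
  induction n using Nat.strong_induction_on with
  | _ n ih =>
    intro G _ _ hcard hG M hM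
    have : Nontrivial G := by
      by_contra h
      rw [not_nontrivial_iff_subsingleton] at h
      exact hM.1 (Subsingleton.elim _ _)
    obtain ⟨N, hNn, hNp⟩ := exists_normal_prime_card hG
    by_cases hNM : N ≤ M
    · -- pass to the quotient
      have hker : (QuotientGroup.mk' N).ker ≤ M := by rw [QuotientGroup.ker_mk']; exact hNM
      have hsurj := QuotientGroup.mk'_surjective N
      have hcm : ∀ K : Subgroup G, N ≤ K → (K.map (QuotientGroup.mk' N)).comap (QuotientGroup.mk' N) = K := by
        intro K hK
        rw [Subgroup.comap_map_eq, QuotientGroup.ker_mk', sup_eq_left.mpr hK]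
      have hcoatom : IsCoatom (M.map (QuotientGroup.mk' N)) := by
        constructor
        · intro htop
          apply hM.1
          rw [← hcm M hNM, htop, Subgroup.comap_top]
        · intro K' hK'
          have h1 : M ≤ K'.comap (QuotientGroup.mk' N) := by
            rw [← hcm M hNM]; exact Subgroup.comap_mono hK'.le
          have h2 : M ≠ K'.comap (QuotientGroup.mk' N) := by
            intro heq
            apply hK'.ne
            rw [heq, Subgroup.map_comap_eq_self_of_surjective hsurj]
          have h3 := hM.2 _ (lt_of_le_of_ne h1 h2)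
          rw [← Subgroup.map_comap_eq_self_of_surjective hsurj K', h3,
            ← MonoidHom.range_eq_map, MonoidHom.range_eq_top.mpr hsurj]
      have := ih (Nat.card (G ⧸ N)) (by rw [← hcard]; exact card_quotient_lt_of_prime_card N hNp)
        (G ⧸ N) rfl (isSupersolvable_quotient N hG) _ hcoatom
      rwa [Subgroup.index_map_eq _ hsurj hker] at this
    · -- N is a complement to M
      have hsup : N ⊔ M = ⊤ := by
        apply hM.2
        apply lt_of_le_of_ne le_sup_right
        intro heq
        apply hNM
        rw [heq]; exact le_sup_left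
      have hinf : N ⊓ M = ⊥ := by
        have hdvd : Nat.card (N ⊓ M : Subgroup G) ∣ Nat.card N :=
          Subgroup.card_dvd_of_le inf_le_left
        rcases (Nat.dvd_prime hNp).mp hdvd with h1 | h1
        · exact Subgroup.eq_bot_of_card_eq _ h1
        · exfalso
          apply hNM
          have : N ⊓ M = N := Subgroup.eq_of_le_of_card_ge inf_le_left h1.ge
          rw [← this]; exact inf_le_right
      have hcompl : IsComplement' N M := by
        apply Subgroup.isComplement'_of_disjoint_and_mul_eq_univ (disjoint_iff.mpr hinf)
        rw [← Subgroup.normal_mul, hsup]; rfl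
      rw [hcompl.index_eq_card]
      exact hNp

theorem index_prime_of_isCoatom [Finite G] (h : Cfsg.IsSupersolvable G) (M : Subgroup G)
    (hM : IsCoatom M) : M.index.Prime :=
  index_prime_of_isCoatom_aux _ G rfl h M hM

end Cfsg.Agent.Lib.Helper12
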