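import Mathlib
import Cfsg.Agent.Lib.Helper12.SupersolvablePrime

set_option autoImplicit false

namespace Cfsg.Agent.Lib.Helper12

open Subgroup

universe u

theorem minFac_mul_of_lt {p q : ℕ} (hp : p.Prime) (hq : q.Prime) (hqp : q < p) :
    (p * q).minFac = q := by
  have hne : p * q ≠ 1 := by
    have := hp.two_le; have := hq.two_le; nlinarith
  have hm := Nat.minFac_prime hne
  have hdvd := Nat.minFac_dvd (p * q)
  have hle : (p * q).minFac ≤ q := Nat.minFac_le_of_dvd hq.two_le (Dvd.intro_left p rfl)
  rcases (Nat.Prime.dvd_mul hm).mp hdvd with h | h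
  · have := (Nat.prime_dvd_prime_iff_eq hm hp).mp h
    omega
  · exact (Nat.prime_dvd_prime_iff_eq hm hq).mp h

/-- A finite supersolvable group has a normal subgroup whose order is the largest prime divisor
of the group order. -/
theorem exists_normal_card_eq_max_prime_aux : ∀ (n : ℕ) (G : Type u) [Group G] [Finite G],
    Nat.card G = n → Cfsg.IsSupersolvable G → ∀ p : ℕ, p.Prime → p ∣ n →
    (∀ q : ℕ, q.Prime → q ∣ n → q ≤ p) → ∃ N : Subgroup G, N.Normal ∧ Nat.card N = p := by
  intro n
  induction n using Nat.strong_induction_on with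
  | _ n ih =>
    intro G _ _ hcard hG p hp hpn hmax
    have hnt : Nontrivial G := by
      rw [← Finite.one_lt_card_iff_nontrivial, hcard]
      have : 0 < n := by rw [← hcard]; exact Nat.card_pos
      have := Nat.le_of_dvd this hpn
      have := hp.two_le
      omega
    obtain ⟨N₁, hN₁n, hN₁p⟩ := exists_normal_prime_card hG
    set q := Nat.card N₁ with hq
    have hqn : q ∣ n := by rw [← hcard]; exact Subgroup.card_subgroup_dvd_card N₁
    have hqp : q ≤ p := hmax q hN₁p hqn
    by_cases hqp' : q = p
    · exact ⟨N₁, hN₁n, hqp'⟩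
    have hlt : q < p := lt_of_le_of_ne hqp hqp'
    have hmul : Nat.card G = Nat.card (G ⧸ N₁) * q :=
      Subgroup.card_eq_card_quotient_mul_card_subgroup N₁
    have hcop : Nat.Coprime p q := (Nat.coprime_primes hp hN₁p).mpr (Ne.symm hqp')
    have hpquot : p ∣ Nat.card (G ⧸ N₁) := by
      apply hcop.dvd_of_dvd_mul_right
      rw [← hmul, hcard]; exact hpn
    obtain ⟨M', hM'n, hM'card⟩ := ih (Nat.card (G ⧸ N₁))
      (by rw [← hcard]; exact card_quotient_lt_of_prime_card N₁ hN₁p) (G ⧸ N₁) rfl
      (isSupersolvable_quotient N₁ hG) p hp hpquot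
      (fun r hr hrd => hmax r hr (by rw [← hcard, hmul]; exact Dvd.dvd.mul_right hrd q))
    set M : Subgroup G := M'.comap (QuotientGroup.mk' N₁) with hM
    have hMn : M.Normal := hM'n.comap _
    have hMcard : Nat.card M = p * q := by
      have h1 : M.index = M'.index :=
        Subgroup.index_comap_of_surjective M' (QuotientGroup.mk'_surjective N₁)
      have h2 := M.index_mul_card
      have h3 := M'.index_mul_card
      rw [hM'card] at h3
      have h4 : M.index ≠ 0 := Subgroup.index_ne_zero_of_finite
      have h5 : M.index * Nat.card M = M.index * (p * q) := by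
        rw [h2, hmul, ← h3, h1]; ring
      exact Nat.eq_of_mul_eq_mul_left (Nat.pos_of_ne_zero h4) h5
    have : Fact p.Prime := ⟨hp⟩
    let P : Sylow p M := default
    have hPcard : Nat.card P = p := by
      rw [Sylow.card_eq_multiplicity, hMcard, Nat.factorization_mul hp.ne_zero hN₁p.ne_zero]
      simp [hp.factorization, hN₁p.factorization, hqp']
    have hPidx : (P : Subgroup M).index = q := by
      have := (P : Subgroup M).index_mul_card
      rw [hPcard, hMcard, mul_comm p q] at this
      exact Nat.eq_of_mul_eq_mul_right hp.pos this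
    have hPn : (P : Subgroup M).Normal := by
      apply Subgroup.normal_of_index_eq_minFac_card
      rw [hPidx, hMcard, minFac_mul_of_lt hp hN₁p hlt]
    have hPc : (P : Subgroup M).Characteristic := Sylow.characteristic_of_normal P hPn
    refine ⟨(P : Subgroup M).map M.subtype, inferInstance, ?_⟩
    rw [Subgroup.card_map_of_injective M.subtype_injective]
    exact hPcard

theorem exists_normal_card_eq_max_prime {G : Type u} [Group G] [Finite G]
    (hG : Cfsg.IsSupersolvable G) (p : ℕ) (hp : p.Prime) (hpn : p ∣ Nat.card G)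
    (hmax : ∀ q : ℕ, q.Prime → q ∣ Nat.card G → q ≤ p) :
    ∃ N : Subgroup G, N.Normal ∧ Nat.card N = p :=
  exists_normal_card_eq_max_prime_aux _ G rfl hG p hp hpn hmax

/-- Every natural number `> 1` has a largest prime divisor. -/
theorem exists_max_prime_dvd {n : ℕ} (hn : 1 < n) :
    ∃ p : ℕ, p.Prime ∧ p ∣ n ∧ ∀ q : ℕ, q.Prime → q ∣ n → q ≤ p := by
  have hne : n.primeFactors.Nonempty := by
    rw [Nat.nonempty_primeFactors]; exact hn
  refine ⟨n.primeFactors.max' hne, ?_, ?_, ?_⟩
  · exact Nat.prime_of_mem_primeFactors (Finset.max'_mem _ hne)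
  · exact Nat.dvd_of_mem_primeFactors (Finset.max'_mem _ hne)
  · intro q hq hqn
    apply Finset.le_max'
    rw [Nat.mem_primeFactors]
    exact ⟨hq, hqn, by omega⟩

/-- The chief series of a supersolvable group with non-increasing prime indices. -/
theorem exists_chief_series_aux : ∀ (N : ℕ) (G : Type u) [Group G] [Finite G],
    Nat.card G = N → Cfsg.IsSupersolvable G →
    ∃ (n : ℕ) (H : Fin (n + 1) → Subgroup G), H 0 = ⊥ ∧ H (Fin.last n) = ⊤ ∧
      (∀ i, (H i).Normal) ∧
      (∀ i : Fin n, H i.castSucc ≤ H i.succ ∧ ((H i.castSucc).relIndex (H i.succ)).Prime) ∧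
      ∀ i j : Fin n, i ≤ j →
        (H j.castSucc).relIndex (H j.succ) ≤ (H i.castSucc).relIndex (H i.succ) := by
  intro N
  induction N using Nat.strong_induction_on with
  | _ N ih =>
    intro G _ _ hcard hG
    by_cases hsub : Subsingleton G
    · refine ⟨0, fun _ => ⊥, rfl, Subsingleton.elim _ _, fun _ => inferInstance,
        fun i => i.elim0, fun i => i.elim0⟩
    rw [not_subsingleton_iff_nontrivial] at hsub
    have h1 : 1 < Nat.card G := Finite.one_lt_card_iff_nontrivial.mpr hsub
    obtain ⟨p, hp, hpn, hmax⟩ := exists_max_prime_dvd h1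
    obtain ⟨K, hKn, hKcard⟩ := exists_normal_card_eq_max_prime hG p hp hpn hmax
    have hKp : (Nat.card K).Prime := hKcard ▸ hp
    have hsurj := QuotientGroup.mk'_surjective K
    obtain ⟨n, H', h0, hl, hnorm, hstep, hmono⟩ := ih (Nat.card (G ⧸ K))
      (by rw [← hcard]; exact card_quotient_lt_of_prime_card K hKp) (G ⧸ K) rfl
      (isSupersolvable_quotient K hG)
    -- the new chain
    let H : Fin (n + 2) → Subgroup G := Fin.cons ⊥ (fun i => (H' i).comap (QuotientGroup.mk' K))
    have hH0 : H 0 = ⊥ := rfl
    have hHs : ∀ i : Fin (n + 1), H i.succ = (H' i).comap (QuotientGroup.mk' K) := fun i => by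
      simp [H]
    have hr0 : (H (0 : Fin (n + 1)).castSucc).relIndex (H (0 : Fin (n + 1)).succ) = p := by
      rw [hHs, Fin.castSucc_zero, hH0, h0, Subgroup.relIndex_bot_left]
      have : ((⊥ : Subgroup (G ⧸ K)).comap (QuotientGroup.mk' K)) = K := by
        rw [MonoidHom.comap_bot, QuotientGroup.ker_mk']
      rw [this, hKcard]
    have hrs : ∀ j : Fin n, (H j.succ.castSucc).relIndex (H j.succ.succ) =
        (H' j.castSucc).relIndex (H' j.succ) := by
      intro j
      rw [hHs, ← Fin.succ_castSucc, hHs, Subgroup.relIndex_comap,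
        Subgroup.map_comap_eq_self_of_surjective hsurj]
    have hle_p : ∀ j : Fin n, (H' j.castSucc).relIndex (H' j.succ) ≤ p := by
      intro j
      apply hmax _ (hstep j).2
      have h2 : (H' j.castSucc).relIndex (H' j.succ) ∣ Nat.card (G ⧸ K) :=
        dvd_trans (Subgroup.relIndex_dvd_card _ _) (Subgroup.card_subgroup_dvd_card _)
      rw [Subgroup.card_eq_card_quotient_mul_card_subgroup K]
      exact Dvd.dvd.mul_right h2 _
    refine ⟨n + 1, H, hH0, ?_, ?_, ?_, ?_⟩
    · rw [← Fin.succ_last, hHs, hl, Subgroup.comap_top]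
    · intro i
      refine Fin.cases ?_ (fun j => ?_) i
      · rw [hH0]; infer_instance
      · rw [hHs]; exact (hnorm j).comap _
    · intro i
      refine Fin.cases ?_ (fun j => ?_) i
      · refine ⟨?_, ?_⟩
        · rw [Fin.castSucc_zero, hH0]; exact bot_le
        · rw [hr0]; exact hp
      · refine ⟨?_, ?_⟩
        · rw [hHs, ← Fin.succ_castSucc, hHs]
          exact Subgroup.comap_mono (hstep j).1
        · rw [hrs]; exact (hstep j).2
    · intro i j
      refine Fin.cases ?_ (fun i' => ?_) i
      · intro _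
        refine Fin.cases ?_ (fun j' => ?_) j
        · exact le_rfl
        · rw [hr0, hrs]; exact hle_p j'
      · refine Fin.cases ?_ (fun j' => ?_) j
        · intro h
          exact absurd h (by simp [Fin.succ_ne_zero])
        · intro h
          rw [hrs, hrs]
          exact hmono i' j' (Fin.succ_le_succ_iff.mp h)

end Cfsg.Agent.Lib.Helper12
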