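import Mathlib
import Cfsg.Agent.Lib.Helper12.Supersolvable

set_option autoImplicit false

namespace Cfsg.Agent.Lib.Helper12

open Subgroup

universe u

variable {G : Type u} [Group G]

/-- `zpowers x` is normal as soon as every conjugate of `x` lies in it. -/
theorem zpowers_normal_of_conj_mem (x : G) (h : ∀ g : G, g * x * g⁻¹ ∈ zpowers x) :
    (zpowers x).Normal := by
  refine ⟨fun y hy g => ?_⟩
  obtain ⟨k, rfl⟩ := Subgroup.mem_zpowers_iff.mp hy
  rw [← conj_zpow]
  exact Subgroup.zpow_mem _ (h g) k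

/-- A nontrivial group of prime power order has a nontrivial normal cyclic subgroup. -/
theorem exists_zpowers_normal_of_card_prime_pow [Finite G] [Nontrivial G] {q k : ℕ}
    (hq : q.Prime) (hcard : Nat.card G = q ^ k) : ∃ x : G, x ≠ 1 ∧ (zpowers x).Normal := by
  have : Fact q.Prime := ⟨hq⟩
  have hG : IsPGroup q G := IsPGroup.of_card hcard
  have := hG.center_nontrivial
  obtain ⟨z, hz⟩ := exists_ne (1 : Subgroup.center G)
  refine ⟨(z : G), fun h => hz (Subtype.ext h), ?_⟩
  apply zpowers_normal_of_conj_mem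
  intro g
  have := Subgroup.mem_center_iff.mp z.2 g
  have h2 : g * (z : G) * g⁻¹ = z := by rw [this]; group
  rw [h2]; exact Subgroup.mem_zpowers _

/-- A group of order `2 * p ^ m` with `p` odd and `m ≥ 1` has a nontrivial normal cyclic
subgroup. -/
theorem exists_zpowers_normal_of_card_two_mul [Finite G] {p m : ℕ} (hp : p.Prime) (hp2 : p ≠ 2)
    (hm : m ≠ 0) (hcard : Nat.card G = 2 * p ^ m) : ∃ x : G, x ≠ 1 ∧ (zpowers x).Normal := by
  have : Fact p.Prime := ⟨hp⟩
  have : Fact (Nat.Prime 2) := ⟨Nat.prime_two⟩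
  obtain ⟨K, hK⟩ := Sylow.exists_subgroup_card_pow_prime p (n := m)
    (by rw [hcard]; exact Dvd.intro_left 2 rfl)
  have hKpos : 0 < p ^ m := pow_pos hp.pos m
  have hidx : K.index = 2 := by
    have := K.index_mul_card
    rw [hK, hcard] at this
    exact Nat.eq_of_mul_eq_mul_right hKpos this
  have hKn : K.Normal := Subgroup.normal_of_index_eq_two hidx
  have hKp : IsPGroup p K := IsPGroup.of_card hK
  have hKnt : Nontrivial K := by
    rw [← Finite.one_lt_card_iff_nontrivial, hK]
    exact Nat.one_lt_pow hm hp.one_lt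
  have := hKp.center_nontrivial
  obtain ⟨z, hz⟩ := exists_ne (1 : Subgroup.center K)
  -- the element z of G
  set zG : G := ((z : K) : G) with hzG
  have hzK : zG ∈ K := (z : K).2
  have hz1 : zG ≠ 1 := by
    intro h
    apply hz
    have h' : (z : K) = 1 := Subtype.ext h
    exact Subtype.ext h'
  have hzc : ∀ k ∈ K, k * zG = zG * k := by
    intro k hk
    have := Subgroup.mem_center_iff.mp z.2 ⟨k, hk⟩
    simpa using congrArg Subtype.val this
  -- an involution
  obtain ⟨t, ht⟩ := exists_prime_orderOf_dvd_card' (G := G) 2 (by rw [hcard]; exact Dvd.intro _ rfl)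
  have htt : t * t = 1 := by
    have := pow_orderOf_eq_one t
    rwa [ht, pow_two] at this
  have htinv : t⁻¹ = t := by
    rw [inv_eq_iff_mul_eq_one]; exact htt
  have htK : t ∉ K := by
    intro h
    have h1 : orderOf (⟨t, h⟩ : K) ∣ Nat.card K := orderOf_dvd_natCard _
    rw [Subgroup.orderOf_mk, ht, hK] at h1
    have := (Nat.prime_dvd_prime_iff_eq Nat.prime_two hp).mp (Nat.Prime.dvd_of_dvd_pow Nat.prime_two h1)
    exact hp2 this.symm
  -- key: an element x ≠ 1 of K, central in K, with t x t⁻¹ ∈ zpowers x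
  have key : ∃ x : G, x ≠ 1 ∧ (∀ k ∈ K, k * x = x * k) ∧ t * x * t⁻¹ ∈ zpowers x := by
    set z' : G := t * zG * t⁻¹ with hz'
    have hz'K : z' ∈ K := hKn.conj_mem zG hzK t
    have hz'c : ∀ k ∈ K, k * z' = z' * k := by
      intro k hk
      have h1 : t⁻¹ * k * t ∈ K := by
        have := hKn.conj_mem k hk t⁻¹
        simpa using this
      have h2 := hzc _ h1
      calc k * z' = t * ((t⁻¹ * k * t) * zG) * t⁻¹ := by rw [hz']; group
        _ = t * (zG * (t⁻¹ * k * t)) * t⁻¹ := by rw [h2]
        _ = z' * k := by rw [hz']; group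
    by_cases hw : zG * z' = 1
    · refine ⟨zG, hz1, hzc, ?_⟩
      have : t * zG * t⁻¹ = zG⁻¹ := by
        rw [← hz']; exact (eq_inv_of_mul_eq_one_right hw)
      rw [this]
      exact Subgroup.inv_mem _ (Subgroup.mem_zpowers _)
    · refine ⟨zG * z', hw, ?_, ?_⟩
      · intro k hk
        rw [← mul_assoc, hzc k hk, mul_assoc, hz'c k hk, ← mul_assoc]
      · have h1 : t * (zG * z') * t⁻¹ = z' * zG := by
          rw [hz', htinv]
          calc t * (zG * (t * zG * t)) * t = (t * zG * t) * zG * (t * t) := by group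
            _ = t * zG * t * zG := by rw [htt, mul_one]
        rw [h1, ← hzc z' hz'K]
        exact Subgroup.mem_zpowers _
  obtain ⟨x, hx1, hxc, hxt⟩ := key
  refine ⟨x, hx1, zpowers_normal_of_conj_mem x ?_⟩
  intro g
  by_cases hg : g ∈ K
  · have : g * x * g⁻¹ = x := by rw [hxc g hg]; group
    rw [this]; exact Subgroup.mem_zpowers _
  · have hu : t⁻¹ * g ∈ K := by
      rw [Subgroup.mul_mem_iff_of_index_two hidx]
      constructor
      · intro h; exact absurd (by simpa using K.inv_mem h) htK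
      · intro h; exact absurd h hg
    have : g * x * g⁻¹ = t * x * t⁻¹ := by
      have h3 := hxc _ hu
      calc g * x * g⁻¹ = t * ((t⁻¹ * g) * x) * (t⁻¹ * g)⁻¹ * t⁻¹ := by group
        _ = t * (x * (t⁻¹ * g)) * (t⁻¹ * g)⁻¹ * t⁻¹ := by rw [h3]
        _ = t * x * t⁻¹ := by group
    rw [this]; exact hxt

/-- A nontrivial group whose order divides `2 * p ^ n` has a nontrivial normal cyclic subgroup. -/
theorem exists_zpowers_normal_of_card_dvd [Finite G] [Nontrivial G] {p n : ℕ} (hp : p.Prime)
    (hcard : Nat.card G ∣ 2 * p ^ n) : ∃ x : G, x ≠ 1 ∧ (zpowers x).Normal := by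
  by_cases hp2 : p = 2
  · subst hp2
    rw [← pow_succ'] at hcard
    obtain ⟨k, _, hk⟩ := (Nat.dvd_prime_pow Nat.prime_two).mp hcard
    exact exists_zpowers_normal_of_card_prime_pow Nat.prime_two hk
  · by_cases h2 : 2 ∣ Nat.card G
    · obtain ⟨d, hd⟩ := h2
      rw [hd] at hcard
      have hd' : d ∣ p ^ n := Nat.dvd_of_mul_dvd_mul_left (by norm_num) hcard
      obtain ⟨k, _, hk⟩ := (Nat.dvd_prime_pow hp).mp hd'
      subst hk
      by_cases hk0 : k = 0
      · subst hk0
        exact exists_zpowers_normal_of_card_prime_pow (k := 1) Nat.prime_two (by rw [hd]; norm_num)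
      · exact exists_zpowers_normal_of_card_two_mul hp hp2 hk0 hd
    · have hcop : Nat.Coprime (Nat.card G) 2 := by
        rw [Nat.coprime_comm]
        exact (Nat.Prime.coprime_iff_not_dvd Nat.prime_two).mpr h2
      have hd' : Nat.card G ∣ p ^ n := hcop.dvd_of_dvd_mul_left hcard
      obtain ⟨k, _, hk⟩ := (Nat.dvd_prime_pow hp).mp hd'
      exact exists_zpowers_normal_of_card_prime_pow hp hk

theorem isSupersolvable_of_card_dvd_aux : ∀ (N : ℕ) (G : Type u) [Group G] [Finite G],
    Nat.card G = N → (∃ p n : ℕ, p.Prime ∧ N ∣ 2 * p ^ n) → Cfsg.IsSupersolvable G := by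
  intro N
  induction N using Nat.strong_induction_on with
  | _ N ih =>
    intro G _ _ hcard ⟨p, n, hp, hdvd⟩
    by_cases hG : Subsingleton G
    · exact isSupersolvable_of_subsingleton
    · rw [not_subsingleton_iff_nontrivial] at hG
      obtain ⟨x, hx1, hxn⟩ := exists_zpowers_normal_of_card_dvd hp (hcard ▸ hdvd)
      have hmul := Subgroup.card_eq_card_quotient_mul_card_subgroup (zpowers x)
      have hlt : Nat.card (G ⧸ zpowers x) < N := by
        rw [← hcard, hmul]
        have h1 : 0 < Nat.card (G ⧸ zpowers x) := Nat.card_pos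
        have h2 : 1 < Nat.card (zpowers x) := by
          rw [Finite.one_lt_card_iff_nontrivial]
          exact ⟨⟨⟨x, Subgroup.mem_zpowers x⟩, 1, fun h => hx1 (by simpa using congrArg Subtype.val h)⟩⟩
        nlinarith
      have hq := ih _ hlt (G ⧸ zpowers x) rfl
        ⟨p, n, hp, dvd_trans (Dvd.intro _ (hcard ▸ hmul.symm)) hdvd⟩
      exact isSupersolvable_of_cyclic_normal (zpowers x) hq

/-- A finite group whose order divides twice a prime power is supersolvable. -/
theorem isSupersolvable_of_card_dvd [Finite G] {p n : ℕ} (hp : p.Prime)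
    (h : Nat.card G ∣ 2 * p ^ n) : Cfsg.IsSupersolvable G :=
  isSupersolvable_of_card_dvd_aux _ G rfl ⟨p, n, hp, h⟩

end Cfsg.Agent.Lib.Helper12
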