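import Mathlib
import Cfsg.Prelude.Def_Characters
import Cfsg.Agent.Lib.Helper34.GenChar
import Cfsg.Agent.Lib.Helper83.SecondOrth
import Cfsg.Agent.Lib.Helper83.Quotient
import Cfsg.Agent.Lib.Helper05.CharDecomp

/-!
# A TI Hall subgroup with a normal complement in its normalizer has a normal complement (helper12)

`H ≤ G` meets its conjugates by elements outside `N = N_G(H)` trivially, `K ⊴ N` is a complement of `H`
in `N` with `(|K|, |H|) = 1`.  Then `H` has a normal complement in `G` (Frobenius' argument with the
TI-set `N ∖ K`).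
-/

set_option autoImplicit false
set_option linter.style.haveILetI false
set_option linter.unusedSectionVars false

namespace Cfsg.Agent.Lib.Helper12.TIHall

open Cfsg Cfsg.Agent.Lib
open scoped ComplexConjugate

universe u

variable {G : Type u} [Group G]

/-- the standing hypotheses -/
structure Setup (H : Subgroup G) (K : Subgroup (Subgroup.normalizer (H : Set G))) : Prop where
  ti : ∀ g : G, g ∉ Subgroup.normalizer (H : Set G) → ∀ x ∈ H, g * x * g⁻¹ ∈ H → x = 1
  knormal : K.Normal
  compl : K.IsComplement' (H.subgroupOf (Subgroup.normalizer (H : Set G)))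
  cop : (Nat.card K).Coprime (Nat.card H)

section Basic

variable [Finite G] {H : Subgroup G} {K : Subgroup (Subgroup.normalizer (H : Set G))}

theorem card_subgroupOf_eq (H : Subgroup G) :
    Nat.card (H.subgroupOf (Subgroup.normalizer (H : Set G))) = Nat.card H :=
  Nat.card_congr (Subgroup.subgroupOfEquivOfLe Subgroup.le_normalizer).toEquiv

/-- `x ^ |K| ∈ H` for `x ∈ N`. -/
theorem pow_card_mem (S : Setup H K) (x : Subgroup.normalizer (H : Set G)) :
    (x : G) ^ Nat.card K ∈ H := by
  haveI : (H.subgroupOf (Subgroup.normalizer (H : Set G))).Normal := Subgroup.normal_in_normalizer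
  have hidx : (H.subgroupOf (Subgroup.normalizer (H : Set G))).index = Nat.card K :=
    S.compl.index_eq_card
  have h1 : ((x : Subgroup.normalizer (H : Set G) ⧸ H.subgroupOf (Subgroup.normalizer (H : Set G)))) ^
      Nat.card K = 1 := by
    rw [← hidx, Subgroup.index_eq_card]
    exact pow_card_eq_one'
  rw [← QuotientGroup.mk_pow, QuotientGroup.eq_one_iff] at h1
  have := Subgroup.mem_subgroupOf.mp h1
  simpa using this

/-- `x ^ |K| = 1` forces `x ∈ K`. -/
theorem mem_of_pow_card_eq_one (S : Setup H K) (x : Subgroup.normalizer (H : Set G))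
    (hx : x ^ Nat.card K = 1) : x ∈ K := by
  haveI := S.knormal
  have hidx : K.index = Nat.card H := by
    rw [S.compl.symm.index_eq_card, card_subgroupOf_eq]
  have h1 : ((x : Subgroup.normalizer (H : Set G) ⧸ K)) ^ Nat.card H = 1 := by
    rw [← hidx, Subgroup.index_eq_card]
    exact pow_card_eq_one'
  have h2 : ((x : Subgroup.normalizer (H : Set G) ⧸ K)) ^ Nat.card K = 1 := by
    rw [← QuotientGroup.mk_pow, hx]
    rfl
  have h3 : orderOf ((x : Subgroup.normalizer (H : Set G) ⧸ K)) ∣ Nat.gcd (Nat.card K) (Nat.card H) :=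
    Nat.dvd_gcd (orderOf_dvd_of_pow_eq_one h2) (orderOf_dvd_of_pow_eq_one h1)
  rw [S.cop] at h3
  have h4 : ((x : Subgroup.normalizer (H : Set G) ⧸ K)) = 1 :=
    orderOf_eq_one_iff.mp (Nat.dvd_one.mp h3)
  exact (QuotientGroup.eq_one_iff x).mp h4

/-- a conjugate, by an element outside `N`, of an element of `N` that lands in `N` lies in `K`. -/
theorem conj_mem_K (S : Setup H K) (x : Subgroup.normalizer (H : Set G)) (y : G)
    (hy : y ∉ Subgroup.normalizer (H : Set G))
    (hxy : y⁻¹ * (x : G) * y ∈ Subgroup.normalizer (H : Set G)) :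
    (⟨y⁻¹ * (x : G) * y, hxy⟩ : Subgroup.normalizer (H : Set G)) ∈ K := by
  apply mem_of_pow_card_eq_one S
  have h1 := pow_card_mem S ⟨y⁻¹ * (x : G) * y, hxy⟩
  have h2 := pow_card_mem S x
  simp only at h1
  have h3 : y * (y⁻¹ * (x : G) * y) ^ Nat.card K * y⁻¹ = (x : G) ^ Nat.card K := by
    rw [← conj_pow]
    congr 1
    group
  have h4 := S.ti y hy _ h1 (by rw [h3]; exact h2)
  apply Subtype.ext
  simpa using h4

end Basic

section Chars

variable [Fintype G] {H : Subgroup G} {K : Subgroup (Subgroup.normalizer (H : Set G))}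

theorem sum_extendByZero_const (L : Subgroup G) [Fintype L] (c : ℂ) :
    ∑ x : G, extendByZero L (fun _ => c) x = (Nat.card L : ℂ) * c := by
  have := Helper34.sum_extendByZero_mul L (fun _ => c) (fun _ => (1 : ℂ))
  simp only [mul_one] at this
  rw [this, Finset.sum_const, Finset.card_univ, nsmul_eq_mul, Nat.card_eq_fintype_card]

/-- An induced class function of `N` vanishing on `K` restricts back to itself on `N`. -/
theorem indFun_restrict (S : Setup H K) (α : Subgroup.normalizer (H : Set G) → ℂ)
    (hα : IsClassFunction _ α) (hαK : ∀ k ∈ K, α k = 0) (x : Subgroup.normalizer (H : Set G)) :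
    indFun (Subgroup.normalizer (H : Set G)) α (x : G) = α x := by
  classical
  letI : Fintype (Subgroup.normalizer (H : Set G)) := Fintype.ofFinite _
  have hNne : (Nat.card (Subgroup.normalizer (H : Set G)) : ℂ) ≠ 0 := by
    exact_mod_cast Nat.card_pos.ne'
  rw [Helper34.indFun_apply]
  have key : ∀ y : G, extendByZero (Subgroup.normalizer (H : Set G)) α (y⁻¹ * (x : G) * y) =
      extendByZero (Subgroup.normalizer (H : Set G)) (fun _ => α x) y := by
    intro y
    by_cases hy : y ∈ Subgroup.normalizer (H : Set G)
    · have hy' : y⁻¹ * (x : G) * y ∈ Subgroup.normalizer (H : Set G) :=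
        Subgroup.mul_mem _ (Subgroup.mul_mem _ (Subgroup.inv_mem _ hy) x.2) hy
      rw [Helper34.extendByZero_apply_mem _ α hy', Helper34.extendByZero_apply_mem _ _ hy]
      have := hα x ⟨y⁻¹, Subgroup.inv_mem _ hy⟩
      rw [← this]
      congr 1
      apply Subtype.ext
      simp
    · rw [Helper34.extendByZero_apply_not_mem _ _ hy]
      by_cases hxy : y⁻¹ * (x : G) * y ∈ Subgroup.normalizer (H : Set G)
      · rw [Helper34.extendByZero_apply_mem _ α hxy]
        exact hαK _ (conj_mem_K S x y hy hxy)
      · exact Helper34.extendByZero_apply_not_mem _ _ hxy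
  simp only [key]
  rw [sum_extendByZero_const]
  field_simp

/-- An induced function (from `N`, vanishing on `K`) vanishes at the elements all of whose conjugates
in `N` lie in `K`. -/
theorem indFun_kernel (α : Subgroup.normalizer (H : Set G) → ℂ) (hαK : ∀ k ∈ K, α k = 0) (x : G)
    (hx : ∀ (y : G) (hy : y⁻¹ * x * y ∈ Subgroup.normalizer (H : Set G)),
      (⟨y⁻¹ * x * y, hy⟩ : Subgroup.normalizer (H : Set G)) ∈ K) :
    indFun (Subgroup.normalizer (H : Set G)) α x = 0 := by
  rw [Helper34.indFun_apply]
  have : ∀ y : G, extendByZero (Subgroup.normalizer (H : Set G)) α (y⁻¹ * x * y) = 0 := by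
    intro y
    by_cases hy : y⁻¹ * x * y ∈ Subgroup.normalizer (H : Set G)
    · rw [Helper34.extendByZero_apply_mem _ α hy]
      exact hαK _ (hx y hy)
    · exact Helper34.extendByZero_apply_not_mem _ _ hy
  simp [this]

local notation "NH" => Subgroup.normalizer (H : Set G)

/-- For every irreducible character `ψ` of `N ⧸ K` there is a normal subgroup of `G` containing all
elements whose `N`-conjugates all lie in `K`, and meeting `N` inside the kernel of (the inflation of) `ψ`. -/
theorem exists_normal_of_irr [Finite G] (S : Setup H K) [hKn : K.Normal]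
    (ψ : IrrCharacter (Subgroup.normalizer (H : Set G) ⧸ K)) :
    ∃ L : Subgroup G, L.Normal ∧
      (∀ x : G, (∀ (y : G) (hy : y⁻¹ * x * y ∈ Subgroup.normalizer (H : Set G)),
        (⟨y⁻¹ * x * y, hy⟩ : Subgroup.normalizer (H : Set G)) ∈ K) → x ∈ L) ∧
      ∀ x : Subgroup.normalizer (H : Set G), (x : G) ∈ L →
        (ψ : Subgroup.normalizer (H : Set G) ⧸ K → ℂ) (QuotientGroup.mk x) =
          (ψ : Subgroup.normalizer (H : Set G) ⧸ K → ℂ) 1 := by
  classical
  letI : Fintype (Subgroup.normalizer (H : Set G)) := Fintype.ofFinite _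
  letI : Fintype (Subgroup.normalizer (H : Set G) ⧸ K) := Fintype.ofFinite _
  by_cases htriv : ψ = Helper83.trivChar (NH ⧸ K)
  · refine ⟨⊤, inferInstance, fun x _ => Subgroup.mem_top x, fun x _ => ?_⟩
    rw [htriv]
    rfl
  · -- the inflated character
    have htirr : IsIrrCharacter NH (fun x : NH => (ψ : NH ⧸ K → ℂ) (QuotientGroup.mk x)) :=
      Helper83.isIrrCharacter_inflate K ψ.2
    set θ : IrrCharacter NH := ⟨fun x : NH => (ψ : NH ⧸ K → ℂ) (QuotientGroup.mk x), htirr⟩ with hθ
    set t : NH → ℂ := (θ : NH → ℂ) with ht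
    have htchar : IsCharacter NH t := Helper83.isCharacter_of_irr htirr
    have hθtriv : θ ≠ Helper83.trivChar NH := by
      intro h
      apply htriv
      apply Subtype.ext
      funext q
      obtain ⟨x, rfl⟩ := QuotientGroup.mk_surjective q
      have := congrFun (congrArg Subtype.val h) x
      exact this
    obtain ⟨n, hn⟩ := Helper83.char_one_eq_nat htchar
    set oneN : NH → ℂ := fun _ => (1 : ℂ) with honeN
    set one : G → ℂ := fun _ => (1 : ℂ) with hone
    set α : NH → ℂ := t - (n : ℂ) • oneN with hα
    set A : G → ℂ := indFun NH α with hA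
    set T : G → ℂ := A + (n : ℂ) • one with hT
    have honeNchar : IsCharacter NH oneN := Helper83.isCharacter_one
    have honechar : IsCharacter G one := Helper83.isCharacter_one
    have hαcf : IsClassFunction NH α := by
      intro g h
      have := Helper83.char_isClassFunction htchar g h
      simp only [hα, Pi.sub_apply, this]
      rfl
    have hαK : ∀ k ∈ K, α k = 0 := by
      intro k hk
      have h1 : t k = t 1 := by
        simp only [ht, hθ]
        have : (QuotientGroup.mk k : NH ⧸ K) = QuotientGroup.mk (1 : NH) := by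
          rw [QuotientGroup.mk_one]
          exact (QuotientGroup.eq_one_iff k).mpr hk
        rw [this]
      simp [hα, h1, hn, honeN]
    have hα1 : α 1 = 0 := hαK 1 (Subgroup.one_mem K)
    have hαgen : IsGeneralizedCharacter NH α :=
      ⟨t, (n : ℂ) • oneN, htchar, Helper83.isCharacter_nsmul n honeNchar, rfl⟩
    have hAgen : IsGeneralizedCharacter G A := Helper34.isGeneralizedCharacter_indFun NH hαgen
    have hTgen : IsGeneralizedCharacter G T :=
      Helper34.isGeneralizedCharacter_add hAgen
        (Helper34.IsCharacter.isGeneralizedCharacter (Helper83.isCharacter_nsmul n honechar))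
    have hAcf : IsClassFunction G A := Helper34.indFun_isClassFunction NH α
    have hAres : (fun h : NH => A (h : G)) = α := by
      funext h
      exact indFun_restrict S α hαcf hαK h
    have h_t_one : classInner t oneN = 0 :=
      Helper83.irr_inner_ne (χ := θ) (ψ := Helper83.trivChar NH) hθtriv
    have h_one_t : classInner oneN t = 0 :=
      Helper83.irr_inner_ne (χ := Helper83.trivChar NH) (ψ := θ) (Ne.symm hθtriv)
    have h_one_one : classInner oneN oneN = 1 := Helper83.irr_inner_self (Helper83.trivChar NH)
    have h_t_t : classInner t t = 1 := Helper83.irr_inner_self θ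
    have h_G_one_one : classInner one one = 1 := Helper83.irr_inner_self (Helper83.trivChar G)
    have h_α_α : classInner α α = 1 + (n : ℂ) ^ 2 := by
      rw [hα, Helper34.classInner_sub_left, Helper34.classInner_sub_right,
        Helper34.classInner_sub_right, Helper34.classInner_smul_left, Helper34.classInner_smul_right,
        Helper34.classInner_smul_right, Helper34.classInner_smul_left,
        h_t_t, h_t_one, h_one_t, h_one_one]
      simp only [Complex.conj_natCast]
      ring
    have h_α_one : classInner α oneN = -(n : ℂ) := by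
      rw [hα, Helper34.classInner_sub_left, Helper34.classInner_smul_left, h_t_one, h_one_one]
      ring
    have h_A_A : classInner A A = 1 + (n : ℂ) ^ 2 := by
      rw [hA, Helper34.classInner_indFun_left NH α (indFun NH α) hAcf]
      rw [← hA, hAres, h_α_α]
    have h_A_one : classInner A one = -(n : ℂ) := by
      rw [hA, Helper34.classInner_indFun_left NH α one (Helper83.char_isClassFunction honechar)]
      exact h_α_one
    have h_one_A : classInner one A = -(n : ℂ) := by
      rw [← Helper34.classInner_conj_symm, h_A_one]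
      simp
    have hTnorm : classInner T T = 1 := by
      rw [hT, Helper34.classInner_add_left, Helper34.classInner_add_right,
        Helper34.classInner_add_right, Helper34.classInner_smul_left, Helper34.classInner_smul_right,
        Helper34.classInner_smul_right, Helper34.classInner_smul_left,
        h_A_A, h_A_one, h_one_A, h_G_one_one]
      simp only [Complex.conj_natCast]
      ring
    have hA1 : A 1 = 0 := by
      have := indFun_restrict S α hαcf hαK 1
      simpa [hα1] using this
    have hT1 : T 1 = n := by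
      simp [hT, hA1, hone]
    have hTirr : IsIrrCharacter G T := by
      rcases Helper34.irr_or_neg_irr_of_norm_one hTgen hTnorm with h | h
      · exact h
      · exfalso
        obtain ⟨m, hm, hm1⟩ := Helper05.exists_pos_degree h
        have : ((n + m : ℕ) : ℂ) = 0 := by
          have h2 : (-T) 1 = -(n : ℂ) := by simp [hT1]
          rw [h2] at hm1
          push_cast
          rw [← hm1]
          ring
        have h3 : n + m = 0 := by exact_mod_cast this
        omega
    have hTchar : IsCharacter G T := Helper83.isCharacter_of_irr hTirr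
    refine ⟨Helper83.charKer hTchar, inferInstance, ?_, ?_⟩
    · intro x hx
      rw [Helper83.mem_charKer]
      have : A x = 0 := indFun_kernel α hαK x hx
      simp [hT, this, hA1, hone]
    · intro x hx
      rw [Helper83.mem_charKer] at hx
      have h1 : A (x : G) = α x := indFun_restrict S α hαcf hαK x
      have h2 : T (x : G) = α x + n := by
        simp [hT, h1, hone]
      rw [h2, hT1] at hx
      have h3 : α x = 0 := by
        linear_combination hx
      have h4 : t x = n := by
        have : α x = t x - n := by simp [hα, honeN]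
        rw [this] at h3
        linear_combination h3
      have h5 : t x = (ψ : NH ⧸ K → ℂ) (QuotientGroup.mk x) := rfl
      have h6 : t 1 = (ψ : NH ⧸ K → ℂ) 1 := rfl
      rw [← h5, ← h6, h4, hn]

end Chars

section Main

variable [Finite G] {H : Subgroup G} {K : Subgroup (Subgroup.normalizer (H : Set G))}

local notation "NH" => Subgroup.normalizer (H : Set G)

/-- the elements having a conjugate in `N ∖ K` -/
def bad (H : Subgroup G) (K : Subgroup (Subgroup.normalizer (H : Set G))) : Set G :=
  {x | ∃ (y : G) (hy : y⁻¹ * x * y ∈ Subgroup.normalizer (H : Set G)),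
    (⟨y⁻¹ * x * y, hy⟩ : Subgroup.normalizer (H : Set G)) ∉ K}

theorem card_bad_le (S : Setup H K) :
    Nat.card (bad H K) ≤ (NH).index * Nat.card {z : NH // z ∉ K} := by
  classical
  haveI := S.knormal
  have hex : ∀ x : bad H K, ∃ p : (G ⧸ NH) × {z : NH // z ∉ K},
      p.1.out * ((p.2 : NH) : G) * p.1.out⁻¹ = (x : G) := by
    rintro ⟨x, y, hy, hnK⟩
    obtain ⟨n, hn⟩ := QuotientGroup.mk_out_eq_mul (NH) y
    set q : G ⧸ NH := QuotientGroup.mk y with hq
    have hz : q.out⁻¹ * x * q.out ∈ NH := by
      rw [hn]
      have : (y * (n : G))⁻¹ * x * (y * (n : G)) = (n : G)⁻¹ * (y⁻¹ * x * y) * (n : G) := by group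
      rw [this]
      exact Subgroup.mul_mem _ (Subgroup.mul_mem _ (Subgroup.inv_mem _ n.2) hy) n.2
    have hzK : (⟨q.out⁻¹ * x * q.out, hz⟩ : NH) ∉ K := by
      intro hmem
      apply hnK
      have h1 : (⟨y⁻¹ * x * y, hy⟩ : NH) = n * ⟨q.out⁻¹ * x * q.out, hz⟩ * n⁻¹ := by
        apply Subtype.ext
        simp only [Subgroup.coe_mul, Subgroup.coe_inv]
        rw [hn]
        group
      rw [h1]
      exact S.knormal.conj_mem _ hmem n
    refine ⟨(q, ⟨⟨q.out⁻¹ * x * q.out, hz⟩, hzK⟩), ?_⟩
    simp only
    group
  choose g hg using hex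
  have hinj : Function.Injective g := by
    intro a b hab
    apply Subtype.ext
    rw [← hg a, ← hg b, hab]
  have := Nat.card_le_card_of_injective g hinj
  rwa [Nat.card_prod, ← Subgroup.index_eq_card] at this

theorem exists_normal_complement (S : Setup H K) :
    ∃ L : Subgroup G, L.Normal ∧ L.IsComplement' H := by
  classical
  haveI := S.knormal
  letI : Fintype G := Fintype.ofFinite G
  letI : Fintype (NH ⧸ K) := Fintype.ofFinite _
  letI : Fintype (IrrCharacter (NH ⧸ K)) := Fintype.ofFinite _
  choose Lψ hLn hLker hLres using exists_normal_of_irr S (K := K)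
  set L : Subgroup G := ⨅ ψ, Lψ ψ with hL
  have hLnormal : L.Normal := Subgroup.normal_iInf_normal hLn
  have hkerL : ∀ x : G, x ∉ bad H K → x ∈ L := by
    intro x hx
    rw [hL, Subgroup.mem_iInf]
    intro ψ
    apply hLker ψ x
    intro y hy
    by_contra hnK
    exact hx ⟨y, hy, hnK⟩
  have hLH : ∀ h ∈ H, h ∈ L → h = 1 := by
    intro h hh hhL
    have hhN : h ∈ NH := Subgroup.le_normalizer hh
    have hψ : ∀ ψ : IrrCharacter (NH ⧸ K),
        (ψ : NH ⧸ K → ℂ) (QuotientGroup.mk (⟨h, hhN⟩ : NH)) = (ψ : NH ⧸ K → ℂ) 1 :=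
      fun ψ => hLres ψ ⟨h, hhN⟩ ((Subgroup.mem_iInf.mp hhL) ψ)
    have hq : (QuotientGroup.mk (⟨h, hhN⟩ : NH) : NH ⧸ K) = 1 := by
      by_contra hne
      have h1 := Helper83.sum_irr_degree_mul (G := NH ⧸ K) (QuotientGroup.mk (⟨h, hhN⟩ : NH))
      rw [if_neg hne] at h1
      have h2 := Helper83.sum_irr_degree_mul (G := NH ⧸ K) 1
      rw [if_pos rfl] at h2
      have h3 : (Nat.card (NH ⧸ K) : ℂ) = 0 := by
        rw [← h2, ← h1]
        apply Finset.sum_congr rfl
        intro θ _
        rw [hψ θ]
      have h4 : Nat.card (NH ⧸ K) = 0 := by exact_mod_cast h3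
      exact Nat.card_pos.ne' h4
    have hxK : (⟨h, hhN⟩ : NH) ∈ K := (QuotientGroup.eq_one_iff _).mp hq
    have hxH : (⟨h, hhN⟩ : NH) ∈ H.subgroupOf NH := Subgroup.mem_subgroupOf.mpr hh
    have hmem : (⟨h, hhN⟩ : NH) ∈ K ⊓ H.subgroupOf NH := ⟨hxK, hxH⟩
    rw [S.compl.disjoint.eq_bot] at hmem
    exact congrArg Subtype.val (Subgroup.mem_bot.mp hmem)
  have hdisj : Disjoint L H := by
    rw [Subgroup.disjoint_def]
    intro x hxL hxH
    exact hLH x hxH hxL
  refine ⟨L, hLnormal, ?_⟩
  apply Subgroup.isComplement'_of_card_mul_and_disjoint _ hdisj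
  -- counting
  have hb := card_bad_le S
  have h1 : Nat.card G ≤ Nat.card L + Nat.card (bad H K) := by
    have hinj : Function.Injective (fun x : G =>
        if hx : x ∈ bad H K then (Sum.inr ⟨x, hx⟩ : L ⊕ bad H K)
        else Sum.inl ⟨x, hkerL x hx⟩) := by
      intro a b hab
      simp only at hab
      by_cases ha : a ∈ bad H K <;> by_cases hb : b ∈ bad H K
      · rw [dif_pos ha, dif_pos hb] at hab
        simpa using hab
      · rw [dif_pos ha, dif_neg hb] at hab
        simp at hab
      · rw [dif_neg ha, dif_pos hb] at hab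
        simp at hab
      · rw [dif_neg ha, dif_neg hb] at hab
        simpa using hab
    have := Nat.card_le_card_of_injective _ hinj
    rwa [Nat.card_sum] at this
  have h2 : Nat.card {z : NH // z ∉ K} + Nat.card K = Nat.card NH := by
    rw [add_comm, ← Nat.card_sum]
    exact Nat.card_congr (Equiv.sumCompl (· ∈ K))
  have h3 : Nat.card K * Nat.card H = Nat.card NH := by
    rw [← card_subgroupOf_eq H]
    exact S.compl.card_mul_card
  have h4 : (NH).index * Nat.card NH = Nat.card G := Subgroup.index_mul_card _
  have h5 : Nat.card L * Nat.card H ≤ Nat.card G := by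
    have := Nat.card_le_card_of_injective _ (Subgroup.mul_injective_of_disjoint hdisj)
    rwa [Nat.card_prod] at this
  -- arithmetic
  have h6 : (NH).index * Nat.card K ≤ Nat.card L := by
    have : (NH).index * Nat.card {z : NH // z ∉ K} + (NH).index * Nat.card K = Nat.card G := by
      rw [← Nat.mul_add, h2, h4]
    omega
  have h7 : Nat.card G ≤ Nat.card L * Nat.card H := by
    calc Nat.card G = (NH).index * Nat.card K * Nat.card H := by
          rw [mul_assoc, h3, h4]
      _ ≤ Nat.card L * Nat.card H := Nat.mul_le_mul_right _ h6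
  exact le_antisymm h5 h7

end Main

end Cfsg.Agent.Lib.Helper12.TIHall
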